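import Cfsg.Agent.Lib.RankThreeEss.Main

/-!
The automizer of an essential subgroup on its Frattini quotient.
-/

set_option autoImplicit false
set_option linter.unusedSectionVars false
set_option linter.style.haveILetI false
set_option maxHeartbeats 2000000

open scoped commutatorElement
open Cfsg Cfsg.FusionSystem Cfsg.Agent.FusionSys Cfsg.Agent.MaxEss Cfsg.Agent.RankThreeEss

namespace Cfsg.Agent.RankThreeCore

/-- The Frattini quotient of a finite `p`-group as a commutative group. -/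
@[reducible] def quotCommGroup {p : ℕ} [Fact p.Prime] {E : Type*} [Group E] [Finite E] (hE : IsPGroup p E) :
    CommGroup (E ⧸ frattini E) :=
  { (inferInstance : Group (E ⧸ frattini E)) with
    mul_comm := fun a b => by
      obtain ⟨a, rfl⟩ := QuotientGroup.mk'_surjective (frattini E) a
      obtain ⟨b, rfl⟩ := QuotientGroup.mk'_surjective (frattini E) b
      refine commutatorElement_eq_one_iff_mul_comm.1 ?_
      rw [← map_commutatorElement]
      exact (QuotientGroup.eq_one_iff _).2 (commutator_mem_frattini hE a b) }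

theorem quot_exp {p : ℕ} [Fact p.Prime] {E : Type*} [Group E] [Finite E] (hE : IsPGroup p E)
    (r : E ⧸ frattini E) : r ^ p = 1 := by
  obtain ⟨g, rfl⟩ := QuotientGroup.mk'_surjective (frattini E) r
  rw [← map_pow]
  exact (QuotientGroup.eq_one_iff _).2 (Cfsg.Agent.PGroupBasics.pow_mem_frattini hE g)

variable {Ω : Type*} [Group Ω] {S : Subgroup Ω} [Finite S]

/-- The action of the automizer on the Frattini quotient. -/
noncomputable def rho (F : FusionSystem S) (E₀ : Subgroup S) : autL F E₀ →* MulAut (E₀ ⧸ frattini E₀) :=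
  (autQuot (frattini E₀)).comp (autL F E₀).subtype

/-- The image of the automizer on the Frattini quotient. -/
noncomputable abbrev Gq (F : FusionSystem S) (E₀ : Subgroup S) : Subgroup (MulAut (E₀ ⧸ frattini E₀)) :=
  (rho F E₀).range

theorem rho_apply {F : FusionSystem S} {E₀ : Subgroup S} (a : autL F E₀) :
    rho F E₀ a = autQuot (frattini E₀) (a : MulAut E₀) := rfl

/-- The action of the normalizer on the Frattini quotient. -/
noncomputable def kappa (F : FusionSystem S) (E₀ : Subgroup S) : nrm E₀ →* Gq F E₀ :=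
  (rho F E₀).rangeRestrict.comp ((conjN E₀).codRestrict (autL F E₀) fun g => conj_mem_autL g)

theorem kappa_apply {F : FusionSystem S} {E₀ : Subgroup S} (g : nrm E₀) :
    ((kappa F E₀ g : Gq F E₀) : MulAut (E₀ ⧸ frattini E₀)) = autQuot (frattini E₀) (conjN E₀ g) := rfl

variable {F : FusionSystem S} {p : ℕ} [hp : Fact p.Prime]
  (hS : IsPGroup p S) (hF : F.IsSaturated p) {E₀ : Subgroup S} (hE : F.IsEssential p (om E₀))
include hS hF hE

theorem inn_of_rho_eq_one (a : autL F E₀) (ha : rho F E₀ a = 1) :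
    MulAut.congr (eL E₀) (a : MulAut E₀) ∈ Inn (om E₀) := by
  haveI := finite_of_le (om_le E₀)
  rw [← (essential_radical hS hF hE).2]
  refine ⟨autEquiv E₀ a, le_sSup (s := {N : Subgroup (F.autGroup (om E₀)) | N.Normal ∧ IsPGroup p N})
    (a := (rho F E₀).ker.map (autEquiv E₀).toMonoidHom) ⟨?_, ?_⟩ ⟨a, ha, rfl⟩, rfl⟩
  · exact Subgroup.Normal.map (MonoidHom.normal_ker (rho F E₀)) _ (autEquiv E₀).surjective
  · refine IsPGroup.map ?_ _
    exact ((isPGroup_ker_autQuot (hS.to_subgroup E₀) (frattini E₀) le_rfl).comap_of_injective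
      (autL F E₀).subtype (autL F E₀).subtype_injective :
        IsPGroup p ((autQuot (frattini E₀)).ker.comap (autL F E₀).subtype))

omit hS hF hE in
theorem exists_conj_of_inn (a : autL F E₀) (h : MulAut.congr (eL E₀) (a : MulAut E₀) ∈ Inn (om E₀)) :
    ∃ q : E₀, (a : MulAut E₀) = MulAut.conj q := by
  obtain ⟨q, hq⟩ := h
  refine ⟨(eL E₀).symm q, MulEquiv.ext fun x => (eL E₀).injective ?_⟩
  have h := congrArg (fun γ : MulAut (om E₀) => γ (eL E₀ x)) hq
  rw [MulAut.conj_apply, map_mul, map_mul, map_inv, MulEquiv.apply_symm_apply]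
  refine Eq.trans ?_ h.symm
  show eL E₀ ((a : MulAut E₀) x) = eL E₀ ((a : MulAut E₀) ((eL E₀).symm (eL E₀ x)))
  rw [MulEquiv.symm_apply_apply]

theorem exists_lift (a b : autL F E₀) (h : rho F E₀ a = rho F E₀ b) :
    ∃ q : E₀, (a : MulAut E₀) = MulAut.conj q * b := by
  obtain ⟨q, hq⟩ := exists_conj_of_inn _ (inn_of_rho_eq_one hS hF hE (a * b⁻¹)
    (by rw [map_mul, map_inv, h, mul_inv_cancel]))
  refine ⟨q, ?_⟩
  rw [← hq, Subgroup.coe_mul, Subgroup.coe_inv, inv_mul_cancel_right]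

theorem ker_kappa (g : nrm E₀) (hg : autQuot (frattini E₀) (conjN E₀ g) = 1) : g ∈ eIn E₀ := by
  have h := inn_of_rho_eq_one hS hF hE ⟨conjN E₀ g, conj_mem_autL g⟩ hg
  have := mem_of_conj_mem_inn (F := F) (centralizerIn_le_of_centric hE.1) (g : S).2 (om_le E₀) (fun x => by
    obtain ⟨z, rfl⟩ := (eL E₀).surjective x
    rw [congr_eL_apply]
    rfl) h
  exact (Subgroup.mem_map_iff_mem S.subtype_injective).1 this

theorem ker_kappa' (g : nrm E₀) (hg : kappa F E₀ g = 1) : g ∈ eIn E₀ :=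
  ker_kappa hS hF hE g (congrArg Subtype.val hg)

/-- The strongly embedded subgroup containing the image of the normalizer. -/
theorem exists_M : ∃ M : Subgroup (Gq F E₀), IsStronglyPEmbedded p M ∧ (kappa F E₀).range ≤ M := by
  haveI := finite_of_le (om_le E₀)
  let φ : F.autGroup (om E₀) →* Gq F E₀ := (rho F E₀).rangeRestrict.comp (autEquiv E₀).symm.toMonoidHom
  have hφ : Function.Surjective φ := (rho F E₀).rangeRestrict_surjective.comp (autEquiv E₀).symm.surjective
  have hkφ : (Inn (om E₀)).subgroupOf (F.autGroup (om E₀)) = φ.ker := by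
    ext b
    obtain ⟨a, rfl⟩ := (autEquiv E₀).surjective b
    rw [MonoidHom.mem_ker, Subgroup.mem_subgroupOf]
    constructor
    · intro h
      obtain ⟨q, hq⟩ := exists_conj_of_inn a h
      refine Subtype.ext ?_
      show rho F E₀ ((autEquiv E₀).symm (autEquiv E₀ a)) = 1
      rw [MulEquiv.symm_apply_apply, rho_apply, hq, autQuot_conj_one (hS.to_subgroup E₀)]
    · intro h
      refine inn_of_rho_eq_one hS hF hE a ?_
      have h' : rho F E₀ ((autEquiv E₀).symm (autEquiv E₀ a)) = 1 := congrArg Subtype.val h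
      rwa [MulEquiv.symm_apply_apply] at h'
  let e : F.autGroup (om E₀) ⧸ (Inn (om E₀)).subgroupOf (F.autGroup (om E₀)) ≃* Gq F E₀ :=
    (QuotientGroup.quotientMulEquivOfEq hkφ).trans (QuotientGroup.quotientKerEquivOfSurjective φ hφ)
  obtain ⟨M₀, hM₀, hle⟩ := exists_stronglyEmbedded_ge_outS hS hF hE
  refine ⟨M₀.map e.toMonoidHom, stronglyEmbedded_map_equiv e hM₀, ?_⟩
  rintro _ ⟨g, rfl⟩
  refine ⟨outMk F (om E₀) (autEquiv E₀ ⟨conjN E₀ g, conj_mem_autL g⟩),
    hle ⟨_, conj_mem_induced (g := (g : S)) (a := conjN E₀ g) fun x => rfl, rfl⟩, ?_⟩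
  refine Subtype.ext ?_
  show rho F E₀ ((autEquiv E₀).symm (autEquiv E₀ ⟨conjN E₀ g, conj_mem_autL g⟩)) = autQuot _ (conjN E₀ g)
  rw [MulEquiv.symm_apply_apply]
  rfl

omit hF hE in
theorem kappa_isPGroup : IsPGroup p (kappa F E₀).range :=
  (hS.to_subgroup (nrm E₀)).of_surjective (kappa F E₀).rangeRestrict (kappa F E₀).rangeRestrict_surjective

theorem exists_outside_eIn : ∃ y : nrm E₀, y ∉ eIn E₀ := by
  haveI := hS.isNilpotent
  have hlt : E₀ < nrm E₀ := normalizerCondition_of_isNilpotent _ (lt_top_iff_ne_top.2 fun h => by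
    have h1 : om E₀ = S := by
      show E₀.map S.subtype = S
      rw [h, ← MonoidHom.range_eq_map, Subgroup.range_subtype]
    exact (essential_lt hS hF hE).ne h1)
  obtain ⟨g, hg, hgE⟩ := SetLike.exists_of_lt hlt
  exact ⟨⟨g, hg⟩, hgE⟩

theorem kappa_ne_bot : (kappa F E₀).range ≠ ⊥ := fun h => by
  obtain ⟨y, hy⟩ := exists_outside_eIn hS hF hE
  exact hy (ker_kappa' hS hF hE y (Subgroup.mem_bot.1 (h.le ⟨y, rfl⟩)))

theorem top_of_gen {y : nrm E₀} (hP : (kappa F E₀).range = Subgroup.zpowers (kappa F E₀ y)) :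
    eIn E₀ ⊔ Subgroup.zpowers y = ⊤ := by
  refine eq_top_iff.2 fun g _ => ?_
  obtain ⟨k, hk⟩ := Subgroup.mem_zpowers_iff.1 (hP.le ⟨g, rfl⟩)
  have h : g * (y ^ k)⁻¹ ∈ eIn E₀ := ker_kappa' hS hF hE _ (by rw [map_mul, map_inv, map_zpow, hk, mul_inv_cancel])
  have h2 := mul_mem (Subgroup.mem_sup_left (T := Subgroup.zpowers y) h)
    (Subgroup.mem_sup_right (S := eIn E₀) (zpow_mem (Subgroup.mem_zpowers y) k))
  rwa [inv_mul_cancel_right] at h2

theorem pow_mem_of_gen {y : nrm E₀} (hy : kappa F E₀ y ^ p = 1) : y ^ p ∈ eIn E₀ :=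
  ker_kappa' hS hF hE _ (by rw [map_pow]; exact hy)

/-- An automorphism acting on the generator as a power normalizes the induced automorphisms. -/
theorem exists_normalizing {y : nrm E₀} (hP : (kappa F E₀).range = Subgroup.zpowers (kappa F E₀ y))
    (hy : kappa F E₀ y ^ p = 1) (η : autL F E₀) (μ : ZMod p)
    (hconj : rho F E₀ η * (kappa F E₀ y : MulAut (E₀ ⧸ frattini E₀)) * (rho F E₀ η)⁻¹ =
      ev (kappa F E₀ y : MulAut (E₀ ⧸ frattini E₀)) μ) :
    (∀ g : nrm E₀, ∃ k : nrm E₀, (η : MulAut E₀) * conjN E₀ g * (η : MulAut E₀)⁻¹ = conjN E₀ k) ∧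
      autQuot (frattini E₀) ((η : MulAut E₀) * conjN E₀ y * (η : MulAut E₀)⁻¹) =
        autQuot (frattini E₀) (conjN E₀ (ev y μ)) := by
  constructor
  · intro g
    obtain ⟨i, hi⟩ := exists_ev hy (hP.le ⟨g, rfl⟩)
    have hi' : autQuot (frattini E₀) (conjN E₀ g) = ev (kappa F E₀ y : MulAut (E₀ ⧸ frattini E₀)) i := by
      rw [← kappa_apply (F := F), hi]
      exact map_ev (Gq F E₀).subtype i
    obtain ⟨q, hq⟩ := exists_lift hS hF hE (η * ⟨conjN E₀ g, conj_mem_autL g⟩ * η⁻¹)
      ⟨conjN E₀ (ev (ev y μ) i), conj_mem_autL _⟩ (by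
        rw [map_mul, map_mul, map_inv, rho_apply (⟨conjN E₀ g, conj_mem_autL g⟩ : autL F E₀),
          rho_apply (⟨conjN E₀ (ev (ev y μ) i), conj_mem_autL _⟩ : autL F E₀)]
        show _ * autQuot (frattini E₀) (conjN E₀ g) * _ = autQuot (frattini E₀) (conjN E₀ (ev (ev y μ) i))
        rw [hi', map_ev, map_ev, map_ev, map_ev, show autQuot (frattini E₀) (conjN E₀ y) =
          (kappa F E₀ y : MulAut (E₀ ⧸ frattini E₀)) from rfl, ← hconj]
        exact map_ev (MulAut.conj (rho F E₀ η)) i)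
    refine ⟨lift E₀ q * ev (ev y μ) i, ?_⟩
    rw [map_mul, conjN_lift]
    exact hq
  · rw [map_mul, map_mul, map_inv, map_ev (conjN E₀), map_ev (autQuot _)]
    exact hconj

end Cfsg.Agent.RankThreeCore
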