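import Cfsg.Agent.Lib.RankThreeCore.TCase
import Cfsg.Agent.Lib.Fusion.Normal
import Cfsg.Agent.Lib.Fusion.SmallCentreOdd

/-!
A saturated fusion system with trivial core in sectional rank three has a pearl.
-/

set_option autoImplicit false
set_option linter.unusedSectionVars false
set_option linter.style.haveILetI false
set_option maxHeartbeats 2000000

open scoped commutatorElement
open Cfsg Cfsg.FusionSystem Cfsg.Agent.FusionSys Cfsg.Agent.MaxEss Cfsg.Agent.RankThreeEss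

namespace Cfsg.Agent.RankThreeCore

variable {Ω : Type*} [Group Ω] {S : Subgroup Ω} [Finite S] {F : FusionSystem S} {p : ℕ} [hp : Fact p.Prime]

theorem om_preserve {E₀ Q₀ : Subgroup S} (h : ∀ a ∈ autL F E₀, ∀ x : E₀, (x : S) ∈ Q₀ → ((a x : E₀) : S) ∈ Q₀)
    (α : MulAut (om E₀)) (hα : α ∈ F.autGroup (om E₀)) (y : om E₀) (hy : (y : Ω) ∈ om Q₀) :
    ((α y : om E₀) : Ω) ∈ om Q₀ := by
  obtain ⟨a, rfl⟩ := (MulAut.congr (eL E₀)).surjective α
  obtain ⟨x, rfl⟩ := (eL E₀).surjective y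
  rw [congr_eL_apply]
  exact ⟨_, h a hα x ((Subgroup.mem_map_iff_mem S.subtype_injective).1 hy), rfl⟩

theorem contra_of_invariant (hS : IsPGroup p S) (hF : F.IsSaturated p) (hO : F.core = ⊥) (Q₀ : Subgroup S)
    (hQ : Q₀ ≠ ⊥) (hS' : ∀ φ ∈ F.autGroup S, ∀ x ∈ Q₀, φ x ∈ Q₀)
    (hE : ∀ E₀ : Subgroup S, F.IsEssential p (om E₀) →
      Q₀ ≤ E₀ ∧ ∀ a ∈ autL F E₀, ∀ x : E₀, (x : S) ∈ Q₀ → ((a x : E₀) : S) ∈ Q₀) : False := by
  have hN : F.IsNormal (om Q₀) := by
    refine isNormal_of_autGroup_preserve hS hF fun P hP => ?_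
    rcases hP with hP | hP
    · subst P
      refine ⟨om_le Q₀, fun α hα y hy => ⟨α y, hS' α hα y ?_, rfl⟩⟩
      exact (Subgroup.mem_map_iff_mem S.subtype_injective).1 hy
    · obtain ⟨E₀, rfl⟩ := exists_om hP.1.1
      obtain ⟨hle, hpres⟩ := hE E₀ hP
      exact ⟨Subgroup.map_mono hle, fun α hα y hy => om_preserve hpres α hα y hy⟩
  refine hQ ((Subgroup.map_eq_bot_iff_of_injective Q₀ S.subtype_injective).1 (le_bot_iff.1 ?_))
  exact hO ▸ isNormal_le_core hN

theorem autL_map_char {E₀ : Subgroup S} (K : Subgroup E₀) (hK : K.Characteristic) :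
    ∀ a ∈ autL F E₀, ∀ x : E₀, (x : S) ∈ K.map E₀.subtype → ((a x : E₀) : S) ∈ K.map E₀.subtype := by
  intro a _ x hx
  exact ⟨a x, char_mem hK a ((Subgroup.mem_map_iff_mem E₀.subtype_injective).1 hx), rfl⟩

/-- An automorphism of `S` of `p`-power order in the system fixes the centre. -/
theorem fix_center (hS : IsPGroup p S) (hF : F.IsSaturated p) {κ : MulAut S} (hκ : κ ∈ F.autGroup S) (k : ℕ)
    (hk : κ ^ p ^ k = 1) {z : S} (hz : ∀ g, Commute z g) : κ z = z := by
  have hfn : F.IsFullyNormalized S := by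
    refine ⟨le_rfl, fun Q _ => ?_⟩
    haveI : Finite (normalizerIn S S) := finite_of_le inf_le_left
    exact Subgroup.card_le_of_le (inf_le_left.trans (le_inf le_rfl Subgroup.le_normalizer))
  obtain ⟨R, hR⟩ := (fullyNormalized_imp hS hF hfn).2.2
  haveI hRn : (R : Subgroup (F.autGroup S)).Normal := ⟨fun b hb a => by
    rw [hR] at hb ⊢
    obtain ⟨g, hg, hge⟩ := (mem_autInducedBy_iff _).1 (Subgroup.mem_subgroupOf.1 hb)
    refine Subgroup.mem_subgroupOf.2 ((mem_autInducedBy_iff _).2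
      ⟨(((a : MulAut S) ⟨g, hg⟩ : S) : Ω), ((a : MulAut S) ⟨g, hg⟩).2, fun x => ?_⟩)
    obtain ⟨x, rfl⟩ := (a : MulAut S).surjective x
    have hb' : (b : MulAut S) x = ⟨g, hg⟩ * x * (⟨g, hg⟩ : S)⁻¹ := Subtype.ext (hge x)
    show (((a : MulAut S) ((b : MulAut S) ((a : MulAut S)⁻¹ ((a : MulAut S) x))) : S) : Ω) = _
    rw [show (a : MulAut S)⁻¹ ((a : MulAut S) x) = x from (a : MulAut S).symm_apply_apply x, hb', map_mul, map_mul,
      map_inv]
    rfl⟩
  set κ' : F.autGroup S := ⟨κ, hκ⟩ with hκ'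
  have hkp : IsPGroup p (Subgroup.zpowers κ') := fun x => ⟨k, by
    obtain ⟨x, hx⟩ := x
    obtain ⟨n, rfl⟩ := Subgroup.mem_zpowers_iff.1 hx
    refine Subtype.ext (Subtype.ext ?_)
    show ((κ ^ n) ^ p ^ k) = 1
    rw [← zpow_natCast, zpow_comm, zpow_natCast, hk, one_zpow]⟩
  have hmax := R.is_maximal' (hkp.to_sup_of_normal_right R.isPGroup') le_sup_right
  have hκR : κ' ∈ (R : Subgroup (F.autGroup S)) := hmax ▸ Subgroup.mem_sup_left (Subgroup.mem_zpowers κ')
  rw [hR] at hκR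
  obtain ⟨g, hg, hge⟩ := (mem_autInducedBy_iff _).1 (Subgroup.mem_subgroupOf.1 hκR)
  refine Subtype.ext ?_
  rw [hge z]
  have h := congrArg Subtype.val ((hz ⟨g, hg⟩).eq)
  simp only [Subgroup.coe_mul] at h
  rw [← h, mul_inv_cancel_right]

/-- The torus element and any automorphism of `S` commute on the fixed line. -/
theorem line_preserved (hS : IsPGroup p S) (hF : F.IsSaturated p) {w u : S} (hwp : w ^ p = 1) (hup : u ^ p = 1)
    (hu : u ∉ Subgroup.zpowers w) (hw1 : w ≠ 1) (hwc : ∀ g, Commute w g) (huc : ∀ g, Commute u g)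
    (hfrat : frattini S = Subgroup.zpowers w)
    (hcen : ∀ x : S, (∀ g, Commute x g) → ∃ a b : ZMod p, x = ev w a * ev u b)
    {χ : MulAut S} (hχ : χ ∈ F.autGroup S) {t : ZMod p} (ht : t ≠ 1) (hχw : χ w = ev w t) (hχu : χ u = u)
    {φ : MulAut S} (hφ : φ ∈ F.autGroup S) : φ u ∈ Subgroup.zpowers u := by
  have hz : ∀ g, Commute (φ u) g := fun g => by
    obtain ⟨g, rfl⟩ := φ.surjective g
    exact (huc g).map φ.toMonoidHom
  obtain ⟨a, b, hab⟩ := hcen _ hz
  set κ : MulAut S := χ * φ * χ⁻¹ * φ⁻¹ with hκd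
  have hκA : κ ∈ F.autGroup S := mul_mem (mul_mem (mul_mem hχ hφ) (inv_mem hχ)) (inv_mem hφ)
  have hmem : ∀ ψ : MulAut S, ψ w ∈ Subgroup.zpowers w := fun ψ => by
    rw [← hfrat]
    exact char_mem inferInstance ψ (hfrat.ge (Subgroup.mem_zpowers w))
  have hκw : κ w = w := by
    obtain ⟨i, hi⟩ := exists_ev hwp (hmem χ⁻¹)
    obtain ⟨j, hj⟩ := exists_ev hwp (hmem φ⁻¹)
    obtain ⟨i', hi'⟩ := exists_ev hwp (hmem φ)
    have hs : ∀ (ψ : MulAut S) (i : ZMod p), ψ w = ev w i → ∀ c, ψ (ev w c) = ev w (i * c) := fun ψ i hi c => by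
      rw [map_ev, hi, ← ev_mul hwp]
    have h1 : i' * j = 1 := by
      refine ev_inj hwp hw1 ?_
      rw [← hs φ i' hi' j, ← hj, ev_one]
      exact φ.apply_symm_apply w
    have h2 : t * i = 1 := by
      refine ev_inj hwp hw1 ?_
      rw [← hs χ t hχw i, ← hi, ev_one]
      exact χ.apply_symm_apply w
    show χ (φ (χ⁻¹ (φ⁻¹ w))) = w
    rw [hj, hs _ i hi, hs φ i' hi', hs χ t hχw,
      show t * (i' * (i * j)) = (1 : ZMod p) by linear_combination (t * i) * h1 + h2, ev_one]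
  have hκz : κ (φ u) = ev w ((t - 1) * a) * φ u := by
    show χ (φ (χ⁻¹ (φ⁻¹ (φ u)))) = _
    rw [show φ⁻¹ (φ u) = u from φ.symm_apply_apply u,
      show χ⁻¹ u = u from (MulEquiv.symm_apply_eq χ).2 hχu.symm, hab, map_mul, map_ev, map_ev, hχw, hχu,
      ← ev_mul hwp, ← mul_assoc, ← ev_add hwp, show (t - 1) * a + a = t * a by ring]
  have hiter : ∀ n : ℕ, (κ ^ n) (φ u) = ev w ((n : ZMod p) * ((t - 1) * a)) * φ u := by
    intro n
    induction n with
    | zero => rw [pow_zero, Nat.cast_zero, zero_mul, ev_zero, one_mul]; rfl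
    | succ n ih =>
      rw [pow_succ', MulAut.mul_apply, ih, map_mul, map_ev, hκw, hκz, ← mul_assoc, ← ev_add hwp, Nat.cast_succ,
        add_mul, one_mul]
  obtain ⟨e, m, hm, hord⟩ := Nat.exists_eq_pow_mul_and_not_dvd (orderOf_pos κ).ne' p hp.out.ne_one
  have hfix := fix_center hS hF (pow_mem hκA m) e
    (by rw [← pow_mul, mul_comm, ← hord, pow_orderOf_eq_one]) hz
  rw [hiter, mul_eq_right] at hfix
  have h0 := ev_eq_one hwp hw1 hfix
  have hm0 : (m : ZMod p) ≠ 0 := fun h => hm ((ZMod.natCast_eq_zero_iff m p).1 h)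
  have ha : a = 0 := ((mul_eq_zero.1 ((mul_eq_zero.1 h0).resolve_left hm0)).resolve_left (sub_ne_zero.2 ht))
  rw [hab, ha, ev_zero, one_mul]
  exact ev_mem (Subgroup.mem_zpowers u) b

/-- The frame with trivial Frattini subgroup. -/
theorem centre_of_frame {G : Type*} [Group G] [Finite G] (hG : IsPGroup p G) {E : Subgroup G} [E.Normal]
    {y v w u : G}
    (hf : TFrame p E y v w u) (hΦ : phi E = ⊥) :
    w ^ p = 1 ∧ u ^ p = 1 ∧ u ∉ Subgroup.zpowers w ∧ w ≠ 1 ∧ (∀ g, Commute w g) ∧ (∀ g, Commute u g) ∧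
      frattini G = Subgroup.zpowers w ∧
      ∀ x : G, (∀ g, Commute x g) → ∃ a b : ZMod p, x = ev w a * ev u b := by
  obtain ⟨hy, hyp, htop, hgen, r1, r2, r3, hw, hu, hv, hfrat⟩ := hf
  rw [hΦ] at hyp r1 r2 r3 hw hu hfrat
  rw [bot_sup_eq] at hu hfrat
  have hvE : v ∈ E := hgen ▸ Subgroup.subset_closure (by simp)
  have huE : u ∈ E := hgen ▸ Subgroup.subset_closure (by simp)
  have hwE : w ∈ E := hgen ▸ Subgroup.subset_closure (by simp)
  have hEc : ∀ a ∈ E, ∀ b ∈ E, Commute a b := fun a ha b hb =>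
    commutatorElement_eq_one_iff_commute.1 (Subgroup.mem_bot.1 (hΦ ▸ comm_mem_phi hG ha hb))
  have hEp : ∀ a ∈ E, a ^ p = 1 := fun a ha => Subgroup.mem_bot.1 (hΦ ▸ pow_mem_phi hG ha)
  have hwy : Commute y w := commutatorElement_eq_one_iff_commute.1 (Subgroup.mem_bot.1 r2)
  have huy : Commute y u := commutatorElement_eq_one_iff_commute.1 (Subgroup.mem_bot.1 r3)
  have hyv : ⁅y, v⁆ = w := (inv_mul_eq_one.1 (Subgroup.mem_bot.1 r1)).symm
  have hw1 : w ≠ 1 := fun h => hw (Subgroup.mem_bot.2 h)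
  have hc : ∀ x ∈ E, Commute y x → ∀ g, Commute x g := fun x hx hxy g =>
    (Subgroup.mem_centralizer_iff.1 (all_of_top htop (K := Subgroup.centralizer {x})
      (fun e he => Subgroup.mem_centralizer_iff.2 (by rintro b rfl; exact (hEc _ hx e he).eq))
      (Subgroup.mem_centralizer_iff.2 (by rintro b rfl; exact hxy.eq.symm)) g) x rfl :)
  have hwc := hc w hwE hwy
  refine ⟨hEp w hwE, hEp u huE, hu, hw1, hwc, hc u huE huy, hfrat, fun x hx => ?_⟩
  obtain ⟨k, hk⟩ := exists_ev_sup (show y ^ p ∈ E from by rw [Subgroup.mem_bot.1 hyp]; exact one_mem _)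
    (htop.ge (Subgroup.mem_top x))
  obtain ⟨e, he, rfl⟩ : ∃ e ∈ E, x = ev y k * e := ⟨_, hk, (mul_inv_cancel_left _ _).symm⟩
  have hk0 : k = 0 := by
    have h := commutatorElement_eq_one_iff_commute.2 (hx v)
    rw [show ⁅ev y k * e, v⁆ = ev y k * ⁅e, v⁆ * (ev y k)⁻¹ * ⁅ev y k, v⁆ by
        simp only [commutatorElement_def]; group,
      commutatorElement_eq_one_iff_commute.2 (hEc e he v hvE), mul_one, mul_inv_cancel, one_mul,
      comm_ev_left (by rw [hyv]; exact hwc), hyv] at h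
    exact ev_eq_one (hEp w hwE) hw1 h
  rw [hk0, ev_zero, one_mul] at hx ⊢
  haveI hWn : (Subgroup.zpowers w).Normal := ⟨fun z hz g => by
    obtain ⟨n, rfl⟩ := Subgroup.mem_zpowers_iff.1 hz
    rw [← ((hwc g).zpow_left n).eq, mul_inv_cancel_right]
    exact zpow_mem (Subgroup.mem_zpowers w) n⟩
  haveI hKn : (Subgroup.zpowers w ⊔ Subgroup.zpowers u).Normal := ⟨fun z hz g => by
    obtain ⟨a, ha, b, hb, rfl⟩ := Subgroup.mem_sup_of_normal_left.1 hz
    obtain ⟨n, rfl⟩ := Subgroup.mem_zpowers_iff.1 ha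
    obtain ⟨m, rfl⟩ := Subgroup.mem_zpowers_iff.1 hb
    have h := ((hwc g).zpow_left n).mul_left ((hc u huE huy g).zpow_left m)
    rwa [← h.eq, mul_inv_cancel_right]⟩
  have hle : E ≤ (Subgroup.zpowers w ⊔ Subgroup.zpowers u) ⊔ Subgroup.zpowers v := by
    rw [← hgen, Subgroup.closure_le]
    rintro z (rfl | rfl | rfl)
    exacts [Subgroup.mem_sup_right (Subgroup.mem_zpowers _),
      Subgroup.mem_sup_left (Subgroup.mem_sup_left (Subgroup.mem_zpowers _)),
      Subgroup.mem_sup_left (Subgroup.mem_sup_right (Subgroup.mem_zpowers _))]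
  obtain ⟨i, hi⟩ := exists_ev_sup (by rw [hEp v hvE]; exact one_mem _) (hle he)
  obtain ⟨b, hb⟩ := exists_ev_sup (by rw [hEp u huE]; exact one_mem _) hi
  obtain ⟨a, ha⟩ := exists_ev (hEp w hwE) hb
  have he' : e = ev v i * (ev u b * ev w a) := by rw [← ha, mul_inv_cancel_left, mul_inv_cancel_left]
  have hi0 : i = 0 := by
    have h := commutatorElement_eq_one_iff_commute.2 (hx y).symm
    have hub : Commute y (ev u b * ev w a) := (huy.evRight b).mul_right (hwy.evRight a)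
    rw [he', show ⁅y, ev v i * (ev u b * ev w a)⁆ = ⁅y, ev v i⁆ * (ev v i * ⁅y, ev u b * ev w a⁆ * (ev v i)⁻¹) by
      simp only [commutatorElement_def]; group, commutatorElement_eq_one_iff_commute.2 hub, mul_one, mul_inv_cancel,
      mul_one, comm_ev_right (by rw [hyv]; exact hwc), hyv] at h
    exact ev_eq_one (hEp w hwE) hw1 h
  refine ⟨a, b, ?_⟩
  rw [he', hi0, ev_zero, one_mul]
  exact (((hwc u).evLeft a).evRight b).eq.symm

theorem has_pearl (hS : IsPGroup p S) (h5 : 5 ≤ p) (hsec : Cfsg.SectionalPRankLE p 3 S)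
    (hsec2 : ¬ Cfsg.SectionalPRankLE p 2 S) (hF : F.IsSaturated p) (hO : F.core = ⊥) :
    ∃ E : Subgroup Ω, (F.IsEssential p E ∧ ((IsElementaryAbelian p E ∧ Nat.card E = p ^ 2) ∨
      (IsExtraspecial p E ∧ Nat.card E = p ^ 3 ∧ ∀ x ∈ E, x ^ p = 1))) := by
  by_contra hno
  push Not at hno
  have hp2 : p ≠ 2 := by omega
  have hdec : ∀ E₀ : Subgroup S, F.IsEssential p (om E₀) → Exc p E₀ ∨ TInfo F p E₀ ∨ JData p E₀ := by
    intro E₀ hE
    rcases rank_cases hS hF hsec hE with h | h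
    · rcases pearl_or_exc hS hF h5 hsec hE h with h' | h'
      · rcases h' with ⟨h1, h2⟩ | ⟨h1, h2, h3⟩
        · exact absurd h2 ((hno _ hE).1 h1)
        · obtain ⟨x, hx, hx'⟩ := (hno _ hE).2 h1 h2
          exact absurd (h3 x hx) hx'
      · exact Or.inl h'
    · exact Or.inr (tInfo_or_jData hS hF h5 hsec hE h)
  have hidxT : ∀ {E₀ : Subgroup S}, TInfo F p E₀ → (frattini S).index = p ^ 3 := fun {E₀} h => by
    obtain ⟨hn, hi, y, v, w, u, hf⟩ := h.tData
    exact (tFacts hS hp2 hi hf).1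
  have hidxJ : ∀ {E₀ : Subgroup S}, JData p E₀ → (frattini S).index = p ^ 2 := fun {E₀} h => by
    obtain ⟨hn, hi, -, -, y, v, c, w, hf⟩ := h
    exact (jFacts hS hp2 hi hf).2.2.1
  have h23 : p ^ 2 ≠ p ^ 3 := (Nat.pow_lt_pow_right hp.out.one_lt (by norm_num : 2 < 3)).ne
  have hnb : ∀ {E₀ : Subgroup S}, F.IsEssential p (om E₀) → E₀ ≠ ⊥ := fun {E₀} hE hb => by
    have h := Subgroup.index_dvd_card (frattini E₀)
    rw [show Nat.card E₀ = 1 by rw [hb]; exact Subgroup.card_bot] at h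
    have := Nat.dvd_one.1 h
    have h2 := Nat.pow_lt_pow_right hp.out.one_lt (show 0 < 2 by norm_num)
    have h3 := Nat.pow_lt_pow_right hp.out.one_lt (show 0 < 3 by norm_num)
    rw [pow_zero] at h2 h3
    rcases rank_cases hS hF hsec hE with h' | h' <;> omega
  obtain ⟨E₁, hE₁⟩ : ∃ E₁ : Subgroup S, F.IsEssential p (om E₁) := by
    by_contra hnone
    push Not at hnone
    refine contra_of_invariant hS hF hO ⊤ (fun h => hsec2 ?_) (fun φ _ x _ => Subgroup.mem_top _)
      fun E₀ hE => absurd hE (hnone E₀)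
    intro H N _ A _ _
    haveI : Subsingleton S := ⟨fun a b => by
      rw [Subgroup.mem_bot.1 (h.le (Subgroup.mem_top a)), Subgroup.mem_bot.1 (h.le (Subgroup.mem_top b))]⟩
    haveI : Subsingleton (H ⧸ N) := QuotientGroup.mk_surjective.subsingleton
    rw [Nat.card_of_subsingleton (1 : A)]
    exact Nat.one_le_pow _ _ hp.out.pos
  by_cases hexc : ∃ E₀ : Subgroup S, F.IsEssential p (om E₀) ∧ Exc p E₀
  · -- the exceptional subgroup
    obtain ⟨E₀, hE₀, hx⟩ := hexc
    have hall : ∀ E : Subgroup S, F.IsEssential p (om E) → E = E₀ := by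
      intro E hE
      rcases hdec E hE with h | h | h
      · exact h.1.trans hx.1.symm
      · exact absurd ((hidxT h).symm.trans hx.2.1) h23.symm
      · exact (jData_exc hS h5 hsec h hx).elim
    refine contra_of_invariant hS hF hO E₀ (hnb hE₀) (fun φ _ x hxE => ?_) fun E hE => ?_
    · rw [hx.1] at hxE ⊢
      have := (mem_centralizer_map_equiv φ (ser p S 3)).2 hxE
      rwa [ser_map_equiv] at this
    · obtain rfl := hall E hE
      exact ⟨le_rfl, fun a _ x _ => (a x).2⟩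
  push Not at hexc
  rcases hdec E₁ hE₁ with h | hT | hJ
  · exact hexc E₁ hE₁ h
  · -- transvections
    have hall : ∀ E : Subgroup S, F.IsEssential p (om E) → TInfo F p E := fun E hE => by
      rcases hdec E hE with h | h | h
      · exact absurd h (hexc E hE)
      · exact h
      · exact absurd ((hidxJ h).symm.trans (hidxT hT)) h23
    have heq : ∀ E : Subgroup S, TData p E → phi E = phi E₁ := fun E h => tPhi_eq hS h5 hsec h hT.tData
    by_cases hΦ : phi E₁ = ⊥
    swap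
    · refine contra_of_invariant hS hF hO (phi E₁) hΦ (fun φ _ x hx => ?_) fun E hE => ?_
      · rw [← heq _ (hT.tData.map φ), ← phi_map]
        exact ⟨x, hx, rfl⟩
      · rw [← heq E (hall E hE).tData]
        exact ⟨phi_le E, autL_map_char (frattini E) inferInstance⟩
    obtain ⟨hn1, hi1, y₁, v₁, w₁, u₁, hf₁, -, χ₁, hχ₁, t₁, ht₁, hχw₁, hχu₁⟩ := hT
    obtain ⟨hwp₁, hup₁, hu₁, hw₁, hwc₁, huc₁, hfr₁, hcen₁⟩ := centre_of_frame hS hf₁ hΦ
    rw [hΦ, Subgroup.mem_bot, inv_mul_eq_one] at hχw₁ hχu₁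
    have hinv : ∀ φ ∈ F.autGroup S, φ u₁ ∈ Subgroup.zpowers u₁ := fun φ hφ =>
      line_preserved hS hF hwp₁ hup₁ hu₁ hw₁ hwc₁ huc₁ hfr₁ hcen₁ hχ₁ ht₁ hχw₁.symm hχu₁.symm hφ
    refine contra_of_invariant hS hF hO (Subgroup.zpowers u₁) (fun h => hu₁ ?_) (fun φ hφ x hx => ?_)
      fun E hE => ?_
    · rw [Subgroup.zpowers_eq_bot.1 h]; exact one_mem _
    · obtain ⟨n, rfl⟩ := Subgroup.mem_zpowers_iff.1 hx
      rw [map_zpow]
      exact zpow_mem (hinv φ hφ) n
    · have hTE := hall E hE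
      have hΦE : phi E = ⊥ := (heq E hTE.tData).trans hΦ
      obtain ⟨hnE, hiE, y, v, w, u, hf, hline, χ, hχ, t, ht, hχw, hχu⟩ := hTE
      obtain ⟨hwp, hup, hu, hw, hwc, huc, hfr, hcen⟩ := centre_of_frame hS hf hΦE
      rw [hΦE, Subgroup.mem_bot, inv_mul_eq_one] at hχw hχu
      obtain ⟨a, b, hab⟩ := hcen u₁ huc₁
      have hb : b ≠ 0 := fun h => hu₁ (by
        rw [hab, h, ev_zero, mul_one, ← hfr₁, hfr]
        exact ev_mem (Subgroup.mem_zpowers w) a)
      obtain ⟨c, hc⟩ := exists_ev hup₁ (hinv χ hχ)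
      have hac : ev w (t * a - c * a) * ev u (b - c * b) = 1 := by
        have h : χ u₁ = ev u₁ c := hc
        rw [hab, map_mul, map_ev, map_ev, ← hχw, ← hχu, ← ev_mul hwp,
          show ev (ev w a * ev u b) c = ev (ev w a) c * ev (ev u b) c from
            (((hwc u).evLeft a).evRight b).mul_pow c.val, ← ev_mul hwp, ← ev_mul hup] at h
        rw [sub_eq_add_neg, sub_eq_add_neg, ev_add hwp, ev_add hup, ev_neg hwp, ev_neg hup, mul_comm c a, mul_comm c b]
        calc ev w (t * a) * (ev w (a * c))⁻¹ * (ev u b * (ev u (b * c))⁻¹)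
            = (ev w (t * a) * ev u b) * (ev w (a * c) * ev u (b * c))⁻¹ := by
              rw [mul_inv_rev, mul_assoc (ev w (t * a)), mul_assoc (ev w (t * a)),
                ((((hwc _).evLeft (a * c)).inv_left : Commute (ev w (a * c))⁻¹ (ev u b * (ev u (b * c))⁻¹))).eq,
                mul_assoc]
          _ = 1 := by rw [h, mul_inv_cancel]
      have hd : b - c * b = 0 := by
        by_contra hne
        refine hu (mem_of_ev hup hne ?_)
        rw [← inv_eq_of_mul_eq_one_right hac]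
        exact inv_mem (ev_mem (Subgroup.mem_zpowers w) _)
      have hc1 : c = 1 := by
        have h : b * (1 - c) = 0 := by linear_combination hd
        exact (sub_eq_zero.1 ((mul_eq_zero.1 h).resolve_left hb)).symm
      rw [hd, ev_zero, mul_one] at hac
      have ha : a = 0 := by
        have h : (t - 1) * a = 0 := by
          have h1 := ev_eq_one hwp hw hac
          rw [hc1] at h1
          linear_combination h1
        exact (mul_eq_zero.1 h).resolve_left (sub_ne_zero.2 ht)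
      have hzu : Subgroup.zpowers u₁ = Subgroup.zpowers u := by
        rw [hab, ha, ev_zero, one_mul]
        exact le_antisymm (Subgroup.zpowers_le.2 (ev_mem (Subgroup.mem_zpowers u) b))
          (Subgroup.zpowers_le.2 (mem_of_ev hup hb (Subgroup.mem_zpowers _)))
      rw [hzu]
      refine ⟨Subgroup.zpowers_le.2 (hf.gen ▸ Subgroup.subset_closure (by simp)), fun a' ha' x hx => ?_⟩
      have := hline a' ha' x (by rwa [hΦE, bot_sup_eq])
      rwa [hΦE, bot_sup_eq] at this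
  · -- the irreducible case
    have hall : ∀ E : Subgroup S, F.IsEssential p (om E) → JData p E := fun E hE => by
      rcases hdec E hE with h | h | h
      · exact absurd h (hexc E hE)
      · exact absurd ((hidxJ hJ).symm.trans (hidxT h)) h23
      · exact h
    by_cases hone : ∀ E : Subgroup S, JData p E → E = E₁
    · refine contra_of_invariant hS hF hO E₁ (hnb hE₁) (fun φ _ x hx => ?_) fun E hE => ?_
      · rw [← hone _ (hJ.map φ)]
        exact ⟨x, hx, rfl⟩
      · obtain rfl := hone E (hall E hE)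
        exact ⟨le_rfl, fun a _ x _ => (a x).2⟩
    push Not at hone
    obtain ⟨E₂, hJ₂, hne⟩ := hone
    have hzp : ∀ E : Subgroup S, JData p E → ∃ Z, ZP p E Z := fun E hE => by
      by_cases h : E = E₁
      · exact exists_zp hS h5 hsec hE hJ₂ (h ▸ hne.symm)
      · exact exists_zp hS h5 hsec hE hJ h
    obtain ⟨Z, hZ⟩ := hzp E₁ hJ
    refine contra_of_invariant hS hF hO Z ?_ (fun φ _ x hx => ?_) fun E hE => ?_
    · intro hb
      obtain ⟨Z₀, -, rfl, -, -, -, hcard⟩ := hZ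
      rw [← Subgroup.card_map_of_injective E₁.subtype_injective, hb, Subgroup.card_bot] at hcard
      have h3 := Nat.pow_lt_pow_right hp.out.one_lt (show 0 < 3 by norm_num)
      rw [pow_zero] at h3
      omega
    · rw [← zp_unique hS h5 hsec hJ (hZ.map φ) hZ]
      exact ⟨x, hx, rfl⟩
    · obtain ⟨Z', hZ'⟩ := hzp E (hall E hE)
      rw [← zp_unique hS h5 hsec hJ hZ' hZ]
      obtain ⟨Z₀, hc, rfl, -⟩ := hZ'
      exact ⟨Subgroup.map_subtype_le _, autL_map_char Z₀ hc⟩

end Cfsg.Agent.RankThreeCore
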