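import Cfsg.Agent.Lib.RankThreeEss.Tools
import Cfsg.Agent.Lib.Fusion.Saturated

/-!
The fixed line of the transvections in an automorphism group of a three-space with a strongly embedded subgroup.
-/

set_option autoImplicit false
set_option linter.unusedSectionVars false

open Cfsg.Agent.RankThreeEss

namespace Cfsg.Agent.RankThreeCore

theorem fixed_line {p : ℕ} [hp : Fact p.Prime] {V : Type*} [CommGroup V] [Finite V]
    (hexp : ∀ r : V, r ^ p = 1) (hcard : Nat.card V = p ^ 3) (h3 : 3 ≤ p) (G : Subgroup (MulAut V))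
    (M : Subgroup G) (hM : Cfsg.IsStronglyPEmbedded p M) {α β : G} (hαM : α ∈ M) (hα1 : α ≠ 1)
    {v w u : V} (hw : w ≠ 1) (hu : u ∉ Subgroup.zpowers w) (hv : v ∉ Subgroup.closure ({w, u} : Set V))
    (hαv : (α : MulAut V) v = w * v) (hαw : (α : MulAut V) w = w) (hαu : (α : MulAut V) u = u)
    (hβw : (β : MulAut V) w = w * v) (hβv : (β : MulAut V) v = v) (hβu : (β : MulAut V) u = u) (g : G) :
    (g : MulAut V) u ∈ Subgroup.zpowers u := by
  have htop : ∀ {U : Subgroup V}, w ∈ U → u ∈ U → v ∈ U → U = ⊤ := fun a b c =>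
    top_of_three hexp hcard a b c hw hu hv
  have hmvα : ∀ r, r⁻¹ * (α : MulAut V) r ∈ Subgroup.zpowers w := fun r => by
    have hT : moved (α : MulAut V) (Subgroup.zpowers w) = ⊤ := htop
      (show w⁻¹ * (α : MulAut V) w ∈ Subgroup.zpowers w by rw [hαw, inv_mul_cancel]; exact one_mem _)
      (show u⁻¹ * (α : MulAut V) u ∈ Subgroup.zpowers w by rw [hαu, inv_mul_cancel]; exact one_mem _)
      (show v⁻¹ * (α : MulAut V) v ∈ Subgroup.zpowers w by
        rw [hαv, mul_comm w, inv_mul_cancel_left]; exact Subgroup.mem_zpowers w)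
    exact (hT.ge (Subgroup.mem_top r) :)
  have hmvβ : ∀ r, r⁻¹ * (β : MulAut V) r ∈ Subgroup.zpowers v := fun r => by
    have hT : moved (β : MulAut V) (Subgroup.zpowers v) = ⊤ := htop
      (show w⁻¹ * (β : MulAut V) w ∈ Subgroup.zpowers v by rw [hβw, inv_mul_cancel_left]; exact Subgroup.mem_zpowers v)
      (show u⁻¹ * (β : MulAut V) u ∈ Subgroup.zpowers v by rw [hβu, inv_mul_cancel]; exact one_mem _)
      (show v⁻¹ * (β : MulAut V) v ∈ Subgroup.zpowers v by rw [hβv, inv_mul_cancel]; exact one_mem _)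
    exact (hT.ge (Subgroup.mem_top r) :)
  have hpow : ∀ {γ : G} {c : V}, (γ : MulAut V) c = c → (∀ r, r⁻¹ * (γ : MulAut V) r ∈ Subgroup.zpowers c) →
      (γ : MulAut V) ∈ stab (Subgroup.zpowers c) ⊤ le_top := fun {γ c} hc h =>
    ⟨fun r hr => by obtain ⟨k, rfl⟩ := Subgroup.mem_zpowers_iff.1 hr; rw [map_zpow, hc], fun r _ => h r,
      fun r => Subgroup.mem_top _⟩
  have hαp : α ^ p = 1 := Subtype.ext (stab_pow hexp h3 (hpow hαw hmvα))
  have hβp : β ^ p = 1 := Subtype.ext (stab_pow hexp h3 (hpow hβv hmvβ))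
  -- maximality of the p-subgroup
  have hmax : ∀ {R : Subgroup G}, IsPGroup p R → α ∈ R → R = Subgroup.zpowers α := fun {R} hR hαR => by
    have hRM : R ≤ M := Cfsg.Agent.LEStrongEmb.le_of_pSubgroup hM hR fun h =>
      hα1 (Subgroup.mem_bot.1 (h.le ⟨hαR, hαM⟩))
    exact eq_zpowers hexp hcard h3 G M hM R hR hRM (fun h => hα1 (Subgroup.mem_bot.1 (h.le hαR))) hαR hα1
  have hαP : IsPGroup p (Subgroup.zpowers α) := IsPGroup.of_card (n := 1)
    (by rw [Nat.card_zpowers, orderOf_eq_prime hαp hα1, pow_one])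
  obtain ⟨P0, hP0⟩ := hαP.exists_le_sylow
  have hP0z : (P0 : Subgroup G) = Subgroup.zpowers α := hmax P0.isPGroup' (hP0 (Subgroup.mem_zpowers α))
  have hsame : ∀ x : G, (x : MulAut V) w ∈ Subgroup.zpowers w → x * α * x⁻¹ ∈ Subgroup.zpowers α := fun x hx => by
    have hfix : ((x * α * x⁻¹ : G) : MulAut V) ∈ stab (Subgroup.zpowers w) ⊤ le_top := by
      have hc : ∀ r, ((x * α * x⁻¹ : G) : MulAut V) ((x : MulAut V) r) = (x : MulAut V) ((α : MulAut V) r) :=
        fun r => congrArg (fun z => (x : MulAut V) ((α : MulAut V) z)) ((x : MulAut V).symm_apply_apply r)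
      have hmap : (Subgroup.zpowers w).map (x : MulAut V).toMonoidHom = Subgroup.zpowers w :=
        Subgroup.eq_of_le_of_card_ge (by rw [MonoidHom.map_zpowers, Subgroup.zpowers_le]; exact hx)
          (Subgroup.card_map_of_injective (x : MulAut V).injective).ge
      refine hpow ?_ fun r => ?_
      · obtain ⟨z, hz, hze⟩ := hmap.ge (Subgroup.mem_zpowers w)
        obtain ⟨k, rfl⟩ := Subgroup.mem_zpowers_iff.1 hz
        rw [← hze]
        show ((x * α * x⁻¹ : G) : MulAut V) ((x : MulAut V) (w ^ k)) = (x : MulAut V) (w ^ k)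
        rw [hc, map_zpow (α : MulAut V), hαw]
      · obtain ⟨z, rfl⟩ := (x : MulAut V).surjective r
        rw [hc, ← map_inv, ← map_mul]
        exact hmap.le ⟨_, hmvα z, rfl⟩
    have hR : IsPGroup p ((stab (Subgroup.zpowers w) ⊤ le_top).subgroupOf G) := fun z => ⟨1, by
      rw [pow_one]
      exact Subtype.ext (Subtype.ext (stab_pow hexp h3 (h := le_top) z.2))⟩
    exact (hmax hR (hpow hαw hmvα)).le hfix
  have hzu : ∀ z ∈ Subgroup.zpowers α, (z : MulAut V) u = u := fun z hz => by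
    have hle : Subgroup.zpowers α ≤ (MulAction.stabilizer G u) := Subgroup.zpowers_le.2 hαu
    exact hle hz
  -- the conjugates fix `u`
  have hall : ∀ x : G, ((x * α * x⁻¹ : G) : MulAut V) u = u := by
    intro x
    set γ : G := x * α * x⁻¹ with hγ
    have hγp : γ ^ p = 1 := by rw [hγ, conj_pow, hαp, mul_one, mul_inv_cancel]
    set a' := (x : MulAut V) w with ha'
    have hconj : ∀ r, (γ : MulAut V) ((x : MulAut V) r) = (x : MulAut V) ((α : MulAut V) r) :=
      fun r => congrArg (fun z => (x : MulAut V) ((α : MulAut V) z)) ((x : MulAut V).symm_apply_apply r)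
    have hγa : (γ : MulAut V) a' = a' := by rw [ha', hconj, hαw]
    have htr : ∀ r, ∃ k : ZMod p, (γ : MulAut V) r = ev a' k * r := fun r => by
      obtain ⟨z, rfl⟩ := (x : MulAut V).surjective r
      obtain ⟨k, hk⟩ := exists_ev (hexp w) (hmvα z)
      exact ⟨k, by rw [hconj, ha', ← map_ev, ← map_mul, ← hk, mul_comm, mul_inv_cancel_left]⟩
    obtain ⟨i, hi⟩ := htr w
    obtain ⟨k, hk⟩ := htr v
    obtain ⟨h, hhu, hfix⟩ : ∃ h : G, (h : MulAut V) u = u ∧ (γ : MulAut V) ((h : MulAut V) w) = (h : MulAut V) w := by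
      by_cases hi0 : i = 0
      · exact ⟨1, rfl, by rw [hi0, ev_zero, one_mul] at hi; exact hi⟩
      refine ⟨ev α (-k / i - 1) * β, ?_, ?_⟩
      · show ((ev α (-k / i - 1) : G) : MulAut V) ((β : MulAut V) u) = u
        rw [hβu]
        exact hzu _ (ev_mem (Subgroup.mem_zpowers α) _)
      · have e : ((ev α (-k / i - 1) * β : G) : MulAut V) w = ev w (-k / i) * v := by
          show ((ev α (-k / i - 1) : G) : MulAut V) ((β : MulAut V) w) = _
          rw [hβw, map_mul, show ((ev α (-k / i - 1) : G) : MulAut V) = ev (α : MulAut V) (-k / i - 1) from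
            map_ev G.subtype _, ev_apply (q := 1) (by rw [one_mul]; exact hαw) (map_one _), ev_one_left, one_mul,
            ev_apply hαv hαw, ← mul_assoc]
          congr 1
          conv_lhs => arg 1; rw [← ev_one (p := p) (x := w)]
          rw [← ev_add (hexp w), add_sub_cancel]
        rw [e, map_mul, map_ev, hi, hk, mul_ev, ← ev_mul (hexp a')]
        calc ev a' (i * (-k / i)) * ev w (-k / i) * (ev a' k * v)
            = ev a' (i * (-k / i)) * ev a' k * (ev w (-k / i) * v) := by ac_rfl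
          _ = _ := by rw [← ev_add (hexp a'), mul_div_cancel₀ _ hi0, neg_add_cancel, ev_zero, one_mul]
    set g' : G := h⁻¹ * γ * h with hg'
    have hg'w : (g' : MulAut V) w ∈ Subgroup.zpowers w := by
      have : (g' : MulAut V) w = w := by
        show (h : MulAut V)⁻¹ ((γ : MulAut V) ((h : MulAut V) w)) = w
        rw [hfix]
        exact (h : MulAut V).symm_apply_apply w
      rw [this]
      exact Subgroup.mem_zpowers w
    have hg'p : g' ^ p = 1 := by
      rw [hg', show h⁻¹ * γ * h = h⁻¹ * γ * (h⁻¹)⁻¹ by rw [inv_inv], conj_pow, hγp, mul_one, mul_inv_cancel]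
    have hnorm : Subgroup.zpowers g' ≤ Subgroup.normalizer (Subgroup.zpowers α : Set G) := by
      rw [Subgroup.zpowers_le]
      haveI : Finite (Subgroup.zpowers α) := inferInstance
      refine Cfsg.Agent.FusionSys.mem_normalizer_of_conj_mem_finite fun z hz => ?_
      obtain ⟨n, rfl⟩ := Subgroup.mem_zpowers_iff.1 hz
      rw [← conj_zpow]
      exact zpow_mem (hsame g' hg'w) n
    have hgP : IsPGroup p (Subgroup.zpowers g') := fun z => ⟨1, by
      obtain ⟨z, hz⟩ := z
      obtain ⟨n, rfl⟩ := Subgroup.mem_zpowers_iff.1 hz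
      refine Subtype.ext ?_
      show (g' ^ n) ^ p ^ 1 = 1
      rw [pow_one, ← zpow_natCast, zpow_comm, zpow_natCast, hg'p, one_zpow]⟩
    have hR := hmax (hgP.to_sup_of_normal_right' hαP hnorm) (Subgroup.mem_sup_right (Subgroup.mem_zpowers α))
    have hg'u := hzu g' (hR.le (Subgroup.mem_sup_left (Subgroup.mem_zpowers g')))
    show (γ : MulAut V) u = u
    have e : (g' : MulAut V) u = (h : MulAut V)⁻¹ ((γ : MulAut V) ((h : MulAut V) u)) := rfl
    rw [hg'u, hhu] at e
    have e2 := congrArg (h : MulAut V) e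
    rw [hhu, show (h : MulAut V) ((h : MulAut V)⁻¹ ((γ : MulAut V) u)) = (γ : MulAut V) u from
      (h : MulAut V).apply_symm_apply _] at e2
    exact e2.symm
  have hall' : ∀ x : G, ((x * α * x⁻¹ : G) : MulAut V) ((g : MulAut V) u) = (g : MulAut V) u := fun x => by
    have h : ((g * (g⁻¹ * x * α * (g⁻¹ * x)⁻¹) : G) : MulAut V) u = (g : MulAut V) u :=
      congrArg (g : MulAut V) (hall (g⁻¹ * x))
    rw [show g * (g⁻¹ * x * α * (g⁻¹ * x)⁻¹) = x * α * x⁻¹ * g by group] at h
    exact h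
  set y := (g : MulAut V) u with hy
  have hαy : (α : MulAut V) y = y := by
    have h := hall' 1
    rwa [one_mul, inv_one, mul_one] at h
  have hβy : (β : MulAut V) y = y := by
    have hβP : IsPGroup p (Subgroup.zpowers β) := fun z => ⟨1, by
      obtain ⟨z, hz⟩ := z
      obtain ⟨n, rfl⟩ := Subgroup.mem_zpowers_iff.1 hz
      refine Subtype.ext ?_
      show (β ^ n) ^ p ^ 1 = 1
      rw [pow_one, ← zpow_natCast, zpow_comm, zpow_natCast, hβp, one_zpow]⟩
    obtain ⟨Q, hQ⟩ := hβP.exists_le_sylow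
    haveI : Finite (MulAut V) := inferInstance
    obtain ⟨x, hx⟩ := MulAction.exists_smul_eq G P0 Q
    have hβQ : β ∈ ((x • P0 : Sylow p G) : Subgroup G) := hx ▸ hQ (Subgroup.mem_zpowers β)
    rw [Sylow.coe_subgroup_smul, Subgroup.pointwise_smul_def, hP0z] at hβQ
    obtain ⟨z, hz, hzb⟩ := hβQ
    obtain ⟨n, rfl⟩ := Subgroup.mem_zpowers_iff.1 hz
    have hle : Subgroup.zpowers (x * α * x⁻¹) ≤ MulAction.stabilizer G y := Subgroup.zpowers_le.2 (hall' x)
    refine hle ⟨n, ?_⟩
    show (x * α * x⁻¹) ^ n = β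
    rw [conj_zpow, ← hzb]
    rfl
  have hT : Subgroup.closure ({w, u} : Set V) ⊔ Subgroup.zpowers v = ⊤ := htop
    (Subgroup.mem_sup_left (Subgroup.subset_closure (Or.inl rfl)))
    (Subgroup.mem_sup_left (Subgroup.subset_closure (Or.inr rfl))) (Subgroup.mem_sup_right (Subgroup.mem_zpowers v))
  obtain ⟨c, hc⟩ := exists_ev_sup (H := Subgroup.closure ({w, u} : Set V)) (by rw [hexp]; exact one_mem _)
    (hT.ge (Subgroup.mem_top y))
  obtain ⟨a, b, hab⟩ := exists_ev_pair hexp hc
  have hye : y = ev v c * (ev w a * ev u b) := by rw [← hab, mul_inv_cancel_left]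
  have hv1 : v ≠ 1 := fun h => hv (h ▸ one_mem _)
  have hc0 : c = 0 := by
    have h := hαy
    rw [hye, map_mul, map_mul, map_ev, map_ev, map_ev, hαv, hαw, hαu, mul_ev, mul_assoc, mul_eq_right] at h
    exact ev_eq_one (hexp w) hw h
  rw [hc0, ev_zero, one_mul] at hye
  have ha0 : a = 0 := by
    have h := hβy
    rw [hye, map_mul, map_ev, map_ev, hβw, hβu, mul_comm w, mul_ev, mul_assoc, mul_eq_right] at h
    exact ev_eq_one (hexp v) hv1 h
  rw [ha0, ev_zero, one_mul] at hye
  rw [hye]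
  exact ev_mem (Subgroup.mem_zpowers u) b

end Cfsg.Agent.RankThreeCore
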