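import Cfsg.Agent.Lib.RankThreeCore.RankTwo
import Cfsg.Agent.Lib.RankThreeCore.Transv
import Cfsg.Agent.Lib.RankThreeEss.Main

/-!
The data carried by an essential subgroup with three generators in sectional rank three.
-/

set_option autoImplicit false
set_option linter.unusedSectionVars false
set_option linter.style.haveILetI false
set_option maxHeartbeats 2000000

open scoped commutatorElement
open Cfsg Cfsg.FusionSystem Cfsg.Agent.FusionSys Cfsg.Agent.MaxEss Cfsg.Agent.RankThreeEss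

namespace Cfsg.Agent.RankThreeCore

section Frames

variable (p : ℕ) {G : Type*} [Group G]

/-- The frame of a subgroup acted on by a transvection. -/
structure TFrame (E : Subgroup G) (y v w u : G) : Prop where
  hy : y ∉ E
  hyp : y ^ p ∈ phi E
  top : E ⊔ Subgroup.zpowers y = ⊤
  gen : Subgroup.closure ({v, w, u} : Set G) = E
  r1 : w⁻¹ * ⁅y, v⁆ ∈ phi E
  r2 : ⁅y, w⁆ ∈ phi E
  r3 : ⁅y, u⁆ ∈ phi E
  hw : w ∉ phi E
  hu : u ∉ phi E ⊔ Subgroup.zpowers w
  hv : v ∉ phi E ⊔ Subgroup.zpowers w ⊔ Subgroup.zpowers u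
  frat : frattini G = phi E ⊔ Subgroup.zpowers w

/-- The frame of a subgroup acted on by a regular unipotent element. -/
structure JFrame (E : Subgroup G) (y v c w : G) : Prop where
  hy : y ∉ E
  hyp : y ^ p ∈ E
  top : E ⊔ Subgroup.zpowers y = ⊤
  gen : Subgroup.closure ({v, c, w} : Set G) = E
  r1 : c⁻¹ * ⁅y, v⁆ ∈ phi E
  r2 : w⁻¹ * ⁅y, c⁆ ∈ phi E
  r3 : ⁅y, w⁆ ∈ phi E
  hw : w ∉ phi E
  hc : c ∉ phi E ⊔ Subgroup.zpowers w
  hv : v ∉ phi E ⊔ Subgroup.zpowers w ⊔ Subgroup.zpowers c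

/-- The transvection case. -/
def TData (E : Subgroup G) : Prop :=
  E.Normal ∧ E.index = p ∧ ∃ y v w u : G, TFrame p E y v w u

/-- The irreducible case. -/
def JData (E : Subgroup G) : Prop :=
  E.Normal ∧ E.index = p ∧ (frattini E).index = p ^ 3 ∧
    (∀ U : Subgroup E, frattini E ≤ U → U.Characteristic → U ≤ frattini E ∨ U = ⊤) ∧
      ∃ y v c w : G, JFrame p E y v c w

variable {p}

theorem TFrame.map {H : Type*} [Group H] {E : Subgroup G} {y v w u : G} (h : TFrame p E y v w u) (e : G ≃* H)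
    (hphi : (phi E).map e.toMonoidHom = phi (E.map e.toMonoidHom)) :
    TFrame p (E.map e.toMonoidHom) (e y) (e v) (e w) (e u) := by
  have hm : ∀ {K : Subgroup G} {x : G}, e x ∈ K.map e.toMonoidHom ↔ x ∈ K := fun {K x} =>
    Subgroup.mem_map_iff_mem e.injective
  have hmz : ∀ {x : G}, (Subgroup.zpowers x).map e.toMonoidHom = Subgroup.zpowers (e x) := fun {x} =>
    MonoidHom.map_zpowers e.toMonoidHom x
  refine ⟨fun h' => h.hy (hm.1 h'), ?_, ?_, ?_, ?_, ?_, ?_, fun h' => h.hw ?_, fun h' => h.hu ?_,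
    fun h' => h.hv ?_, ?_⟩
  · rw [← hphi, ← map_pow, hm]; exact h.hyp
  · rw [← hmz, ← Subgroup.map_sup, h.top, Subgroup.map_top_of_surjective _ e.surjective]
  · rw [show ({e v, e w, e u} : Set H) = e.toMonoidHom '' {v, w, u} by simp [Set.image_insert_eq],
      ← MonoidHom.map_closure, h.gen]
  · rw [← hphi, ← map_commutatorElement, ← map_inv, ← map_mul, hm]; exact h.r1
  · rw [← hphi, ← map_commutatorElement, hm]; exact h.r2
  · rw [← hphi, ← map_commutatorElement, hm]; exact h.r3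
  · rw [← hphi, hm] at h'; exact h'
  · rw [← hphi, ← hmz, ← Subgroup.map_sup, hm] at h'; exact h'
  · rw [← hphi, ← hmz, ← hmz, ← Subgroup.map_sup, ← Subgroup.map_sup, hm] at h'; exact h'
  · rw [← frattini_map_equiv e, h.frat, Subgroup.map_sup, hphi, hmz]

theorem JFrame.map {H : Type*} [Group H] {E : Subgroup G} {y v c w : G} (h : JFrame p E y v c w) (e : G ≃* H)
    (hphi : (phi E).map e.toMonoidHom = phi (E.map e.toMonoidHom)) :
    JFrame p (E.map e.toMonoidHom) (e y) (e v) (e c) (e w) := by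
  have hm : ∀ {K : Subgroup G} {x : G}, e x ∈ K.map e.toMonoidHom ↔ x ∈ K := fun {K x} =>
    Subgroup.mem_map_iff_mem e.injective
  have hmz : ∀ {x : G}, (Subgroup.zpowers x).map e.toMonoidHom = Subgroup.zpowers (e x) := fun {x} =>
    MonoidHom.map_zpowers e.toMonoidHom x
  refine ⟨fun h' => h.hy (hm.1 h'), ?_, ?_, ?_, ?_, ?_, ?_, fun h' => h.hw ?_, fun h' => h.hc ?_,
    fun h' => h.hv ?_⟩
  · rw [← map_pow, hm]; exact h.hyp
  · rw [← hmz, ← Subgroup.map_sup, h.top, Subgroup.map_top_of_surjective _ e.surjective]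
  · rw [show ({e v, e c, e w} : Set H) = e.toMonoidHom '' {v, c, w} by simp [Set.image_insert_eq],
      ← MonoidHom.map_closure, h.gen]
  · rw [← hphi, ← map_commutatorElement, ← map_inv, ← map_mul, hm]; exact h.r1
  · rw [← hphi, ← map_commutatorElement, ← map_inv, ← map_mul, hm]; exact h.r2
  · rw [← hphi, ← map_commutatorElement, hm]; exact h.r3
  · rw [← hphi, hm] at h'; exact h'
  · rw [← hphi, ← hmz, ← Subgroup.map_sup, hm] at h'; exact h'
  · rw [← hphi, ← hmz, ← hmz, ← Subgroup.map_sup, ← Subgroup.map_sup, hm] at h'; exact h'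

theorem TData.map {E : Subgroup G} (h : TData p E) (φ : MulAut G) : TData p (E.map φ.toMonoidHom) := by
  obtain ⟨hn, hi, y, v, w, u, hf⟩ := h
  exact ⟨hn.map _ φ.surjective, (Subgroup.index_map_of_bijective (f := φ.toMonoidHom) (H := E) φ.bijective).trans hi,
    _, _, _, _, hf.map φ (phi_map φ)⟩

theorem JData.map {E : Subgroup G} (h : JData p E) (φ : MulAut G) : JData p (E.map φ.toMonoidHom) := by
  obtain ⟨hn, hi, hf3, hirr, y, v, c, w, hf⟩ := h
  have e : E ≃* (E.map φ.toMonoidHom : Subgroup G) :=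
    Subgroup.equivMapOfInjective E φ.toMonoidHom φ.injective
  exact ⟨hn.map _ φ.surjective, (Subgroup.index_map_of_bijective (f := φ.toMonoidHom) (H := E) φ.bijective).trans hi,
    (index_frattini_equiv e).trans hf3, irr_transfer e.symm hirr, _, _, _, _, hf.map φ (phi_map φ)⟩

end Frames

variable {Ω : Type*} [Group Ω] {S : Subgroup Ω} [Finite S] {F : FusionSystem S} {p : ℕ} [hp : Fact p.Prime]

theorem exists_autS {L : Subgroup S} (hL : L = ⊤) {a : MulAut L} (ha : a ∈ autL F L) :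
    ∃ χ ∈ F.autGroup S, ∀ (x : S) (hx : x ∈ L), χ x = (a ⟨x, hx⟩ : S) := by
  have key : ∀ P : Subgroup Ω, P = S → ∀ b ∈ F.autGroup P,
      ∃ χ ∈ F.autGroup S, ∀ (x : P) (y : S), (x : Ω) = (y : Ω) → (χ y : Ω) = (b x : Ω) := by
    rintro P rfl b hb
    exact ⟨b, hb, fun x y h => by rw [Subtype.ext h]⟩
  obtain ⟨χ, hχ, h⟩ := key (om L) (by
    show L.map S.subtype = S
    rw [hL, ← MonoidHom.range_eq_map, Subgroup.range_subtype]) _ ha
  refine ⟨χ, hχ, fun x hx => Subtype.ext ?_⟩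
  rw [h (eL L ⟨x, hx⟩) x rfl]
  exact congr_eL_apply a ⟨x, hx⟩

/-- The transvection case with the invariant line and the torus element. -/
def TInfo (F : FusionSystem S) (p : ℕ) (E₀ : Subgroup S) : Prop :=
  E₀.Normal ∧ E₀.index = p ∧ ∃ y v w u : S, TFrame p E₀ y v w u ∧
    (∀ a ∈ autL F E₀, ∀ x : E₀, (x : S) ∈ phi E₀ ⊔ Subgroup.zpowers u →
      ((a x : E₀) : S) ∈ phi E₀ ⊔ Subgroup.zpowers u) ∧
    ∃ χ ∈ F.autGroup S, ∃ t : ZMod p, t ≠ 1 ∧ (ev w t)⁻¹ * χ w ∈ phi E₀ ∧ u⁻¹ * χ u ∈ phi E₀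

theorem TInfo.tData {E₀ : Subgroup S} (h : TInfo F p E₀) : TData p E₀ := by
  obtain ⟨hn, hi, y, v, w, u, hf, -, -⟩ := h
  exact ⟨hn, hi, y, v, w, u, hf⟩

/-- An essential subgroup with three generators is in one of the two cases. -/
theorem tInfo_or_jData (hS : IsPGroup p S) (hF : F.IsSaturated p) (h5 : 5 ≤ p)
    (hsec : Cfsg.SectionalPRankLE p 3 S) {E₀ : Subgroup S} (hE : F.IsEssential p (om E₀))
    (hidx : (frattini E₀).index = p ^ 3) : TInfo F p E₀ ∨ JData p E₀ := by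
  haveI := finite_of_le (om_le E₀)
  have hP : IsPGroup p E₀ := hS.to_subgroup E₀
  have hG : IsPGroup p (nrm E₀) := hS.to_subgroup _
  have h3 : 3 ≤ p := by omega
  letI : CommGroup (E₀ ⧸ frattini E₀) := quotCommGroup hP
  have hexp := quot_exp hP
  have hcard : Nat.card (E₀ ⧸ frattini E₀) = p ^ 3 := (Subgroup.index_eq_card _).symm.trans hidx
  have hN : nrm E₀ = ⊤ := by
    refine eq_top_iff.2 fun g _ => ?_
    exact mem_normalizer_om.1 (normal_of_rank_three hS hF h5 hsec hE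
      ((index_frattini_equiv (eL E₀)).trans hidx) g.2)
  haveI hEn : E₀.Normal := Subgroup.normalizer_eq_top_iff.1 hN
  obtain ⟨M, hM, hPM⟩ := exists_M hS hF hE
  obtain ⟨y, hy⟩ := exists_outside_eIn hS hF hE
  have hP1 := kappa_ne_bot hS hF hE
  set α := kappa F E₀ y with hα
  have hα1 : α ≠ 1 := fun h => hy (ker_kappa' hS hF hE y h)
  have hPp := kappa_isPGroup (F := F) (E₀ := E₀) hS
  have hPz : (kappa F E₀).range = Subgroup.zpowers α :=
    eq_zpowers hexp hcard h3 (Gq F E₀) M hM _ hPp hPM hP1 ⟨y, rfl⟩ hα1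
  have hαp : α ^ p = 1 := by
    obtain ⟨a, b, hab, -, -, hst⟩ := exists_chain hexp hcard hPp ((Gq F E₀).subtype.comp (kappa F E₀).range.subtype)
    exact Subtype.ext (stab_pow hexp h3 (hst ⟨α, y, rfl⟩))
  have htop := top_of_gen hS hF hE hPz
  have hyp := pow_mem_of_gen hS hF hE hαp
  -- the index
  have hidxS : E₀.index = p := by
    have hcN : Nat.card (nrm E₀) = p * Nat.card (eIn E₀) := by
      refine le_antisymm ?_ ?_
      · rw [← Subgroup.card_top, ← htop]; exact card_sup_zpowers_le hyp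
      · rw [← Subgroup.card_top (G := nrm E₀)]; exact step hG le_top (Subgroup.mem_top y) hy
    rw [Nat.card_congr (eInEquiv E₀).toEquiv, hN, Subgroup.card_top, ← E₀.card_mul_index] at hcN
    exact Nat.eq_of_mul_eq_mul_left Nat.card_pos (hcN.trans (mul_comm _ _))
  let eN : nrm E₀ ≃* S := (MulEquiv.subgroupCongr hN).trans Subgroup.topEquiv
  have hEmap : (eIn E₀).map eN.toMonoidHom = E₀ := by
    show (E₀.subgroupOf (nrm E₀)).map (nrm E₀).subtype = E₀
    exact Subgroup.map_subgroupOf_eq_of_le Subgroup.le_normalizer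
  have hphi : (phi (eIn E₀)).map eN.toMonoidHom = phi ((eIn E₀).map eN.toMonoidHom) := by
    rw [hEmap, phi_eIn, Subgroup.map_map]
    rfl
  -- membership translations
  set π := QuotientGroup.mk' (frattini E₀) with hπ
  have hmem : ∀ {x : E₀} {H : Subgroup E₀}, x ∈ frattini E₀ ⊔ H → π x ∈ H.map π := fun {x H} h => by
    have h1 := Subgroup.mem_map_of_mem π h
    rwa [Subgroup.map_sup, hπ, QuotientGroup.map_mk'_self, bot_sup_eq] at h1
  have hmem1 : ∀ {x a : E₀}, x ∈ frattini E₀ ⊔ Subgroup.zpowers a → π x ∈ Subgroup.zpowers (π a) :=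
    fun h => MonoidHom.map_zpowers π _ ▸ hmem h
  have hmem2 : ∀ {x a b : E₀}, x ∈ frattini E₀ ⊔ Subgroup.zpowers a ⊔ Subgroup.zpowers b →
      π x ∈ Subgroup.closure ({π a, π b} : Set (E₀ ⧸ frattini E₀)) := fun {x a b} h => by
    rw [sup_assoc] at h
    have h1 := hmem h
    rw [Subgroup.map_sup, MonoidHom.map_zpowers, MonoidHom.map_zpowers] at h1
    exact (sup_le (Subgroup.zpowers_le.2 (Subgroup.subset_closure (by simp)))
      (Subgroup.zpowers_le.2 (Subgroup.subset_closure (by simp)))) h1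
  have hgen3 : ∀ {a b c : E₀}, π a ≠ 1 → π b ∉ Subgroup.zpowers (π a) →
      π c ∉ Subgroup.closure ({π a, π b} : Set (E₀ ⧸ frattini E₀)) → ∀ s : Set E₀, a ∈ s → b ∈ s → c ∈ s →
      Subgroup.closure s = ⊤ := fun ha hb hc s has hbs hcs =>
    eq_top_of_map_top (top_of_three hexp hcard (Subgroup.mem_map_of_mem π (Subgroup.subset_closure has))
      (Subgroup.mem_map_of_mem π (Subgroup.subset_closure hbs))
      (Subgroup.mem_map_of_mem π (Subgroup.subset_closure hcs)) ha hb hc)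
  have hπeq : ∀ {a b : E₀}, π a = π b → a⁻¹ * b ∈ frattini E₀ := fun h => QuotientGroup.eq.1 h
  have hlift : ∀ {a b : E₀}, a⁻¹ * b ∈ frattini E₀ → (lift E₀ a)⁻¹ * lift E₀ b ∈ phi (eIn E₀) := fun h => by
    rw [← map_inv, ← map_mul]; exact (mem_phi_lift E₀).2 h
  obtain ⟨s, hs2, -, -⟩ := exists_gen_unit (p := p) h5
  rcases two_cases hexp hcard h3 (Gq F E₀) M hM _ hPp hPM hP1 s (α := α) ⟨y, rfl⟩ hα1 with
    ⟨v, w, u, β, h, hw1, hu1, hv1, hαv, hαw, hαu, hβw, hβv, hβu, hhv, hhw, hhu⟩ |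
    ⟨v, c, w, hw1, hc1, hv1, hαv, hαc, hαw, hirr⟩
  · left
    set t : ZMod p := ((s⁻¹ : (ZMod p)ˣ) : ZMod p) with ht
    have hst : (s : ZMod p) * t = 1 := by rw [ht, ← Units.val_mul, mul_inv_cancel, Units.val_one]
    obtain ⟨v₀, rfl⟩ := QuotientGroup.mk'_surjective (frattini E₀) v
    obtain ⟨w₀, rfl⟩ := QuotientGroup.mk'_surjective (frattini E₀) w
    obtain ⟨u₀, rfl⟩ := QuotientGroup.mk'_surjective (frattini E₀) u
    have hline := fixed_line hexp hcard h3 (Gq F E₀) M hM (hPM ⟨y, rfl⟩) hα1 hw1 hu1 hv1 hαv hαw hαu hβw hβv hβu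
    obtain ⟨β₀, hβ₀⟩ := β.2
    obtain ⟨η, hη⟩ := h.2
    have hconj : (h : MulAut (E₀ ⧸ frattini E₀)) * (α : MulAut (E₀ ⧸ frattini E₀)) *
        (h : MulAut (E₀ ⧸ frattini E₀))⁻¹ = ev (α : MulAut (E₀ ⧸ frattini E₀)) (t * t) := by
      have hhinv : ∀ {r r' : E₀ ⧸ frattini E₀}, (h : MulAut _) r' = r → (h : MulAut _)⁻¹ r = r' :=
        fun h' => (MulEquiv.symm_apply_eq _).2 h'.symm
      have hE := top_of_three hexp hcard
        (U := MonoidHom.eqLocus (((h : MulAut (E₀ ⧸ frattini E₀)) * (α : MulAut (E₀ ⧸ frattini E₀)) *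
          (h : MulAut (E₀ ⧸ frattini E₀))⁻¹ : MulAut _).toMonoidHom)
          ((ev (α : MulAut (E₀ ⧸ frattini E₀)) (t * t) : MulAut _).toMonoidHom))
        (a := π w₀) (b := π u₀) (c := π v₀) ?_ ?_ ?_ hw1 hu1 hv1
      · exact MulEquiv.ext fun r => (hE.ge (Subgroup.mem_top r) :)
      · show (h : MulAut _) ((α : MulAut _) ((h : MulAut _)⁻¹ (π w₀))) = ev (α : MulAut _) (t * t) (π w₀)
        rw [hhinv (r' := ev (π w₀) (s : ZMod p)) (by rw [map_ev, hhw, ← ev_mul (hexp _), mul_comm, hst, ev_one]),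
          map_ev, hαw, map_ev, hhw, ← ev_mul (hexp _), mul_comm, hst, ev_one,
          ev_apply (q := 1) (by rw [one_mul]; exact hαw) (map_one _), ev_one_left, one_mul]
      · show (h : MulAut _) ((α : MulAut _) ((h : MulAut _)⁻¹ (π u₀))) = ev (α : MulAut _) (t * t) (π u₀)
        rw [hhinv hhu, hαu, hhu, ev_apply (q := 1) (by rw [one_mul]; exact hαu) (map_one _), ev_one_left, one_mul]
      · show (h : MulAut _) ((α : MulAut _) ((h : MulAut _)⁻¹ (π v₀))) = ev (α : MulAut _) (t * t) (π v₀)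
        rw [hhinv (r' := ev (π v₀) t) (by rw [map_ev, hhv, ← ev_mul (hexp _), hst, ev_one]),
          map_ev, hαv, mul_ev, map_mul, map_ev, map_ev, hhv, hhw, ← ev_mul (hexp _), ← ev_mul (hexp _), hst,
          ev_one, ev_apply hαv hαw]
    obtain ⟨hηn, hηy⟩ := exists_normalizing hS hF hE hPz hαp η (t * t) (by rw [hη]; exact hconj)
    obtain ⟨ψ, hψA, hψe⟩ := exists_extend hS hF hE.2.1 η.2 fun g hg => by
      obtain ⟨k, hk⟩ := hηn ⟨g, hg⟩
      refine ⟨k, k.2, fun e he => ?_⟩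
      have h := congrArg (fun γ : MulAut E₀ => ((γ ((η : MulAut E₀) e) : E₀) : S)) hk
      rw [MulAut.mul_apply, MulAut.mul_apply,
        show (η : MulAut E₀)⁻¹ ((η : MulAut E₀) e) = e from (η : MulAut E₀).symm_apply_apply e] at h
      exact h
    have hψl : ∀ a : E₀, ψ (lift E₀ a) = lift E₀ ((η : MulAut E₀) a) := fun a => Subtype.ext (hψe a _)
    have hψE : (eIn E₀).map ψ.toMonoidHom = eIn E₀ := by
      refine Subgroup.eq_of_le_of_card_ge ?_ (Subgroup.card_map_of_injective ψ.injective).ge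
      rintro _ ⟨g, hg, rfl⟩
      show ψ g ∈ eIn E₀
      rw [show g = lift E₀ ⟨g, hg⟩ from rfl, hψl]
      exact lift_mem E₀ _
    have hψc : ∀ g, conjN E₀ (ψ g) = (η : MulAut E₀) * conjN E₀ g * (η : MulAut E₀)⁻¹ := fun g =>
      MulEquiv.ext fun a => by
        obtain ⟨b, rfl⟩ := (η : MulAut E₀).surjective a
        refine lift_injective E₀ ?_
        rw [MulAut.mul_apply, MulAut.mul_apply,
          show (η : MulAut E₀)⁻¹ ((η : MulAut E₀) b) = b from (η : MulAut E₀).symm_apply_apply b, lift_conjN, ← hψl,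
          ← hψl, lift_conjN, map_mul, map_mul, map_inv]
    have hψy : (ev y (t * t))⁻¹ * ψ y ∈ eIn E₀ := by
      refine ker_kappa hS hF hE _ ?_
      rw [map_mul (conjN E₀), map_mul (autQuot _), map_inv, map_inv, hψc, hηy, inv_mul_cancel]
    have hβρ : ∀ {a b : E₀}, (β : MulAut (E₀ ⧸ frattini E₀)) (π a) = π b →
        b⁻¹ * (β₀ : MulAut E₀) a ∈ frattini E₀ := fun {a b} h => by
      refine hπeq ?_
      rw [show π ((β₀ : MulAut E₀) a) = rho F E₀ β₀ (π a) from rfl, hβ₀, h]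
    set β1 : MulAut (eIn E₀) := MulAut.congr (eInEquiv E₀).symm (β₀ : MulAut E₀) with hβ1
    have hβ1e : ∀ (a : eIn E₀) (b : E₀), (a : nrm E₀) = lift E₀ b →
        (β1 a : nrm E₀) = lift E₀ ((β₀ : MulAut E₀) b) := by
      intro a b hab
      rw [← show eInEquiv E₀ a = b from lift_injective E₀ hab]
      rfl
    have hge := gen_lift E₀ (hgen3 (a := w₀) (b := u₀) (c := v₀) hw1 hu1 hv1 {v₀, w₀, u₀}
      (by simp) (by simp) (by simp))
    have hw' : lift E₀ w₀ ∉ phi (eIn E₀) := fun h => hw1 ((QuotientGroup.eq_one_iff _).2 ((mem_phi_lift E₀).1 h))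
    have hu' : lift E₀ u₀ ∉ phi (eIn E₀) ⊔ Subgroup.zpowers (lift E₀ w₀) := fun h => by
      rw [phi_sup_one, Subgroup.mem_map_iff_mem (lift_injective E₀)] at h
      exact hu1 (hmem1 h)
    have hv' : lift E₀ v₀ ∉
        phi (eIn E₀) ⊔ Subgroup.zpowers (lift E₀ w₀) ⊔ Subgroup.zpowers (lift E₀ u₀) := fun h => by
      rw [phi_sup_two, Subgroup.mem_map_iff_mem (lift_injective E₀)] at h
      exact hv1 (hmem2 h)
    have hψw : (ev (lift E₀ w₀) t)⁻¹ * ψ (lift E₀ w₀) ∈ phi (eIn E₀) := by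
      rw [hψl, ← map_ev (lift E₀)]
      exact hlift (hπeq (by
        rw [show π ((η : MulAut E₀) w₀) = rho F E₀ η (π w₀) from rfl, hη, hhw, map_ev]))
    have hψu : (lift E₀ u₀)⁻¹ * ψ (lift E₀ u₀) ∈ phi (eIn E₀) := by
      rw [hψl]
      exact hlift (hπeq (by rw [show π ((η : MulAut E₀) u₀) = rho F E₀ η (π u₀) from rfl, hη, hhu]))
    have hr1 : (lift E₀ w₀)⁻¹ * ⁅y, lift E₀ v₀⁆ ∈ phi (eIn E₀) := rel_of E₀ (by rw [map_mul]; exact hαv)
    obtain ⟨hyΦ, -, hfrat, -⟩ := tNorm hG h5 hsec (nrm E₀).subtype Subtype.val_injective (eIn E₀) y (lift E₀ v₀)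
      (lift E₀ w₀) (lift E₀ u₀) hyp htop hge hr1 (rel_one E₀ hαw) (rel_one E₀ hαu) hw' hu' hv' β1
      (fun a ha => by
        rw [hβ1e a w₀ ha, ← map_mul]
        exact hlift (hβρ (by rw [hβw, map_mul, mul_comm])))
      (fun a ha => by rw [hβ1e a u₀ ha]; exact hlift (hβρ hβu))
      (fun a ha => by rw [hβ1e a v₀ ha]; exact hlift (hβρ hβv))
      ψ hψE (s : ZMod p) t hst hs2 hψy
      (by
        rw [hψl, ← map_ev (lift E₀)]
        exact hlift (hπeq (by
          rw [show π ((η : MulAut E₀) v₀) = rho F E₀ η (π v₀) from rfl, hη, hhv, map_ev])))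
      hψw hψu
    have hframe : TFrame p (eIn E₀) y (lift E₀ v₀) (lift E₀ w₀) (lift E₀ u₀) :=
      ⟨hy, hyΦ, htop, hge, hr1, rel_one E₀ hαw, rel_one E₀ hαu, hw', hu', hv', hfrat⟩
    have hframe' := hframe.map eN hphi
    rw [hEmap] at hframe'
    refine ⟨hEn, hidxS, _, _, _, _, hframe', fun a ha x hx => ?_, ?_⟩
    · have hphiE : ∀ {z : E₀}, (z : S) ∈ phi E₀ ⊔ Subgroup.zpowers (u₀ : S) ↔
          z ∈ frattini E₀ ⊔ Subgroup.zpowers u₀ := fun {z} => by
        rw [phi, ← E₀.coe_subtype, ← MonoidHom.map_zpowers, ← Subgroup.map_sup,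
          Subgroup.mem_map_iff_mem E₀.subtype_injective]
      have hx' := hmem1 (hphiE.1 hx)
      refine hphiE.2 ?_
      obtain ⟨k, hk⟩ := Subgroup.mem_zpowers_iff.1 hx'
      have hgu : π (a x) ∈ Subgroup.zpowers (π u₀) := by
        rw [show π (a x) = rho F E₀ ⟨a, ha⟩ (π x) from rfl, ← hk, map_zpow]
        exact zpow_mem (hline ⟨_, ⟨⟨a, ha⟩, rfl⟩⟩) k
      obtain ⟨n, hn⟩ := Subgroup.mem_zpowers_iff.1 hgu
      rw [← map_zpow] at hn
      have := mul_mem (Subgroup.mem_sup_right (S := frattini E₀) (zpow_mem (Subgroup.mem_zpowers u₀) n))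
        (Subgroup.mem_sup_left (T := Subgroup.zpowers u₀) (QuotientGroup.eq.1 hn))
      rwa [mul_inv_cancel_left] at this
    · obtain ⟨χ, hχ, hχe⟩ := exists_autS hN hψA
      refine ⟨χ, hχ, t, fun h1 => hs2 (by rw [h1, mul_one] at hst; rw [hst, one_mul]), ?_, ?_⟩
      · have h' := Subgroup.mem_map_of_mem eN.toMonoidHom hψw
        rw [hphi, hEmap, map_mul, map_inv, map_ev] at h'
        rw [hχe (eN (lift E₀ w₀)) (lift E₀ w₀).2]
        exact h'
      · have h' := Subgroup.mem_map_of_mem eN.toMonoidHom hψu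
        rw [hphi, hEmap, map_mul, map_inv] at h'
        rw [hχe (eN (lift E₀ u₀)) (lift E₀ u₀).2]
        exact h'
  · right
    obtain ⟨v₀, rfl⟩ := QuotientGroup.mk'_surjective (frattini E₀) v
    obtain ⟨c₀, rfl⟩ := QuotientGroup.mk'_surjective (frattini E₀) c
    obtain ⟨w₀, rfl⟩ := QuotientGroup.mk'_surjective (frattini E₀) w
    have hge := gen_lift E₀ (hgen3 (a := w₀) (b := c₀) (c := v₀) hw1 hc1 hv1 {v₀, c₀, w₀}
      (by simp) (by simp) (by simp))
    have hframe : JFrame p (eIn E₀) y (lift E₀ v₀) (lift E₀ c₀) (lift E₀ w₀) := by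
      refine ⟨hy, hyp, htop, hge, rel_of E₀ (by rw [map_mul]; exact hαv), rel_of E₀ (by rw [map_mul]; exact hαc),
        rel_one E₀ hαw, fun h => hw1 ((QuotientGroup.eq_one_iff _).2 ((mem_phi_lift E₀).1 h)), fun h => ?_,
        fun h => ?_⟩
      · rw [phi_sup_one, Subgroup.mem_map_iff_mem (lift_injective E₀)] at h
        exact hc1 (hmem1 h)
      · rw [phi_sup_two, Subgroup.mem_map_iff_mem (lift_injective E₀)] at h
        exact hv1 (hmem2 h)
    have hframe' := hframe.map eN hphi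
    rw [hEmap] at hframe'
    refine ⟨hEn, hidxS, hidx, fun U hU hUc => ?_, _, _, _, _, hframe'⟩
    rcases hirr (U.map π) (by
        rintro ⟨_, a, rfl⟩ _ ⟨x, hx, rfl⟩
        exact ⟨_, char_mem hUc (a : MulAut E₀) hx, rfl⟩) with h' | h'
    · left
      have := (Subgroup.map_eq_bot_iff U).1 h'
      rwa [hπ, QuotientGroup.ker_mk'] at this
    · exact Or.inr (eq_top_of_map_top h')

end Cfsg.Agent.RankThreeCore
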