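import Cfsg.Agent.Lib.RankThreeCore.JPowerful
import Cfsg.Agent.Lib.RankThreeCore.RankThree

/-!
Two subgroups in the irreducible case share a central subgroup.
-/

set_option autoImplicit false
set_option linter.unusedSectionVars false
set_option maxHeartbeats 2000000

open scoped commutatorElement
open Cfsg.Agent.RankThreeEss

namespace Cfsg.Agent.RankThreeCore

variable {p : ℕ} [hp : Fact p.Prime] {G : Type*} [Group G] [Finite G]

theorem all_of_top {E : Subgroup G} {y : G} (htop : E ⊔ Subgroup.zpowers y = ⊤) {K : Subgroup G} (hK : E ≤ K)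
    (hy : y ∈ K) (g : G) : g ∈ K :=
  (sup_le hK (Subgroup.zpowers_le.2 hy)) (htop.ge (Subgroup.mem_top g))

theorem central_of_top {E : Subgroup G} {y : G} (htop : E ⊔ Subgroup.zpowers y = ⊤) (N : Subgroup G) [N.Normal]
    {x : G} (hE : ∀ e ∈ E, ⁅e, x⁆ ∈ N) (hy : ⁅y, x⁆ ∈ N) :
    ∀ r : G ⧸ N, Commute (QuotientGroup.mk' N x) r := by
  intro r
  obtain ⟨g, rfl⟩ := QuotientGroup.mk'_surjective N r
  have hc : ∀ a, ⁅a, x⁆ ∈ N → a ∈ (Subgroup.centralizer {QuotientGroup.mk' N x}).comap (QuotientGroup.mk' N) := by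
    intro a ha
    refine Subgroup.mem_centralizer_iff.2 ?_
    rintro b rfl
    refine (commutatorElement_eq_one_iff_commute.1 ?_ : Commute (QuotientGroup.mk' N a) (QuotientGroup.mk' N x)).eq.symm
    rw [← map_commutatorElement]
    exact (QuotientGroup.eq_one_iff _).2 ha
  exact Subgroup.mem_centralizer_iff.1 (all_of_top htop (fun e he => hc e (hE e he)) (hc y hy) g) _ rfl

theorem card_sup_eq (hG : IsPGroup p G) {Φ : Subgroup G} [Φ.Normal] {x : G} (hx : x ∉ Φ) (hxp : x ^ p ∈ Φ) :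
    Nat.card (Φ ⊔ Subgroup.zpowers x : Subgroup G) = p * Nat.card Φ :=
  le_antisymm (card_sup_zpowers_le hxp)
    (step hG le_sup_left (Subgroup.mem_sup_right (Subgroup.mem_zpowers x)) hx)

theorem comm_of_mem (N : Subgroup G) [N.Normal] {x : G} (h : ∀ r : G ⧸ N, Commute (QuotientGroup.mk' N x) r)
    (g : G) : ⁅g, x⁆ ∈ N := by
  refine (QuotientGroup.eq_one_iff _).1 (show QuotientGroup.mk' N ⁅g, x⁆ = 1 from ?_)
  rw [map_commutatorElement, commutatorElement_eq_one_iff_commute]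
  exact (h _).symm

/-- Consequences of a frame in the irreducible case. -/
theorem jFacts (hG : IsPGroup p G) (hp2 : p ≠ 2) {E : Subgroup G} [E.Normal] (hidx : E.index = p) {y v c w : G}
    (hf : JFrame p E y v c w) :
    (phi E ⊔ Subgroup.zpowers w).Normal ∧
    frattini G = phi E ⊔ Subgroup.zpowers w ⊔ Subgroup.zpowers c ∧
    (frattini G).index = p ^ 2 ∧ v ∉ frattini G ∧ E = frattini G ⊔ Subgroup.zpowers v ∧
    (∀ g : G, ∀ k ∈ frattini G, ⁅g, k⁆ ∈ phi E ⊔ Subgroup.zpowers w) ∧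
    (∀ g : G, ∀ k ∈ phi E ⊔ Subgroup.zpowers w, ⁅g, k⁆ ∈ phi E) ∧
    (∀ x : G, x ^ p ∈ phi E ⊔ Subgroup.zpowers w) ∧ (∀ x : G, ⁅x, c⁆ ∈ phi E → x ∈ E) := by
  obtain ⟨hy, hyp, htop, hgen, r1, r2, r3, hw, hc, hv⟩ := hf
  obtain ⟨hypW, hfrat⟩ := frattiniJ hG E y v c w hyp htop hgen r1 r2 r3 hw hc
  set Φ := phi E with hΦdef
  set Wd := Φ ⊔ Subgroup.zpowers w with hWd
  set K := Wd ⊔ Subgroup.zpowers c with hK
  have hvE : v ∈ E := hgen ▸ Subgroup.subset_closure (by simp)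
  have hcE : c ∈ E := hgen ▸ Subgroup.subset_closure (by simp)
  have hwE : w ∈ E := hgen ▸ Subgroup.subset_closure (by simp)
  have hEE : ∀ a ∈ E, ∀ b ∈ E, ⁅a, b⁆ ∈ Φ := fun a ha b hb => comm_mem_phi hG ha hb
  have hwcen := central_of_top htop Φ (fun e he => hEE e he w hwE) r3
  have hWc : ∀ g : G, ∀ k ∈ Wd, ⁅g, k⁆ ∈ Φ := by
    intro g k hk
    refine comm_of_mem Φ (fun r => ?_) g
    obtain ⟨φ, hφ, _, ⟨n, rfl⟩, rfl⟩ := Subgroup.mem_sup_of_normal_left.1 hk
    rw [map_mul, show QuotientGroup.mk' Φ φ = 1 from (QuotientGroup.eq_one_iff _).2 hφ, one_mul, map_zpow]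
    exact (hwcen r).zpow_left n
  haveI hWn : Wd.Normal := ⟨fun x hx g => by
    rw [show g * x * g⁻¹ = ⁅g, x⁆ * x by rw [commutatorElement_def, inv_mul_cancel_right]]
    exact mul_mem (Subgroup.mem_sup_left (hWc g x hx)) hx⟩
  have hyc : ⁅y, c⁆ ∈ Wd := by
    have := mul_mem (Subgroup.mem_sup_right (Subgroup.mem_zpowers w) : w ∈ Wd)
      (Subgroup.mem_sup_left (T := Subgroup.zpowers w) r2)
    rwa [mul_inv_cancel_left] at this
  have hccen := central_of_top htop Wd (fun e he => Subgroup.mem_sup_left (hEE e he c hcE)) hyc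
  have hKc : ∀ g : G, ∀ k ∈ K, ⁅g, k⁆ ∈ Wd := by
    intro g k hk
    refine comm_of_mem Wd (fun r => ?_) g
    obtain ⟨a, ha, _, ⟨n, rfl⟩, rfl⟩ := Subgroup.mem_sup_of_normal_left.1 hk
    rw [map_mul, show QuotientGroup.mk' Wd a = 1 from (QuotientGroup.eq_one_iff _).2 ha, one_mul, map_zpow]
    exact (hccen r).zpow_left n
  haveI hKn : K.Normal := ⟨fun x hx g => by
    rw [show g * x * g⁻¹ = ⁅g, x⁆ * x by rw [commutatorElement_def, inv_mul_cancel_right]]
    exact mul_mem (Subgroup.mem_sup_left (hKc g x hx)) hx⟩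
  have hKE : K ≤ E := sup_le (sup_le (phi_le E) (Subgroup.zpowers_le.2 hwE)) (Subgroup.zpowers_le.2 hcE)
  have hEK : E = K ⊔ Subgroup.zpowers v := by
    refine le_antisymm ?_ (sup_le hKE (Subgroup.zpowers_le.2 hvE))
    rw [← hgen, Subgroup.closure_le]
    rintro x (rfl | rfl | rfl)
    exacts [Subgroup.mem_sup_right (Subgroup.mem_zpowers _),
      Subgroup.mem_sup_left (Subgroup.mem_sup_right (Subgroup.mem_zpowers _)),
      Subgroup.mem_sup_left (Subgroup.mem_sup_left (Subgroup.mem_sup_right (Subgroup.mem_zpowers _)))]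
  refine ⟨inferInstance, hfrat, ?_, hfrat ▸ hv, hfrat ▸ hEK, fun g k hk => hKc g k (hfrat ▸ hk), hWc, fun x => ?_,
    fun x hx => ?_⟩
  · have h1 : Nat.card E = p * Nat.card K := by
      rw [hEK]
      exact card_sup_eq hG hv (Subgroup.mem_sup_left (Subgroup.mem_sup_left (pow_mem_phi hG hvE)))
    have h2 := E.card_mul_index
    rw [hidx, h1, ← K.card_mul_index] at h2
    rw [hfrat]
    have h3 : Nat.card K * p ^ 2 = Nat.card K * K.index := by rw [← h2]; ring
    exact (Nat.eq_of_mul_eq_mul_left Nat.card_pos h3).symm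
  · set π := QuotientGroup.mk' Wd with hπ
    have hcl : ∀ a b g : G ⧸ Wd, Commute ⁅a, b⁆ g := by
      intro a b g
      obtain ⟨a, rfl⟩ := QuotientGroup.mk'_surjective Wd a
      obtain ⟨b, rfl⟩ := QuotientGroup.mk'_surjective Wd b
      obtain ⟨g, rfl⟩ := QuotientGroup.mk'_surjective Wd g
      rw [← map_commutatorElement, ← commutatorElement_eq_one_iff_commute, ← map_commutatorElement]
      refine (QuotientGroup.eq_one_iff _).2 ?_
      rw [← commutatorElement_inv]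
      exact inv_mem (hKc g _ (hfrat ▸ commutator_mem_frattini hG a b))
    have hcp : ∀ a b : G ⧸ Wd, ⁅a, b⁆ ^ p = 1 := by
      intro a b
      obtain ⟨a, rfl⟩ := QuotientGroup.mk'_surjective Wd a
      obtain ⟨b, rfl⟩ := QuotientGroup.mk'_surjective Wd b
      rw [← map_commutatorElement, ← map_pow]
      exact (QuotientGroup.eq_one_iff _).2
        (Subgroup.mem_sup_left (pow_mem_phi hG (hKE (hfrat ▸ commutator_mem_frattini hG a b))))
    let f : G →* G ⧸ Wd :=
      MonoidHom.comp { toFun := fun r => r ^ p, map_one' := one_pow p, map_mul' := mul_pow_prime hp2 hcl hcp } π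
    have h := all_of_top htop (K := f.ker)
      (fun e he => show π e ^ p = 1 by
        rw [← map_pow]; exact (QuotientGroup.eq_one_iff _).2 (Subgroup.mem_sup_left (pow_mem_phi hG he)))
      (show π y ^ p = 1 by rw [← map_pow]; exact (QuotientGroup.eq_one_iff _).2 hypW) x
    have h' : π x ^ p = 1 := h
    rw [← map_pow] at h'
    exact (QuotientGroup.eq_one_iff _).1 h'
  · obtain ⟨k, hk⟩ := exists_ev_sup hyp (htop.ge (Subgroup.mem_top x))
    obtain ⟨e, he, rfl⟩ : ∃ e ∈ E, x = ev y k * e := ⟨_, hk, (mul_inv_cancel_left _ _).symm⟩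
    set π := QuotientGroup.mk' Φ with hπ
    have hπ1 : ∀ {z : G}, z ∈ Φ → π z = 1 := fun h => (QuotientGroup.eq_one_iff _).2 h
    have hYC : ⁅π y, π c⁆ = π w := by rw [← map_commutatorElement]; exact (QuotientGroup.eq.2 r2).symm
    have hWp : π w ^ p = 1 := by rw [← map_pow]; exact hπ1 (pow_mem_phi hG hwE)
    have hW1 : π w ≠ 1 := fun h => hw ((QuotientGroup.eq_one_iff _).1 h)
    have h := hπ1 hx
    rw [map_commutatorElement, map_mul, map_ev,
      show ⁅ev (π y) k * π e, π c⁆ = ev (π y) k * ⁅π e, π c⁆ * (ev (π y) k)⁻¹ * ⁅ev (π y) k, π c⁆ by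
        simp only [commutatorElement_def]; group,
      ← map_commutatorElement, hπ1 (hEE e he c hcE), mul_one, mul_inv_cancel, one_mul,
      comm_ev_left (by rw [hYC]; exact hwcen), hYC] at h
    rw [ev_eq_one hWp hW1 h, ev_zero, one_mul]
    exact he

/-- The conjugation by the outer element, on the subgroup. -/
theorem exists_auto (hG : IsPGroup p G) {E : Subgroup G} [E.Normal] {y v c w : G} (hf : JFrame p E y v c w) :
    ∃ (α : MulAut E) (v' c' w' : E), (v' : G) = v ∧ (c' : G) = c ∧ (w' : G) = w ∧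
      Subgroup.closure ({v', c', w'} : Set E) = ⊤ ∧ (c' * v')⁻¹ * α v' ∈ frattini E ∧
      (w' * c')⁻¹ * α c' ∈ frattini E ∧ w'⁻¹ * α w' ∈ frattini E ∧ w' ∉ frattini E ∧
      (∀ t : ZMod p, (ev c' t)⁻¹ * w' ∉ frattini E) ∧ ∀ t : ZMod p, (ev w' t)⁻¹ * c' ∉ frattini E := by
  obtain ⟨-, -, -, hgen, r1, r2, r3, hw, hc, -⟩ := hf
  have hvE : v ∈ E := hgen ▸ Subgroup.subset_closure (by simp)
  have hcE : c ∈ E := hgen ▸ Subgroup.subset_closure (by simp)
  have hwE : w ∈ E := hgen ▸ Subgroup.subset_closure (by simp)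
  have hshift : ∀ {a b : G}, b⁻¹ * ⁅y, a⁆ ∈ phi E → (b * a)⁻¹ * (y * a * y⁻¹) ∈ phi E := fun {a b} h => by
    have h3 := Subgroup.Normal.conj_mem (inferInstance : (phi E).Normal) _ h a⁻¹
    rw [inv_inv] at h3
    rwa [show (b * a)⁻¹ * (y * a * y⁻¹) = a⁻¹ * (b⁻¹ * ⁅y, a⁆) * a by rw [commutatorElement_def]; group]
  refine ⟨MulAut.conjNormal y, ⟨v, hvE⟩, ⟨c, hcE⟩, ⟨w, hwE⟩, rfl, rfl, rfl, ?_, mem_phi.1 (hshift r1),
    mem_phi.1 (hshift r2), ?_, fun h => hw (mem_phi.2 h), fun t h => ?_, fun t h => hc ?_⟩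
  · refine Subgroup.map_injective E.subtype_injective ?_
    rw [MonoidHom.map_closure, ← MonoidHom.range_eq_map, Subgroup.range_subtype]
    simpa [Set.image_insert_eq] using hgen
  · refine mem_phi.1 ?_
    have := hshift (a := w) (b := 1) (by rwa [inv_one, one_mul])
    rwa [one_mul] at this
  · have h' : (ev c t)⁻¹ * w ∈ phi E := by
      have := mem_phi.2 h
      rwa [Subgroup.coe_mul, Subgroup.coe_inv, ← E.coe_subtype, map_ev] at this
    by_cases ht : t = 0
    · rw [ht, ev_zero, inv_one, one_mul] at h'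
      exact hw h'
    · have h1 : ev c t ∈ phi E ⊔ Subgroup.zpowers w := by
        have := mul_mem (Subgroup.mem_sup_right (S := phi E) (Subgroup.mem_zpowers w))
          (Subgroup.mem_sup_left (T := Subgroup.zpowers w) (inv_mem h'))
        rwa [mul_inv_rev, inv_inv, mul_inv_cancel_left] at this
      refine hc ?_
      have hmod : (t.val * (t⁻¹).val) % p = 1 := by
        rw [← ZMod.val_mul, mul_inv_cancel₀ ht, ZMod.val_one]
      have e : (ev c t) ^ (t⁻¹).val = c * (c ^ p) ^ ((t.val * (t⁻¹).val) / p) := by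
        rw [ev, ← pow_mul, ← pow_mul, ← pow_succ']
        congr 1
        have := Nat.mod_add_div (t.val * (t⁻¹).val) p
        omega
      have hcp : c ^ p ∈ phi E ⊔ Subgroup.zpowers w := Subgroup.mem_sup_left (pow_mem_phi hG hcE)
      have := pow_mem h1 (t⁻¹).val
      rw [e] at this
      exact (Subgroup.mul_mem_cancel_right _ (pow_mem hcp _)).1 this
  · have h' : (ev w t)⁻¹ * c ∈ phi E := by
      have := mem_phi.2 h
      rwa [Subgroup.coe_mul, Subgroup.coe_inv, ← E.coe_subtype, map_ev] at this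
    have := mul_mem (Subgroup.mem_sup_right (S := phi E) (ev_mem (Subgroup.mem_zpowers w) t))
      (Subgroup.mem_sup_left (T := Subgroup.zpowers w) h')
    rwa [mul_inv_cancel_left] at this

/-- A central subgroup from the last layer. -/
def ZP (p : ℕ) {G : Type*} [Group G] (E Z : Subgroup G) : Prop :=
  ∃ Z₀ : Subgroup E, Z₀.Characteristic ∧ Z = Z₀.map E.subtype ∧ Z₀ ≤ frattini E ∧
    (∀ z ∈ Z₀, ∀ g, Commute z g) ∧ (∀ z ∈ Z₀, z ^ p = 1) ∧ Nat.card Z₀ = p ^ 3

theorem ZP.map {E Z : Subgroup G} (h : ZP p E Z) (φ : MulAut G) :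
    ZP p (E.map φ.toMonoidHom) (Z.map φ.toMonoidHom) := by
  obtain ⟨Z₀, hc, rfl, hΦ, hcen, hzp, hcard⟩ := h
  let e : E ≃* (E.map φ.toMonoidHom : Subgroup G) := Subgroup.equivMapOfInjective E φ.toMonoidHom φ.injective
  refine ⟨Z₀.map e.toMonoidHom, ?_, ?_, ?_, ?_, ?_, ?_⟩
  · refine Subgroup.characteristic_iff_map_le.2 fun a => ?_
    rintro _ ⟨_, ⟨z, hz, rfl⟩, rfl⟩
    exact ⟨(e.trans a).trans e.symm z, char_mem hc _ hz, e.apply_symm_apply _⟩
  · rw [Subgroup.map_map, Subgroup.map_map]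
    rfl
  · rw [← frattini_map_equiv e]; exact Subgroup.map_mono hΦ
  · rintro _ ⟨z, hz, rfl⟩ g
    obtain ⟨g, rfl⟩ := e.surjective g
    exact (hcen z hz g).map e.toMonoidHom
  · rintro _ ⟨z, hz, rfl⟩
    rw [← map_pow, hzp z hz, map_one]
  · rw [Subgroup.card_map_of_injective (f := e.toMonoidHom) e.injective, hcard]

theorem zp_of_comm (hG : IsPGroup p G) (h5 : 5 ≤ p) (hsec : Cfsg.SectionalPRankLE p 3 G) {E : Subgroup G}
    (hE : JData p E) (hne : ∃ a b : E, ⁅a, b⁆ ∉ low p E) : ∃ Z, ZP p E Z := by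
  obtain ⟨hn, hidx, hf3, hirr, y, v, c, w, hf⟩ := hE
  obtain ⟨α, v', c', w', -, -, -, hgen, hαv, hαc, hαw, hw, hwc, hcw⟩ := exists_auto hG hf
  obtain ⟨hne0, hpow⟩ := jPowerful (hG.to_subgroup E) h5 hsec E.subtype E.subtype_injective α v' c' w' hgen hαv hαc
    hαw hw hwc hcw hirr hf3 hne
  obtain ⟨Z₀, hc, hΦ, hcen, hzp, hcard⟩ := exists_layer (hG.to_subgroup E) (by omega) hne0 hirr hpow
  exact ⟨_, Z₀, hc, rfl, hΦ, hcen, hzp, hcard.trans hf3⟩

/-- Two different subgroups in the irreducible case. -/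
theorem exists_zp (hG : IsPGroup p G) (h5 : 5 ≤ p) (hsec : Cfsg.SectionalPRankLE p 3 G) {E₁ E₂ : Subgroup G}
    (h₁ : JData p E₁) (h₂ : JData p E₂) (hne : E₁ ≠ E₂) : ∃ Z, ZP p E₁ Z := by
  refine zp_of_comm hG h5 hsec h₁ ?_
  obtain ⟨hn1, hidx1, -, -, y1, v1, c1, w1, hf1⟩ := h₁
  obtain ⟨hn2, hidx2, -, -, y2, v2, c2, w2, hf2⟩ := h₂
  have hp2 : p ≠ 2 := by omega
  obtain ⟨-, -, -, hv1, hE1, -, -, -, -⟩ := jFacts hG hp2 hidx1 hf1
  obtain ⟨hWn, hfrat2, -, -, hE2, hKc, hWc, hpow, hout⟩ := jFacts hG hp2 hidx2 hf2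
  set Wd := phi E₂ ⊔ Subgroup.zpowers w2 with hWd
  haveI := hWn
  have hv1E : v1 ∈ E₁ := hE1.ge (Subgroup.mem_sup_right (Subgroup.mem_zpowers v1))
  have hf2E : frattini G ≤ E₂ := hE2 ▸ le_sup_left
  have hf1E : frattini G ≤ E₁ := hE1 ▸ le_sup_left
  have hv12 : v1 ∉ E₂ := by
    intro h
    refine hne (Subgroup.eq_of_le_of_card_ge (hE1.le.trans (sup_le hf2E (Subgroup.zpowers_le.2 h))) ?_)
    have e1 := E₁.card_mul_index
    have e2 := E₂.card_mul_index
    rw [hidx1, ← e2, hidx2] at e1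
    exact (Nat.eq_of_mul_eq_mul_right hp.out.pos e1).ge
  set π := QuotientGroup.mk' Wd with hπ
  have hset : ∀ a ∈ (π '' (frattini G : Set G)) ∪ {π v1}, ∀ b ∈ (π '' (frattini G : Set G)) ∪ {π v1}, Commute a b := by
    have hc : ∀ k ∈ frattini G, ∀ r, Commute (π k) r := fun k hk r => by
      obtain ⟨g, rfl⟩ := QuotientGroup.mk'_surjective Wd r
      refine Commute.symm ?_
      rw [← commutatorElement_eq_one_iff_commute, ← map_commutatorElement]
      exact (QuotientGroup.eq_one_iff _).2 (hKc g k hk)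
    rintro a (⟨k, hk, rfl⟩ | rfl) b (⟨l, hl, rfl⟩ | rfl)
    exacts [hc k hk _, hc k hk _, (hc l hl _).symm, Commute.refl _]
  haveI := comm_closure hset
  have hEle : E₁ ≤ (Subgroup.closure ((π '' (frattini G : Set G)) ∪ {π v1})).comap π := by
    rw [hE1]
    exact sup_le (fun k hk => Subgroup.subset_closure (Or.inl ⟨k, hk, rfl⟩))
      (Subgroup.zpowers_le.2 (Subgroup.subset_closure (Or.inr rfl)))
  have hΦ1 : phi E₁ ≤ Wd := by
    refine phi_le_of (p := p) (fun a ha b hb => ?_) fun a _ => hpow a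
    refine (QuotientGroup.eq_one_iff _).1 (show π ⁅a, b⁆ = 1 from ?_)
    rw [map_commutatorElement, commutatorElement_eq_one_iff_commute]
    exact congrArg Subtype.val (mul_comm' (⟨π a, hEle ha⟩ : Subgroup.closure _) ⟨π b, hEle hb⟩)
  have hc2 : c2 ∈ frattini G := hfrat2.ge (Subgroup.mem_sup_right (Subgroup.mem_zpowers c2))
  refine ⟨⟨v1, hv1E⟩, ⟨c2, hf1E hc2⟩, fun h => hv12 (hout v1 ?_)⟩
  have hlow : (low p E₁).map E₁.subtype ≤ phi E₂ := by
    refine Subgroup.map_le_iff_le_comap.2 (sup_le (Subgroup.commutator_le.2 fun g _ x hx => ?_)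
      ((Subgroup.closure_le _).2 ?_))
    · show E₁.subtype ⁅g, x⁆ ∈ phi E₂
      rw [map_commutatorElement]
      exact hWc _ _ (hΦ1 ⟨x, hx, rfl⟩)
    · rintro _ ⟨x, hx, rfl⟩
      show E₁.subtype (x ^ p) ∈ phi E₂
      rw [map_pow]
      exact pow_mem_phi hG (hE2.ge (Subgroup.mem_sup_left (hfrat2.ge (Subgroup.mem_sup_left (hΦ1 ⟨x, hx, rfl⟩)))))
  exact hlow ⟨_, h, map_commutatorElement E₁.subtype _ _⟩

/-- The central subgroups of any two subgroups in the irreducible case agree. -/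
theorem zp_unique (hG : IsPGroup p G) (h5 : 5 ≤ p) (hsec : Cfsg.SectionalPRankLE p 3 G) {E₁ E₂ Z₁ Z₂ : Subgroup G}
    (h₂ : JData p E₂) (hz₁ : ZP p E₁ Z₁) (hz₂ : ZP p E₂ Z₂) : Z₁ = Z₂ := by
  obtain ⟨A, -, rfl, hAΦ, hAc, hAp, hAcard⟩ := hz₁
  obtain ⟨B, -, rfl, -, hBc, hBp, hBcard⟩ := hz₂
  obtain ⟨hn2, hidx2, -, -, y2, v2, c2, w2, hf2⟩ := h₂
  obtain ⟨-, -, -, -, hE2, -⟩ := jFacts hG (by omega) hidx2 hf2
  have hA2 : ∀ a ∈ A, (a : G) ∈ E₂ := fun a ha => hE2.ge (Subgroup.mem_sup_left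
    ((phi_le_of (p := p) (fun x _ z _ => commutator_mem_frattini hG x z)
      fun x _ => Cfsg.Agent.PGroupBasics.pow_mem_frattini hG x) ⟨a, hAΦ ha, rfl⟩))
  set s : Set G := (A.map E₁.subtype : Set G) ∪ (B.map E₂.subtype : Set G) with hs
  have hc : ∀ a ∈ s, ∀ b ∈ s, Commute a b := by
    rintro _ (⟨a, ha, rfl⟩ | ⟨a, ha, rfl⟩) _ (⟨b, hb, rfl⟩ | ⟨b, hb, rfl⟩)
    · exact (hAc a ha b).map E₁.subtype
    · exact ((hBc b hb ⟨a, hA2 a ha⟩).map E₂.subtype).symm
    · exact (hBc a ha ⟨b, hA2 b hb⟩).map E₂.subtype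
    · exact (hBc a ha b).map E₂.subtype
  have he : ∀ a ∈ s, a ^ p = 1 := by
    rintro _ (⟨a, ha, rfl⟩ | ⟨a, ha, rfl⟩)
    exacts [by rw [← map_pow, hAp a ha, map_one], by rw [← map_pow, hBp a ha, map_one]]
  set H := Subgroup.closure s with hH
  haveI := comm_closure hc
  have hcard : Nat.card H ≤ p ^ 3 := by
    have h := hsec H ⊥ ⊤ ⟨⟨fun a b => Subtype.ext (by
      obtain ⟨x, hx⟩ := QuotientGroup.mk'_surjective (⊥ : Subgroup H) (a : H ⧸ (⊥ : Subgroup H))
      obtain ⟨z, hz⟩ := QuotientGroup.mk'_surjective (⊥ : Subgroup H) (b : H ⧸ (⊥ : Subgroup H))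
      show (a : H ⧸ (⊥ : Subgroup H)) * (b : H ⧸ (⊥ : Subgroup H)) = (b : H ⧸ (⊥ : Subgroup H)) * a
      rw [← hx, ← hz, ← map_mul, ← map_mul, mul_comm' x z])⟩⟩ (fun a _ => by
      obtain ⟨x, rfl⟩ := QuotientGroup.mk'_surjective (⊥ : Subgroup H) a
      rw [← map_pow, show x ^ p = 1 from Subtype.ext (pow_eq_one_closure p hc he x.2), map_one])
    rwa [Subgroup.card_top, ← Subgroup.index_eq_card, Subgroup.index_bot] at h
  have e : ∀ {E : Subgroup G} {A : Subgroup E}, Nat.card A = p ^ 3 → A.map E.subtype ≤ H → A.map E.subtype = H :=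
    fun {E A} hA hle => Subgroup.eq_of_le_of_card_ge hle (by
      rw [Subgroup.card_map_of_injective E.subtype_injective, hA]; exact hcard)
  exact (e hAcard fun x hx => Subgroup.subset_closure (Or.inl hx)).trans
    (e hBcard fun x hx => Subgroup.subset_closure (Or.inr hx)).symm

/-- The exceptional subgroup and the irreducible case exclude each other. -/
theorem jData_exc (hG : IsPGroup p G) (h5 : 5 ≤ p) (hsec : Cfsg.SectionalPRankLE p 3 G) {E₁ E₂ : Subgroup G}
    (h₁ : JData p E₁) (h₂ : Exc p E₂) : False := by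
  obtain ⟨-, -, hcard, a, ha, b, hb, hab⟩ := h₂
  have hp2 : p ≠ 2 := by omega
  have hJ := h₁
  obtain ⟨hn, hidx, hf3, hirr, y, v, c, w, hf⟩ := h₁
  obtain ⟨-, -, -, -, hE1, -⟩ := jFacts hG hp2 hidx hf
  have hfE : frattini G ≤ E₁ := hE1 ▸ le_sup_left
  have hE := hG.to_subgroup E₁
  have hc2 : Nat.card (frattini E₁) ≤ p ^ 2 := by
    rw [← E₁.card_mul_index, hidx, ← (frattini E₁).card_mul_index, hf3] at hcard
    have h : Nat.card (frattini E₁) * p ^ 4 ≤ p ^ 2 * p ^ 4 := by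
      rw [← pow_add]; exact le_of_eq_of_le (by ring) hcard
    exact Nat.le_of_mul_le_mul_right h (pow_pos hp.out.pos 4)
  have h23 : p ^ 2 < p ^ 3 := Nat.pow_lt_pow_right hp.out.one_lt (by norm_num)
  by_cases hne : ∃ a b : E₁, ⁅a, b⁆ ∉ low p E₁
  · obtain ⟨Z, Z₀, -, -, hΦ, -, -, hZ⟩ := zp_of_comm hG h5 hsec hJ hne
    have := Subgroup.card_le_of_le hΦ
    omega
  push Not at hne
  set f : E₁ →* Layer p E₁ := (powHom hE hp2).comp (proj (p := p)) with hfd
  have hkc : f.ker.Characteristic := by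
    refine Subgroup.characteristic_iff_le_comap.2 fun φ x hx => ?_
    have hx' : x ^ p ∈ low p E₁ := (QuotientGroup.eq_one_iff _).1 (show proj (p := p) (x ^ p) = 1 by
      rw [map_pow]; exact hx)
    show proj (p := p) (φ x) ^ p = 1
    rw [← map_pow, ← map_pow]
    exact (QuotientGroup.eq_one_iff _).2 (char_mem inferInstance φ hx')
  have hbot : frattini E₁ = ⊥ := by
    rcases hirr f.ker (fun x hx => powHom_frattini hE hp2 hx) hkc with h | h
    · exfalso
      have hr : f.range ≤ dLayer p E₁ := by rintro _ ⟨x, rfl⟩; exact mem_dLayer_of_pow hE _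
      have h1 := Subgroup.card_le_of_le hr
      rw [← Subgroup.index_ker, le_antisymm h fun x hx => powHom_frattini hE hp2 hx, hf3] at h1
      have h2 : Nat.card (dLayer p E₁) ≤ Nat.card (frattini E₁) :=
        Nat.le_of_dvd Nat.card_pos ((frattini E₁).card_map_dvd _)
      omega
    · rw [← ser_one hE]
      refine eq_bot_of_succ hE (le_antisymm (ser_anti 1) ?_)
      rw [ser_two hE, ser_one hE]
      refine Cfsg.Agent.LEFrattini.frattini_le (p := p) (fun a b => hne a b) fun x => ?_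
      have h' : proj (p := p) x ^ p = 1 := h.ge (Subgroup.mem_top x)
      rw [← map_pow] at h'
      exact (QuotientGroup.eq_one_iff _).1 h'
  refine hab ?_
  have h' := commutatorElement_eq_one_iff_commute.1
    (Subgroup.mem_bot.1 (hbot ▸ commutator_mem_frattini hE (⟨a, hfE ha⟩ : E₁) ⟨b, hfE hb⟩))
  exact h'.map E₁.subtype

end Cfsg.Agent.RankThreeCore
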