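import Cfsg.Agent.Lib.RankThreeEss.LayerJ

/-!
In the irreducible case a commutator outside the second layer makes the group powerful on that layer.
-/

set_option autoImplicit false
set_option linter.unusedSectionVars false
set_option maxHeartbeats 2000000

open scoped commutatorElement
open Cfsg.Agent.RankThreeEss

namespace Cfsg.Agent.RankThreeCore

theorem jPowerful {p : ℕ} [hp : Fact p.Prime] {E : Type*} [Group E] [Finite E] (hE : IsPGroup p E) (h5 : 5 ≤ p)
    {S0 : Type*} [Group S0] [Finite S0] (hsec : Cfsg.SectionalPRankLE p 3 S0) (j : E →* S0)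
    (hj : Function.Injective j) (α : MulAut E) (v c w : E) (hgen : Subgroup.closure ({v, c, w} : Set E) = ⊤)
    (hαv : (c * v)⁻¹ * α v ∈ frattini E) (hαc : (w * c)⁻¹ * α c ∈ frattini E) (hαw : w⁻¹ * α w ∈ frattini E)
    (hw : w ∉ frattini E) (hwc : ∀ t : ZMod p, (ev c t)⁻¹ * w ∉ frattini E)
    (hcw : ∀ t : ZMod p, (ev w t)⁻¹ * c ∉ frattini E)
    (hirr : ∀ U : Subgroup E, frattini E ≤ U → U.Characteristic → U ≤ frattini E ∨ U = ⊤)
    (hidx : (frattini E).index = p ^ 3) (hne : ∃ a b : E, ⁅a, b⁆ ∉ low p E) :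
    frattini E ≠ ⊥ ∧ frattini E ≤ low p E ⊔ Subgroup.closure {g | ∃ x : E, g = x ^ p} := by
  obtain ⟨a₀, b₀, hab₀⟩ := hne
  refine ⟨fun h => hab₀ ?_, ?_⟩
  · rw [show ⁅a₀, b₀⁆ = 1 from Subgroup.mem_bot.1 (h ▸ commutator_mem_frattini hE a₀ b₀)]
    exact one_mem _
  have hp2 : p ≠ 2 := by omega
  have hcl := layer_comm_central (p := p) hE
  have hcp := layer_comm_pow (p := p) hE
  set A := autQuot (low p E) α with hA
  set q : E →* Layer p E := proj with hq
  set V := q v with hV
  set C := q c with hC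
  set W := q w with hW
  have hπ : ∀ x : Layer p E, powHom hE hp2 x = x ^ p := fun x => rfl
  have hshift : ∀ (x y : E), y⁻¹ * x ∈ frattini E → ∃ φ ∈ dLayer p E, q x = φ * q y := fun x y h =>
    ⟨q (y⁻¹ * x), ⟨_, h, rfl⟩, by
      rw [(dLayer_central ⟨_, h, rfl⟩ (q y)).eq, ← map_mul, mul_inv_cancel_left]⟩
  obtain ⟨φv, hφv, eV⟩ := hshift _ _ hαv
  obtain ⟨φc, hφc, eC⟩ := hshift _ _ hαc
  obtain ⟨φw, hφw, eW⟩ := hshift _ _ hαw
  have hAV : A V = φv * (C * V) := by rw [hA, hV, autQuot_mk, hC, ← map_mul]; exact eV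
  have hAC : A C = φc * (W * C) := by rw [hA, hC, autQuot_mk, hW, ← map_mul]; exact eC
  have hAW : A W = φw * W := by rw [hA, hW, autQuot_mk]; exact eW
  set e := ⁅V, C⁆ with hedef
  set d2 := ⁅V, W⁆ with hd2def
  set d3 := ⁅C, W⁆ with hd3def
  have cz := fun {x : Layer p E} (hx : x ∈ dLayer p E) => dLayer_central hx
  have hAe : A e = d3 * d2 * e := by
    rw [hedef, map_commutatorElement, hAV, hAC, comm_central_left (cz hφv), comm_central_right (cz hφc),
      comm_mul_left (hcl V (W * C)), comm_mul_right (hcl C C), commutatorElement_self, mul_one,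
      comm_mul_right (hcl V C), mul_assoc]
  have hAd2 : A d2 = d3 * d2 := by
    rw [hd2def, map_commutatorElement, hAV, hAW, comm_central_left (cz hφv), comm_central_right (cz hφw),
      comm_mul_left (hcl V W)]
  have hAd3 : A d3 = d3 := by
    rw [hd3def, map_commutatorElement, hAC, hAW, comm_central_left (cz hφc), comm_central_right (cz hφw),
      comm_mul_left (hcl C W), commutatorElement_self, one_mul]
  have hπD : ∀ {x : Layer p E}, x ∈ dLayer p E → powHom hE hp2 x = 1 := fun hx => dLayer_pow hx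
  have hAπ : ∀ x : Layer p E, A (powHom hE hp2 x) = powHom hE hp2 (A x) := fun x => map_pow A x p
  have hAπV : A (powHom hE hp2 V) = powHom hE hp2 C * powHom hE hp2 V := by
    rw [hAπ, hAV, map_mul, hπD hφv, one_mul, map_mul]
  have hAπC : A (powHom hE hp2 C) = powHom hE hp2 W * powHom hE hp2 C := by
    rw [hAπ, hAC, map_mul, hπD hφc, one_mul, map_mul]
  have hAπW : A (powHom hE hp2 W) = powHom hE hp2 W := by
    rw [hAπ, hAW, map_mul, hπD hφw, one_mul]
  -- elements of the layer
  let eD : dLayer p E := ⟨e, mem_dLayer_of_comm hE _ _⟩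
  let d2D : dLayer p E := ⟨d2, mem_dLayer_of_comm hE _ _⟩
  let d3D : dLayer p E := ⟨d3, mem_dLayer_of_comm hE _ _⟩
  let vD : dLayer p E := ⟨powHom hE hp2 V, mem_dLayer_of_pow hE _⟩
  let cD : dLayer p E := ⟨powHom hE hp2 C, mem_dLayer_of_pow hE _⟩
  let wD : dLayer p E := ⟨powHom hE hp2 W, mem_dLayer_of_pow hE _⟩
  have pD : ∀ x : dLayer p E, x ^ p = 1 := fun x => Subtype.ext (dLayer_pow x.2)
  have De : delta α eD = d3D * d2D := delta_spec hAe
  have Dd2 : delta α d2D = d3D := delta_spec hAd2
  have Dd3 : delta α d3D = 1 := delta_spec (show A d3 = 1 * d3 by rw [one_mul]; exact hAd3)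
  have Dv : delta α vD = cD := delta_spec hAπV
  have Dc : delta α cD = wD := delta_spec hAπC
  have Dw : delta α wD = 1 := delta_spec (show A _ = 1 * _ by rw [one_mul]; exact hAπW)
  have hgenR : Subgroup.closure ({V, C, W} : Set (Layer p E)) = ⊤ := by
    rw [show ({V, C, W} : Set (Layer p E)) = q '' {v, c, w} by simp [Set.image_insert_eq, hV, hC, hW],
      ← MonoidHom.map_closure, hgen, Subgroup.map_top_of_surjective _ (QuotientGroup.mk'_surjective _)]
  set T0 : Subgroup (Layer p E) := Subgroup.closure {e, d2, d3} with hT0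
  have me : e ∈ T0 := Subgroup.subset_closure (by simp)
  have md2 : d2 ∈ T0 := Subgroup.subset_closure (by simp)
  have md3 : d3 ∈ T0 := Subgroup.subset_closure (by simp)
  have hcomm : ∀ a b : Layer p E, ⁅a, b⁆ ∈ T0 := by
    refine comm_mem_of_gen hcl hgenR ?_
    have hneg : ∀ {a b : Layer p E}, ⁅a, b⁆ ∈ T0 → ⁅b, a⁆ ∈ T0 := fun h => by
      rw [← commutatorElement_inv]; exact inv_mem h
    rintro a (rfl | rfl | rfl) b (rfl | rfl | rfl)
    exacts [by rw [commutatorElement_self]; exact one_mem _, me, md2, hneg me,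
      by rw [commutatorElement_self]; exact one_mem _, md3, hneg md2, hneg md3,
      by rw [commutatorElement_self]; exact one_mem _]
  -- invariant subgroups of the layer quotient
  have hlowΦ := low_le (p := p) hE
  have hirrR : ∀ X : Subgroup (Layer p E), dLayer p E ≤ X → X.Characteristic →
      (∀ x, q x ∈ X → x ∈ frattini E) ∨ X = ⊤ := by
    intro X hDX hX
    rcases hirr (X.comap q) (fun x hx => hDX ⟨x, hx, rfl⟩) (comap_characteristic hX) with h | h
    · exact Or.inl fun x hx => h hx
    · refine Or.inr (eq_top_iff.2 fun r _ => ?_)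
      obtain ⟨x, rfl⟩ := QuotientGroup.mk'_surjective (low p E) r
      exact h.ge (Subgroup.mem_top x)
  have he1 : e ≠ 1 := by
    intro h
    have h2 := hAe
    rw [h, map_one, mul_one] at h2
    rw [← h2] at hAd2
    have hd2 : d2 = 1 := A.injective (hAd2.trans (map_one A).symm)
    rw [hd2, mul_one] at h2
    have hle : T0 ≤ ⊥ := (Subgroup.closure_le _).2 (by
      rintro x (rfl | rfl | rfl)
      exacts [Subgroup.mem_bot.2 h, Subgroup.mem_bot.2 hd2, Subgroup.mem_bot.2 h2.symm])
    have h' := Subgroup.mem_bot.1 (hle (hcomm (q a₀) (q b₀)))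
    rw [← map_commutatorElement] at h'
    exact hab₀ ((QuotientGroup.eq_one_iff _).1 h')
  have hWZ : ¬ ∀ r, Commute W r := by
    intro hWc
    have hD : dLayer p E ≤ Subgroup.center (Layer p E) := fun x hx =>
      Subgroup.mem_center_iff.2 fun r => ((dLayer_central hx) r).eq.symm
    rcases hirrR _ hD inferInstance with h | h
    · exact hw (h w (Subgroup.mem_center_iff.2 fun r => (hWc r).eq.symm))
    · exact he1 (commutatorElement_eq_one_iff_commute.2
        ((Subgroup.mem_center_iff.1 (h.ge (Subgroup.mem_top V))) C).symm)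
  have hd31 : d3 ≠ 1 := by
    intro hd31
    have hd21 : d2 ≠ 1 := by
      intro hd21
      refine hWZ fun r => ?_
      have h : Subgroup.closure ({V, C, W} : Set (Layer p E)) ≤ Subgroup.centralizer {W} := by
        refine (Subgroup.closure_le _).2 ?_
        rintro x (rfl | rfl | rfl)
        exacts [Subgroup.mem_centralizer_iff.2 (by
            rintro y rfl; exact (commutatorElement_eq_one_iff_commute.1 hd21).eq.symm),
          Subgroup.mem_centralizer_iff.2 (by
            rintro y rfl; exact (commutatorElement_eq_one_iff_commute.1 hd31).eq.symm),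
          Subgroup.mem_centralizer_iff.2 (by rintro y rfl; rfl)]
      exact Subgroup.mem_centralizer_iff.1 (h (hgenR.ge (Subgroup.mem_top r))) W rfl
    have hind : ∀ k l : ZMod p, ev e k * ev d2 l = 1 → k = 0 ∧ l = 0 := by
      intro k l h
      have h' : ev eD k * ev d2D l = 1 := Subtype.ext h
      have h'' := congrArg (delta α) h'
      rw [map_mul, map_ev, map_ev, De, Dd2, map_one, show d3D = 1 from Subtype.ext hd31, one_mul,
        ev_one_left, mul_one] at h''
      have hk := ev_eq_one (pD d2D) (fun h => hd21 (congrArg Subtype.val h)) h''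
      refine ⟨hk, ?_⟩
      rw [hk, ev_zero, one_mul] at h
      exact ev_eq_one (hcp V W) hd21 h
    haveI : (frattini E ⊔ Subgroup.zpowers w).Normal := normal_of_frattini_le hE le_sup_left
    set H2 : Subgroup E := (frattini E ⊔ Subgroup.zpowers w) ⊔ Subgroup.zpowers c with hH2
    haveI : H2.Normal := normal_of_frattini_le hE (le_sup_left.trans le_sup_left)
    have hH2R : ∀ x ∈ H2, ∃ (k l : ZMod p) (φ : E), φ ∈ frattini E ∧ x = ev c k * (ev w l * φ) := by
      intro x hx
      obtain ⟨k, hk⟩ := exists_ev_sup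
        (Subgroup.mem_sup_left (Cfsg.Agent.PGroupBasics.pow_mem_frattini hE c)) hx
      obtain ⟨l, hl⟩ := exists_ev_sup (Cfsg.Agent.PGroupBasics.pow_mem_frattini hE w) hk
      exact ⟨k, l, _, hl, by rw [mul_inv_cancel_left, mul_inv_cancel_left]⟩
    have hdec : ∀ x : E, ∃ (i k l : ZMod p) (φ : Layer p E), φ ∈ dLayer p E ∧
        q x = ev V i * (ev C k * (ev W l * φ)) ∧ (i = 0 → x ∈ H2) := by
      intro x
      have htop : x ∈ H2 ⊔ Subgroup.zpowers v := by
        refine (Subgroup.closure_le _).2 ?_ (hgen.ge (Subgroup.mem_top x))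
        rintro y (rfl | rfl | rfl)
        exacts [Subgroup.mem_sup_right (Subgroup.mem_zpowers _),
          Subgroup.mem_sup_left (Subgroup.mem_sup_right (Subgroup.mem_zpowers _)),
          Subgroup.mem_sup_left (Subgroup.mem_sup_left (Subgroup.mem_sup_right (Subgroup.mem_zpowers _)))]
      obtain ⟨i, hi⟩ := exists_ev_sup
        (Subgroup.mem_sup_left (Subgroup.mem_sup_left (Cfsg.Agent.PGroupBasics.pow_mem_frattini hE v))) htop
      obtain ⟨k, l, φ, hφ, hx⟩ := hH2R _ hi
      refine ⟨i, k, l, q φ, ⟨φ, hφ, rfl⟩, ?_, fun h => ?_⟩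
      · have : x = ev v i * (ev c k * (ev w l * φ)) := by rw [← hx, mul_inv_cancel_left]
        rw [this, map_mul, map_mul, map_mul, map_ev, map_ev, map_ev]
      · rw [h, ev_zero, inv_one, one_mul] at hi
        exact hi
    have hcab : ∀ (k l k' l' : ZMod p), ⁅ev C k * ev W l, ev C k' * ev W l'⁆ = 1 := fun k l k' l' =>
      commutatorElement_eq_one_iff_commute.2 (by
        have hcw' : Commute C W := commutatorElement_eq_one_iff_commute.1 hd31
        have h : ∀ a b : ℕ, Commute (C ^ a) (W ^ b) := fun a b => hcw'.pow_pow a b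
        exact ((((Commute.refl C).pow_pow _ _).mul_right (h _ _)).mul_left
          (((h _ _).symm).mul_right ((Commute.refl W).pow_pow _ _))))
    have key : ∀ x y : E, Commute (q x) (q y) → x ∉ H2 → ∃ t : ZMod p, (ev x t)⁻¹ * y ∈ frattini E := by
      intro x y hxy hx
      obtain ⟨i, k, l, φ, hφ, hqx, hi0⟩ := hdec x
      have hi : i ≠ 0 := fun h => hx (hi0 h)
      obtain ⟨m, k1, l1, φ1, hφ1, hqy, hm0⟩ := hdec y
      obtain ⟨i', k', l', φ', hφ', hqy', hi'0⟩ := hdec ((ev x (m / i))⁻¹ * y)
      refine ⟨m / i, ?_⟩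
      -- the corrected element lies in the plane
      have hz : i' = 0 := by
        by_contra hi'
        -- read the `v`-coordinate in `E ⧸ H2`
        have hp1 : ∀ r : E ⧸ H2, r ^ p = 1 := fun r => by
          obtain ⟨r, rfl⟩ := QuotientGroup.mk'_surjective H2 r
          rw [← map_pow]
          exact (QuotientGroup.eq_one_iff _).2
            (Subgroup.mem_sup_left (Subgroup.mem_sup_left (Cfsg.Agent.PGroupBasics.pow_mem_frattini hE r)))
        have hval : ∀ (z : E) (i k l : ZMod p) (φ : Layer p E), φ ∈ dLayer p E →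
            q z = ev V i * (ev C k * (ev W l * φ)) →
            QuotientGroup.mk' H2 z = ev (QuotientGroup.mk' H2 v) i := by
          intro z i k l φ hφ hz
          obtain ⟨φ₀, hφ₀, rfl⟩ := hφ
          rw [hV, hC, hW, ← map_ev q, ← map_ev q, ← map_ev q, ← map_mul, ← map_mul, ← map_mul] at hz
          have h1 := hlowΦ (QuotientGroup.eq.1 hz.symm)
          rw [← map_ev]
          refine (QuotientGroup.eq.2 ?_).symm
          have h2 : ev c k * (ev w l * φ₀) ∈ H2 :=
            mul_mem (Subgroup.mem_sup_right (ev_mem (Subgroup.mem_zpowers c) k))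
              (Subgroup.mem_sup_left (mul_mem (Subgroup.mem_sup_right (ev_mem (Subgroup.mem_zpowers w) l))
                (Subgroup.mem_sup_left hφ₀)))
          have h3 := mul_mem h2 ((le_sup_left.trans le_sup_left : frattini E ≤ H2) h1)
          rwa [show ev c k * (ev w l * φ₀) * ((ev v i * (ev c k * (ev w l * φ₀)))⁻¹ * z) = (ev v i)⁻¹ * z by
            group] at h3
        have hv1 : QuotientGroup.mk' H2 v ≠ 1 := by
          intro h
          have h' := (QuotientGroup.eq_one_iff _).1 h
          refine hx ?_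
          have hxv := hval x i k l φ hφ hqx
          rw [h, ev_one_left] at hxv
          exact (QuotientGroup.eq_one_iff _).1 hxv
        refine hi' (ev_eq_one (hp1 _) hv1 ?_)
        rw [← hval _ i' k' l' φ' hφ' hqy', map_mul, map_inv, map_ev, hval x i k l φ hφ hqx,
          hval y m k1 l1 φ1 hφ1 hqy, ← ev_mul (hp1 _), mul_div_cancel₀ m hi, inv_mul_cancel]
      rw [hz, ev_zero, one_mul] at hqy'
      have hcomm' : Commute (q x) (q ((ev x (m / i))⁻¹ * y)) := by
        rw [map_mul, map_inv, map_ev]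
        exact ((Commute.refl (q x)).pow_right _).inv_right.mul_right hxy
      rw [← commutatorElement_eq_one_iff_commute, hqx, hqy', comm_mul_left (hcl _ _)] at hcomm'
      rw [← mul_assoc (ev C k), ← mul_assoc (ev C k'), ← (dLayer_central hφ _).eq, ← (dLayer_central hφ' _).eq,
        comm_central_right (cz hφ'), comm_central_right (cz hφ'), comm_central_left (cz hφ), hcab, mul_one,
        comm_mul_right (hcl _ _), comm_ev_left (hcl _ _), comm_ev_left (hcl _ _), comm_ev_right (hcl _ _),
        comm_ev_right (hcl _ _), ← hedef, ← hd2def, ← ev_mul (hcp V C), ← ev_mul (hcp V W)] at hcomm'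
      obtain ⟨h1, h2⟩ := hind _ _ hcomm'
      have hk' : k' = 0 := (mul_eq_zero.1 h1).resolve_right hi
      have hl' : l' = 0 := (mul_eq_zero.1 h2).resolve_right hi
      rw [hk', hl', ev_zero, ev_zero, one_mul, one_mul] at hqy'
      obtain ⟨φ₀, hφ₀, hφ₀e⟩ := hφ'
      have := mul_mem hφ₀ (hlowΦ (QuotientGroup.eq.1 (hφ₀e.trans hqy'.symm)))
      rwa [mul_inv_cancel_left] at this
    have hchar : H2.Characteristic := by
      refine Subgroup.characteristic_iff_map_le.2 fun a => ?_
      rw [Subgroup.map_sup, Subgroup.map_sup, MonoidHom.map_zpowers, MonoidHom.map_zpowers,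
        Subgroup.characteristic_iff_map_eq.1 inferInstance a]
      have hcomm' : Commute (q (a c)) (q (a w)) := by
        rw [← commutatorElement_eq_one_iff_commute]
        show ⁅autQuot (low p E) a (q c), autQuot (low p E) a (q w)⁆ = 1
        rw [← map_commutatorElement, ← hC, ← hW, ← hd3def, hd31, map_one]
      have hback : ∀ {x y : E} {t : ZMod p}, (ev (a x) t)⁻¹ * a y ∈ frattini E → (ev x t)⁻¹ * y ∈ frattini E := by
        intro x y t h
        rw [← map_ev, ← map_inv, ← map_mul] at h
        have := char_mem (inferInstance : (frattini E).Characteristic) a⁻¹ h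
        rwa [show a⁻¹ (a ((ev x t)⁻¹ * y)) = (ev x t)⁻¹ * y from a.symm_apply_apply _] at this
      have hc' : a c ∈ H2 := by
        by_contra h
        obtain ⟨t, ht⟩ := key _ _ hcomm' h
        exact hwc t (hback ht)
      have hw' : a w ∈ H2 := by
        by_contra h
        obtain ⟨t, ht⟩ := key _ _ hcomm'.symm h
        exact hcw t (hback ht)
      exact sup_le (sup_le (le_sup_left.trans le_sup_left) (Subgroup.zpowers_le.2 hw')) (Subgroup.zpowers_le.2 hc')
    rcases hirr H2 (le_sup_left.trans le_sup_left) hchar with h | h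
    · exact hw (h (Subgroup.mem_sup_left (Subgroup.mem_sup_right (Subgroup.mem_zpowers w))))
    · refine he1 ?_
      obtain ⟨k, l, φ, hφ, hvx⟩ := hH2R v (h.ge (Subgroup.mem_top v))
      have hV' : V = ev C k * (ev W l * q φ) := by rw [hV, hvx, map_mul, map_mul, map_ev, map_ev]
      rw [hedef, hV', ← mul_assoc, ← (dLayer_central ⟨φ, hφ, rfl⟩ _).eq, comm_central_left (cz ⟨φ, hφ, rfl⟩)]
      have h0 := hcab k l 1 0
      rwa [ev_one, ev_zero, mul_one] at h0
  have hd3' : d3D ≠ 1 := fun h => hd31 (congrArg Subtype.val h)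
  have hind3 : ∀ i k l : ZMod p, ev e i * ev d2 k * ev d3 l = 1 → i = 0 ∧ k = 0 ∧ l = 0 := by
    intro i k l h
    have h' : ev eD i * ev d2D k * ev d3D l = 1 := Subtype.ext h
    have h1 := congrArg (delta α) h'
    rw [map_mul, map_mul, map_ev, map_ev, map_ev, De, Dd2, Dd3, ev_one_left, mul_one, map_one] at h1
    have h2 := congrArg (delta α) h1
    rw [map_mul, map_ev, map_ev, map_mul, Dd3, Dd2, one_mul, ev_one_left, mul_one, map_one] at h2
    have hi := ev_eq_one (pD d3D) hd3' h2
    rw [hi, ev_zero, one_mul] at h1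
    have hk := ev_eq_one (pD d3D) hd3' h1
    rw [hi, hk, ev_zero, ev_zero, one_mul, one_mul] at h
    exact ⟨hi, hk, ev_eq_one (hcp C W) hd31 h⟩
  -- the powers avoid the commutators
  have hT0mem : ∀ x ∈ T0, ∃ i k l : ZMod p, x = ev e i * ev d2 k * ev d3 l := by
    intro x hx
    induction hx using Subgroup.closure_induction with
    | mem y hy =>
      rcases hy with rfl | rfl | rfl
      · exact ⟨1, 0, 0, by rw [ev_one, ev_zero, ev_zero, mul_one, mul_one]⟩
      · exact ⟨0, 1, 0, by rw [ev_one, ev_zero, ev_zero, mul_one, one_mul]⟩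
      · exact ⟨0, 0, 1, by rw [ev_one, ev_zero, ev_zero, one_mul, one_mul]⟩
    | one => exact ⟨0, 0, 0, by rw [ev_zero, ev_zero, ev_zero, one_mul, one_mul]⟩
    | mul y z _ _ hy hz =>
      obtain ⟨i, k, l, rfl⟩ := hy
      obtain ⟨i', k', l', rfl⟩ := hz
      refine ⟨i + i', k + k', l + l', ?_⟩
      show ((ev eD i * ev d2D k * ev d3D l * (ev eD i' * ev d2D k' * ev d3D l') : dLayer p E) : Layer p E) =
        ((ev eD (i + i') * ev d2D (k + k') * ev d3D (l + l') : dLayer p E) : Layer p E)
      rw [ev_add (pD eD), ev_add (pD d2D), ev_add (pD d3D)]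
      congr 1
      ac_rfl
    | inv y _ hy =>
      obtain ⟨i, k, l, rfl⟩ := hy
      refine ⟨-i, -k, -l, ?_⟩
      show (((ev eD i * ev d2D k * ev d3D l)⁻¹ : dLayer p E) : Layer p E) =
        ((ev eD (-i) * ev d2D (-k) * ev d3D (-l) : dLayer p E) : Layer p E)
      rw [ev_neg (pD eD), ev_neg (pD d2D), ev_neg (pD d3D), mul_inv_rev, mul_inv_rev]
      congr 1
      ac_rfl
  have hT0D : T0 ≤ dLayer p E := (Subgroup.closure_le _).2 (by
    rintro x (rfl | rfl | rfl) <;> exact mem_dLayer_of_comm hE _ _)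
  have hbot : (∀ r, powHom hE hp2 r ∈ T0 → powHom hE hp2 r = 1) ∨ dLayer p E ≤ (powHom hE hp2).range := by
    have hT0c : T0 = commutator (Layer p E) := by
      refine le_antisymm ((Subgroup.closure_le _).2 ?_) ?_
      · rintro x (rfl | rfl | rfl) <;>
          exact Subgroup.commutator_mem_commutator (Subgroup.mem_top _) (Subgroup.mem_top _)
      · exact Subgroup.commutator_le.2 fun a _ b _ => hcomm a b
    have hXc : (T0.comap (powHom hE hp2)).Characteristic := by
      refine Subgroup.characteristic_iff_le_comap.2 fun a x hx => ?_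
      show a x ^ p ∈ T0
      rw [← map_pow, hT0c]
      exact char_mem inferInstance a (hT0c ▸ hx)
    rcases hirrR _ (fun x hx => show powHom hE hp2 x ∈ T0 by rw [hπD hx]; exact one_mem _) hXc with h | h
    · left
      intro r hr
      obtain ⟨x, rfl⟩ := QuotientGroup.mk'_surjective (low p E) r
      exact hπD ⟨x, h x hr, rfl⟩
    · have hkc : (powHom hE hp2).ker.Characteristic := by
        refine Subgroup.characteristic_iff_le_comap.2 fun a x hx => ?_
        show a x ^ p = 1
        rw [← map_pow, show x ^ p = 1 from hx, map_one]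
      rcases hirrR _ (fun x hx => hπD hx) hkc with h' | h'
      · right
        have hker : (powHom hE hp2).ker = dLayer p E := by
          refine le_antisymm (fun x hx => ?_) fun x hx => hπD hx
          obtain ⟨x, rfl⟩ := QuotientGroup.mk'_surjective (low p E) x
          exact ⟨x, h' x hx, rfl⟩
        have hcard : Nat.card (powHom hE hp2).range = p ^ 3 := by
          rw [← Subgroup.index_ker, hker, Subgroup.index_map, MonoidHom.range_eq_top.2
            (QuotientGroup.mk'_surjective _), Subgroup.index_top, mul_one, QuotientGroup.ker_mk',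
            sup_eq_left.2 hlowΦ, hidx]
        have hT : Nat.card T0 ≤ p ^ 3 := by
          have := Nat.card_le_card_of_surjective (fun x : ZMod p × ZMod p × ZMod p =>
            (⟨ev e x.1 * ev d2 x.2.1 * ev d3 x.2.2,
              mul_mem (mul_mem (ev_mem me _) (ev_mem md2 _)) (ev_mem md3 _)⟩ : T0)) fun x => by
            obtain ⟨i, k, l, hx⟩ := hT0mem x x.2
            exact ⟨(i, k, l), Subtype.ext hx.symm⟩
          simpa [Nat.card_prod, Nat.card_zmod, pow_succ, mul_assoc] using this
        have hRT : (powHom hE hp2).range = T0 := Subgroup.eq_of_le_of_card_ge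
          (by rintro _ ⟨x, rfl⟩; exact h.ge (Subgroup.mem_top x)) (hcard ▸ hT)
        refine dLayer_le hE hp2 hgenR (fun a _ b _ => hRT ▸ hcomm a b) fun a _ => ⟨a, rfl⟩
      · left
        intro r _
        exact h'.ge (Subgroup.mem_top r)
  rcases hbot with hbot | hfull
  swap
  · intro x hx
    obtain ⟨r, hr⟩ := hfull ⟨x, hx, rfl⟩
    obtain ⟨z, rfl⟩ := QuotientGroup.mk'_surjective (low p E) r
    rw [hπ, ← map_pow] at hr
    have := mul_mem (Subgroup.mem_sup_right (S := low p E) (Subgroup.subset_closure ⟨z, rfl⟩ : z ^ p ∈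
      Subgroup.closure {g | ∃ x : E, g = x ^ p})) (Subgroup.mem_sup_left (QuotientGroup.eq.1 hr))
    rwa [mul_inv_cancel_left] at this
  exfalso
  -- four commuting independent elements
  set B := (powHom hE hp2).range with hB
  have hBD : B ≤ dLayer p E := by
    rintro _ ⟨x, rfl⟩
    exact mem_dLayer_of_pow hE x
  haveI hBn : B.Normal := ⟨fun x hx y => by
    rw [← (dLayer_central (hBD hx) y).eq, mul_inv_cancel_right]; exact hx⟩
  set f : E →* Layer p E ⧸ B := (QuotientGroup.mk' B).comp q with hf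
  have hfq : ∀ x, f x = QuotientGroup.mk' B (q x) := fun x => rfl
  have hTB : ∀ x ∈ T0, QuotientGroup.mk' B x = 1 → x = 1 := fun x hx h => by
    obtain ⟨r, hr⟩ := (QuotientGroup.eq_one_iff _).1 h
    rw [← hr]
    exact hbot r (hr.symm ▸ hx)
  have h0 : ∀ i k l : ZMod p,
      ev (f ⁅v, c⁆) i * ev (f ⁅v, w⁆) k * ev (f ⁅c, w⁆) l = 1 → i = 0 ∧ k = 0 ∧ l = 0 := by
    intro i k l h
    refine hind3 i k l (hTB _ (mul_mem (mul_mem (ev_mem me i) (ev_mem md2 k)) (ev_mem md3 l)) ?_)
    rw [map_mul, map_mul, map_ev, map_ev, map_ev, ← h, hfq, hfq, hfq, map_commutatorElement q,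
      map_commutatorElement q, map_commutatorElement q]
  have hcen : ∀ x : E, x ∈ frattini E → ∀ y, Commute (f x) y := fun x hx y => by
    obtain ⟨y, rfl⟩ := QuotientGroup.mk'_surjective B y
    exact (dLayer_central ⟨x, hx, rfl⟩ y).map (QuotientGroup.mk' B)
  have hmem : ∀ x y, ⁅x, y⁆ ∈ frattini E := commutator_mem_frattini hE
  have hfp : ∀ x : E, f x ^ p = 1 := fun x => by
    rw [hfq, ← map_pow]
    exact (QuotientGroup.eq_one_iff _).2 ⟨q x, rfl⟩
  refine rank_contra hsec j hj f ![⁅v, c⁆, ⁅v, w⁆, ⁅c, w⁆, v]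
    ((hE.to_quotient (low p E)).to_quotient B) ?_ (fun i => hfp _) ?_ ?_ ?_ ?_
  · intro i k
    fin_cases i
    all_goals first
      | exact hcen _ (hmem _ _) _
      | (fin_cases k <;> first | exact (hcen _ (hmem _ _) _).symm | exact Commute.refl _)
  · intro h
    refine one_ne_zero (h0 1 0 0 ?_).1
    rw [ev_one, ev_zero, ev_zero, mul_one, mul_one]
    exact h
  · intro h
    rw [← Subgroup.zpowers_eq_closure] at h
    obtain ⟨i, hi⟩ := exists_ev (p := p) (hfp _) h
    refine one_ne_zero (neg_eq_zero.1 (h0 i (-1) 0 ?_).2.1)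
    have hi' : f ⁅v, w⁆ = ev (f ⁅v, c⁆) i := hi
    rw [ev_neg (hfp _), ev_one, ev_zero, mul_one, hi', mul_inv_cancel]
  · intro h
    obtain ⟨i, k, hik⟩ := exists_pair_ev (p := p) (hcen _ (hmem v c)) (hfp _) (hfp _) h
    refine one_ne_zero (neg_eq_zero.1 (h0 i k (-1) ?_).2.2)
    have hik' : f ⁅c, w⁆ = ev (f ⁅v, c⁆) i * ev (f ⁅v, w⁆) k := hik
    rw [ev_neg (hfp _), ev_one, hik', mul_inv_cancel]
  · intro h
    have h' : f v ∈ (dLayer p E).map (QuotientGroup.mk' B) := (Subgroup.closure_le _).2 (by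
      rintro x (rfl | rfl | rfl) <;> exact ⟨_, ⟨_, hmem _ _, rfl⟩, rfl⟩) h
    obtain ⟨y, hy, hye⟩ := h'
    have h1 : q v ∈ dLayer p E := by
      have := mul_mem hy (hBD (QuotientGroup.eq.1 hye))
      rwa [mul_inv_cancel_left] at this
    obtain ⟨z, hz, hze⟩ := h1
    have hvΦ : v ∈ frattini E := by
      have := mul_mem hz (hlowΦ (QuotientGroup.eq.1 hze))
      rwa [mul_inv_cancel_left] at this
    refine hcw 0 ?_
    rw [ev_zero, inv_one, one_mul]
    have h1 := char_mem (inferInstance : (frattini E).Characteristic) α hvΦ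
    have h2 := mul_mem h1 (inv_mem hαv)
    rw [mul_inv_rev, inv_inv, mul_inv_cancel_left] at h2
    exact (Subgroup.mul_mem_cancel_right _ hvΦ).1 h2

end Cfsg.Agent.RankThreeCore
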