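import Cfsg.Agent.Lib.RankThreeCore.Series
import Cfsg.Agent.Lib.RankThreeEss.LayerT
import Cfsg.Agent.Lib.RankThreeEss.Final
import Cfsg.Agent.Lib.Fusion.SmallCentreOdd

/-!
An essential subgroup with two generators in sectional rank three has a trivial third term of the
exponent-`p` series, so it is a pearl.
-/

set_option autoImplicit false
set_option linter.unusedSectionVars false
set_option maxHeartbeats 2000000

open scoped commutatorElement
open Cfsg.Agent.RankThreeEss

namespace Cfsg.Agent.RankThreeCore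

variable {p : ℕ} [hp : Fact p.Prime]

theorem exists_pair' {Q : Type*} [Group Q] {a b x : Q} (hab : Commute a b) (ha : a ^ p = 1) (hb : b ^ p = 1)
    (hx : x ∈ Subgroup.closure ({a, b} : Set Q)) : ∃ i k : ZMod p, x = ev a i * ev b k := by
  have hc : ∀ (k i : ZMod p), Commute (ev b k) (ev a i) := fun k i => (hab.symm.pow_pow k.val i.val)
  induction hx using Subgroup.closure_induction with
  | mem x hx =>
    rcases hx with rfl | rfl
    exacts [⟨1, 0, by rw [ev_one, ev_zero, mul_one]⟩, ⟨0, 1, by rw [ev_one, ev_zero, one_mul]⟩]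
  | one => exact ⟨0, 0, by rw [ev_zero, ev_zero, one_mul]⟩
  | mul x y _ _ hx hy =>
    obtain ⟨i, k, rfl⟩ := hx
    obtain ⟨i', k', rfl⟩ := hy
    exact ⟨i + i', k + k', by rw [ev_add ha, ev_add hb, (hc k i').mul_mul_mul_comm]⟩
  | inv x _ hx =>
    obtain ⟨i, k, rfl⟩ := hx
    exact ⟨-i, -k, by rw [ev_neg ha, ev_neg hb, mul_inv_rev, ((hc k i).inv_inv).eq]⟩

/-- A two-generated group with central `[v, w]` and all generators of order dividing `p`. -/
theorem pearl_of_low {E : Type*} [Group E] [Finite E] (hE : IsPGroup p E) (h5 : 5 ≤ p) {v w : E}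
    (hgen : Subgroup.closure ({v, w} : Set E) = ⊤) (hidx : (frattini E).index = p ^ 2)
    (hlow : low p E = ⊥) (hv : v ^ p = 1) (hw : w ^ p = 1) :
    ((∀ a b : E, a * b = b * a) ∧ (∀ x : E, x ^ p = 1) ∧ Nat.card E = p ^ 2) ∨
      (Cfsg.IsExtraspecial p E ∧ Nat.card E = p ^ 3 ∧ ∀ x : E, x ^ p = 1) := by
  have hp2 : p ≠ 2 := by omega
  have hcen : ∀ x ∈ frattini E, ∀ g, Commute x g := fun x hx g => by
    refine commutatorElement_eq_one_iff_commute.1 (Subgroup.mem_bot.1 ?_)
    rw [← hlow, ← ser_two hE]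
    exact ser_comm' g (by rw [ser_one hE]; exact hx)
  have hΦp : ∀ x ∈ frattini E, x ^ p = 1 := fun x hx => by
    refine Subgroup.mem_bot.1 ?_
    rw [← hlow, ← ser_two hE]
    exact ser_pow (by rw [ser_one hE]; exact hx)
  have hcl : ∀ a b g : E, Commute ⁅a, b⁆ g := fun a b => hcen _ (commutator_mem_frattini hE a b)
  have hexp : ∀ x : E, x ^ p = 1 := by
    let f : E →* E :=
      { toFun := fun x => x ^ p
        map_one' := one_pow p
        map_mul' := mul_pow_prime hp2 hcl fun a b => hΦp _ (commutator_mem_frattini hE a b) }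
    have : Subgroup.closure ({v, w} : Set E) ≤ f.ker := (Subgroup.closure_le _).2 (by
      rintro x (rfl | rfl) <;> assumption)
    exact fun x => this (hgen.ge (Subgroup.mem_top x))
  have hcomm : ∀ a b : E, ⁅a, b⁆ ∈ Subgroup.zpowers ⁅v, w⁆ := by
    refine comm_mem_of_gen hcl hgen ?_
    rintro a (rfl | rfl) b (rfl | rfl)
    exacts [by rw [commutatorElement_self]; exact one_mem _, Subgroup.mem_zpowers (G := E) _,
      Subgroup.mem_zpowers_iff.2 ⟨-1, by rw [zpow_neg_one, commutatorElement_inv]⟩,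
      by rw [commutatorElement_self]; exact one_mem _]
  have hΦ : frattini E = Subgroup.zpowers ⁅v, w⁆ :=
    le_antisymm (Cfsg.Agent.LEFrattini.frattini_le (p := p) hcomm fun x => by rw [hexp]; exact one_mem _)
      (Subgroup.zpowers_le.2 (commutator_mem_frattini hE v w))
  have hmul := (frattini E).card_mul_index
  rw [hidx] at hmul
  by_cases hz : ⁅v, w⁆ = 1
  · left
    have hb : frattini E = ⊥ := by rw [hΦ, hz, Subgroup.zpowers_one_eq_bot]
    refine ⟨fun a b => commutatorElement_eq_one_iff_mul_comm.1 (Subgroup.mem_bot.1 ?_), hexp, ?_⟩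
    · rw [← hb]; exact commutator_mem_frattini hE a b
    · rw [hb, Subgroup.card_bot, one_mul] at hmul
      exact hmul.symm
  · right
    have hc : Nat.card (frattini E) = p := by rw [hΦ, Nat.card_zpowers, orderOf_eq_prime (hexp _) hz]
    have hE3 : Nat.card E = p ^ 3 := by rw [hc] at hmul; rw [← hmul]; ring
    have hZ : Subgroup.center E = frattini E := by
      refine le_antisymm (fun x hx => ?_) fun x hx => Subgroup.mem_center_iff.2 fun g => ((hcen x hx g).eq).symm
      by_contra hxΦ
      have hle : Nat.card (Subgroup.center E) = p ^ 2 ∨ Subgroup.center E = ⊤ := by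
        obtain ⟨k, hk, hke⟩ := (Nat.dvd_prime_pow hp.out).1 (hE3 ▸ (Subgroup.center E).card_subgroup_dvd_card)
        have h1 := step hE (U := frattini E) (V := Subgroup.center E)
          (fun x hx => Subgroup.mem_center_iff.2 fun g => ((hcen x hx g).eq).symm) hx hxΦ
        rw [hc, hke] at h1
        have hk2 : 2 ≤ k := by
          by_contra h
          have := Nat.pow_le_pow_right hp.out.pos (show k ≤ 1 by omega)
          have := hp.out.two_le
          nlinarith
        rcases (by omega : k = 2 ∨ k = 3) with rfl | rfl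
        · exact Or.inl hke
        · exact Or.inr (Subgroup.eq_top_of_card_eq _ (hke.trans hE3.symm))
      have hab : ∀ a b : E, a * b = b * a := by
        rcases hle with h | h
        · have hci : (Subgroup.center E).index = p := by
            have h2 := (Subgroup.center E).card_mul_index
            rw [h, hE3] at h2
            exact Nat.eq_of_mul_eq_mul_left (pow_pos hp.out.pos 2) (h2.trans (by ring))
          haveI : Fact (Nat.card (E ⧸ Subgroup.center E)).Prime := ⟨by rw [← Subgroup.index_eq_card, hci]; exact hp.out⟩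
          haveI : IsCyclic (E ⧸ Subgroup.center E) := isCyclic_of_prime_card (p := Nat.card (E ⧸ Subgroup.center E)) rfl
          exact fun a b => ((QuotientGroup.mk' (Subgroup.center E)).isMulCommutative_of_isCyclic_of_ker_le_center
            (by rw [QuotientGroup.ker_mk'])).is_comm.comm a b
        · exact fun a b => (Subgroup.mem_center_iff.1 (h.ge (Subgroup.mem_top b)) a)
      exact hz (commutatorElement_eq_one_iff_mul_comm.2 (hab v w))
    refine ⟨Cfsg.Agent.FusionSys.isExtraspecial_of_card_cube hE hE3 (hZ ▸ hc) fun a b => ?_, hE3, hexp⟩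
    rw [hZ]
    exact commutator_mem_frattini hE a b

variable {G : Type*} [Group G] [Finite G]

/-- The p-th power of an element inducing a transvection lies in the Frattini subgroup. -/
theorem pow_mem_of_weight (hG : IsPGroup p G) (hp2 : p ≠ 2) (E : Subgroup G) [E.Normal] {y v w : G}
    (hyp : y ^ p ∈ E) (htop : E ⊔ Subgroup.zpowers y = ⊤) (hgenE : Subgroup.closure ({v, w} : Set G) = E)
    (r1 : w⁻¹ * ⁅y, v⁆ ∈ phi E) (r2 : ⁅y, w⁆ ∈ phi E) (hw : w ∉ phi E) (ψ : MulAut G)
    (hψE : E.map ψ.toMonoidHom = E) (t : ZMod p) (htt : t * t ≠ t)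
    (hψy : (ev y (t * t))⁻¹ * ψ y ∈ E) (hψw : (ev w t)⁻¹ * ψ w ∈ phi E) : y ^ p ∈ phi E := by
  have hvE : v ∈ E := hgenE ▸ Subgroup.subset_closure (Or.inl rfl)
  have hwE : w ∈ E := hgenE ▸ Subgroup.subset_closure (Or.inr rfl)
  have hΦψ : (phi E).map ψ.toMonoidHom = phi E := by rw [phi_map, hψE]
  set q := QuotientGroup.mk' (phi E) with hq
  set P : MulAut (G ⧸ phi E) := QuotientGroup.congr (phi E) (phi E) ψ hΦψ with hP
  have hPq : ∀ g, P (q g) = q (ψ g) := fun g => rfl
  have hEc : ∀ {a b : G}, a ∈ E → b ∈ E → Commute (q a) (q b) := fun ha hb => by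
    rw [← commutatorElement_eq_one_iff_commute, ← map_commutatorElement]
    exact (QuotientGroup.eq_one_iff _).2 (comm_mem_phi hG ha hb)
  have hEp : ∀ {a : G}, a ∈ E → q a ^ p = 1 := fun ha => by
    rw [← map_pow]; exact (QuotientGroup.eq_one_iff _).2 (pow_mem_phi hG ha)
  set Y := q y with hY
  set V := q v with hV
  set W := q w with hW
  have hW1 : W ≠ 1 := fun h => hw ((QuotientGroup.eq_one_iff _).1 h)
  have hYW : Commute Y W := by
    rw [← commutatorElement_eq_one_iff_commute, ← map_commutatorElement]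
    exact (QuotientGroup.eq_one_iff _).2 r2
  have hWc : ∀ r, Commute W r := by
    intro r
    obtain ⟨g, rfl⟩ := QuotientGroup.mk'_surjective (phi E) r
    have hle : (⊤ : Subgroup G) ≤ (Subgroup.centralizer {W}).comap q := by
      rw [← htop]
      refine sup_le (fun a ha => Subgroup.mem_centralizer_iff.2 ?_)
        (Subgroup.zpowers_le.2 (Subgroup.mem_centralizer_iff.2 ?_))
      · rintro b rfl; exact (hEc ha hwE).eq.symm
      · rintro b rfl; exact hYW.eq.symm
    exact Subgroup.mem_centralizer_iff.1 (hle (Subgroup.mem_top g)) W rfl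
  have hYV : ⁅Y, V⁆ = W := by
    rw [← map_commutatorElement]; exact (QuotientGroup.eq.2 r1).symm
  have hEmem : ∀ {a : G}, a ∈ E → ∃ i k : ZMod p, q a = ev V i * ev W k := fun {a} ha => by
    refine exists_pair' (hEc hvE hwE) (hEp hvE) (hEp hwE) ?_
    rw [show ({V, W} : Set (G ⧸ phi E)) = q '' {v, w} by simp [Set.image_insert_eq, hV, hW],
      ← MonoidHom.map_closure, hgenE]
    exact ⟨a, ha, rfl⟩
  obtain ⟨i, k, hik⟩ := hEmem hyp
  rw [map_pow, ← hY] at hik
  have hi : i = 0 := by
    refine ev_eq_one (hEp hwE) hW1 ?_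
    rw [← hW, ← hYV, ← comm_ev_right (fun g => hYV ▸ hWc g), commutatorElement_eq_one_iff_commute]
    have h1 : Commute Y (ev V i * ev W k) := hik ▸ (Commute.refl Y).pow_right p
    have h2 : Commute Y (ev W k) := hYW.pow_right _
    simpa using h1.mul_right h2.inv_right
  rw [hi, ev_zero, one_mul] at hik
  by_contra hcon
  have hk : k ≠ 0 := fun h => hcon ((QuotientGroup.eq_one_iff _).1 (by
    rw [h, ev_zero] at hik
    show q (y ^ p) = 1
    rw [map_pow]; exact hik))
  obtain ⟨e, he, heψ⟩ : ∃ e ∈ E, ψ y = ev y (t * t) * e := ⟨_, hψy, by rw [mul_inv_cancel_left]⟩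
  obtain ⟨a, b, hab⟩ := hEmem he
  have hYm : ∀ r : G ⧸ phi E, r ∈ ({V, W} : Set (G ⧸ phi E)) → ⁅r, ev Y (t * t)⁆ ∈ Subgroup.zpowers W := by
    rintro r (rfl | rfl)
    · rw [← commutatorElement_inv, comm_ev_left (fun g => hYV ▸ hWc g), hYV]
      exact inv_mem (ev_mem (Subgroup.mem_zpowers W) _)
    · rw [commutatorElement_eq_one_iff_commute.2 (hYW.symm.evRight _)]
      exact one_mem _
  have hcentral : ∀ x ∈ Subgroup.zpowers W, ∀ g, Commute x g := fun x hx g => by
    obtain ⟨n, rfl⟩ := Subgroup.mem_zpowers_iff.1 hx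
    exact (hWc g).zpow_left n
  have hPY : P (Y ^ p) = ev (Y ^ p) (t * t) := by
    rw [map_pow, hY, hPq, heψ, map_mul, map_ev, hab, ← hY]
    set c := ⁅(ev V a * ev W b)⁻¹, (ev Y (t * t))⁻¹⁆ with hc
    have hin : ⁅ev V a, ev Y (t * t)⁆ ∈ Subgroup.zpowers W := by
      rw [comm_ev_left (hcentral _ (hYm V (Or.inl rfl)))]
      exact ev_mem (hYm V (Or.inl rfl)) _
    have hcW : c ∈ Subgroup.zpowers W := by
      have h1 : ⁅ev V a * ev W b, ev Y (t * t)⁆ ∈ Subgroup.zpowers W := by
        rw [comm_mul_left (fun g => by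
          rw [commutatorElement_eq_one_iff_commute.2 ((hWc _).evLeft b)]; exact Commute.one_left g),
          commutatorElement_eq_one_iff_commute.2 ((hWc _).evLeft b : Commute (ev W b) (ev Y (t * t))), mul_one]
        exact hin
      rw [hc, show ⁅(ev V a * ev W b)⁻¹, (ev Y (t * t))⁻¹⁆ = (ev Y (t * t) * (ev V a * ev W b))⁻¹ *
        ⁅ev V a * ev W b, ev Y (t * t)⁆ * (ev Y (t * t) * (ev V a * ev W b)) by
        simp only [commutatorElement_def]; group, mul_assoc, (hcentral _ h1 _).eq, inv_mul_cancel_left]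
      exact h1
    have hba : (ev V a * ev W b) * ev Y (t * t) = ev Y (t * t) * (ev V a * ev W b) * c := by
      rw [hc, commutatorElement_def]; group
    rw [Cfsg.Agent.LEOmega.mul_pow_class_two hba (hcentral _ hcW _) (hcentral _ hcW _)]
    obtain ⟨d, hd⟩ := hp.out.dvd_choose_self two_ne_zero (lt_of_le_of_ne hp.out.two_le (Ne.symm hp2))
    obtain ⟨n, hn⟩ := Subgroup.mem_zpowers_iff.1 hcW
    have hcp : c ^ p = 1 := by
      rw [← hn, ← zpow_natCast, zpow_comm, zpow_natCast, hEp hwE, one_zpow]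
    have hep : (ev V a * ev W b) ^ p = 1 := by rw [← hab]; exact hEp he
    rw [hd, pow_mul, hcp, one_pow, mul_one, hep, mul_one, ev, ev, ← pow_mul, ← pow_mul, mul_comm]
  rw [hik, ← ev_mul (hEp hwE), map_ev, hW, hPq, show q (ψ w) = q (ev w t) from (QuotientGroup.eq.2 hψw).symm,
    map_ev, ← hW, ← ev_mul (hEp hwE)] at hPY
  have h := ev_inj (hEp hwE) hW1 hPY
  refine htt (mul_left_cancel₀ hk ?_)
  linear_combination -h

end Cfsg.Agent.RankThreeCore
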