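import Cfsg.Agent.Lib.RankThreeCore.Pearl
import Cfsg.Agent.Lib.RankThreeEss.NormJ

/-!
The third term of the exponent-`p` series of a two-generated essential subgroup vanishes in sectional
rank three.
-/

set_option autoImplicit false
set_option linter.unusedSectionVars false
set_option maxHeartbeats 4000000

open scoped commutatorElement
open Cfsg.Agent.RankThreeEss

namespace Cfsg.Agent.RankThreeCore

variable {p : ℕ} [hp : Fact p.Prime]

/-- The commutator of the generators is fixed modulo the third term. -/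
theorem comm_fixed_mod_low {E : Type*} [Group E] [Finite E] (hE : IsPGroup p E) (a : MulAut E) {v w : E}
    (h : ∀ x y : Layer p E, ∀ φ φ' : Layer p E, φ ∈ dLayer p E → φ' ∈ dLayer p E →
      autQuot (low p E) a (proj v) = φ * x → autQuot (low p E) a (proj w) = φ' * y →
      ⁅x, y⁆ = ⁅proj (p := p) v, proj w⁆)
    {v' w' : E} (hv : v'⁻¹ * a v ∈ frattini E) (hw : w'⁻¹ * a w ∈ frattini E) :
    ⁅v, w⁆⁻¹ * a ⁅v, w⁆ ∈ low p E := by
  have hs : ∀ {r r' : E}, r'⁻¹ * r ∈ frattini E → ∃ φ ∈ dLayer p E, proj (p := p) r = φ * proj r' := fun {r r'} h =>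
    ⟨proj (r'⁻¹ * r), ⟨_, h, rfl⟩, by
      rw [(dLayer_central ⟨_, h, rfl⟩ (proj r')).eq, ← map_mul, mul_inv_cancel_left]⟩
  obtain ⟨φ, hφ, e1⟩ := hs hv
  obtain ⟨φ', hφ', e2⟩ := hs hw
  have h1 : autQuot (low p E) a (proj v) = φ * proj v' := e1
  have h2 : autQuot (low p E) a (proj w) = φ' * proj w' := e2
  have h3 := h _ _ _ _ hφ hφ' h1 h2
  refine QuotientGroup.eq.1 (show proj (p := p) ⁅v, w⁆ = proj (a ⁅v, w⁆) from ?_)
  rw [map_commutatorElement a, map_commutatorElement, map_commutatorElement, e1, e2,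
    comm_central_left (fun g => dLayer_central hφ g), comm_central_right (fun g => dLayer_central hφ' g), h3]

variable {G : Type*} [Group G] [Finite G]

theorem low_eq_bot (hG : IsPGroup p G) (h5 : 5 ≤ p) {S0 : Type*} [Group S0] [Finite S0]
    (hsec : Cfsg.SectionalPRankLE p 3 S0) (j : G →* S0) (hj : Function.Injective j)
    (E : Subgroup G) [E.Normal] (y : G) (hyp : y ^ p ∈ E) (htop : E ⊔ Subgroup.zpowers y = ⊤)
    (vE wE : E) (hgen : Subgroup.closure ({vE, wE} : Set E) = ⊤)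
    (r1 : (wE : G)⁻¹ * ⁅y, (vE : G)⁆ ∈ phi E) (r2 : ⁅y, (wE : G)⁆ ∈ phi E)
    (hw : wE ∉ frattini E) (hv : vE ∉ frattini E ⊔ Subgroup.zpowers wE)
    (β : MulAut E) (hβw : (vE * wE)⁻¹ * β wE ∈ frattini E) (hβv : vE⁻¹ * β vE ∈ frattini E)
    (ψ : MulAut G) (hψE : E.map ψ.toMonoidHom = E) (s t : ZMod p) (hst : s * t = 1) (hs2 : s * s ≠ 1)
    (hψy : (ev y (t * t))⁻¹ * ψ y ∈ E)
    (hψv : (ev (vE : G) s)⁻¹ * ψ (vE : G) ∈ phi E) (hψw : (ev (wE : G) t)⁻¹ * ψ (wE : G) ∈ phi E) :
    (low p E = ⊥ ∧ vE ^ p = 1 ∧ wE ^ p = 1) ∨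
      (Subgroup.centralizer (ser p G 3 : Set G) = E ∧ frattini G = phi E ⊔ Subgroup.zpowers (wE : G) ∧
        Nat.card (frattini E) ≤ p ^ 3 ∧ ∃ a ∈ frattini G, ∃ b ∈ frattini G, ¬ Commute a b) := by
  have hp2 : p ≠ 2 := by omega
  have hE : IsPGroup p E := hG.to_subgroup E
  set m := t * t with hm
  have ht0 : t ≠ 0 := fun h => by rw [h, mul_zero] at hst; exact zero_ne_one hst
  have htt : t * t ≠ t := fun h => hs2 (by
    linear_combination (s + 1) * (1 + s * (t - 1)) * hst - (s + 1) * s * s * h)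
  have hgenE : Subgroup.closure ({(vE : G), (wE : G)} : Set G) = E := by
    rw [show ({(vE : G), (wE : G)} : Set G) = E.subtype '' {vE, wE} by simp [Set.image_insert_eq],
      ← MonoidHom.map_closure, hgen, ← MonoidHom.range_eq_map, Subgroup.range_subtype]
  have hwG : (wE : G) ∉ phi E := fun h => hw (mem_phi.1 h)
  let η : MulAut E := (ψ.subgroupMap E).trans (MulEquiv.subgroupCongr hψE)
  have hη : ∀ x : E, ((η x : E) : G) = ψ x := fun x => rfl
  have hηv : (ev vE s)⁻¹ * η vE ∈ frattini E := mem_phi.1 (by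
    rw [Subgroup.coe_mul, Subgroup.coe_inv, hη, ← E.coe_subtype, map_ev]; exact hψv)
  have hηw : (ev wE t)⁻¹ * η wE ∈ frattini E := mem_phi.1 (by
    rw [Subgroup.coe_mul, Subgroup.coe_inv, hη, ← E.coe_subtype, map_ev]; exact hψw)
  -- the layer facts for any translate of `y0` by an element of `E`
  have layer : ∀ y : G, (hyp : y ^ p ∈ E) → E ⊔ Subgroup.zpowers y = ⊤ →
      (wE : G)⁻¹ * ⁅y, (vE : G)⁆ ∈ phi E → ⁅y, (wE : G)⁆ ∈ phi E → (ev y m)⁻¹ * ψ y ∈ E →
      vE ^ p ∈ low p E ∧ wE ^ p ∈ low p E ∧ frattini E ≤ low p E ⊔ Subgroup.zpowers ⁅vE, wE⁆ ∧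
        ⁅vE, wE⁆⁻¹ * MulAut.conjNormal y ⁅vE, wE⁆ ∈ low p E ∧ (⟨y ^ p, hyp⟩ : E) ∈ frattini E := by
    intro y hyp htop r1 r2 hψy
    have hg : (⟨y ^ p, hyp⟩ : E) ∈ frattini E := mem_phi.1
      (pow_mem_of_weight hG hp2 E hyp htop hgenE r1 r2 hwG ψ hψE t htt hψy hψw)
    have hav : (wE * vE)⁻¹ * MulAut.conjNormal y vE ∈ frattini E := mem_phi.1 (by
      have h3 := Subgroup.Normal.conj_mem (inferInstance : (phi E).Normal) _ r1 (vE : G)⁻¹
      rw [inv_inv] at h3
      show ((wE : G) * vE)⁻¹ * (y * vE * y⁻¹) ∈ phi E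
      rwa [show ((wE : G) * vE)⁻¹ * (y * vE * y⁻¹) = (vE : G)⁻¹ * ((wE : G)⁻¹ * ⁅y, (vE : G)⁆) * vE by
        rw [commutatorElement_def]; group])
    have haw : wE⁻¹ * MulAut.conjNormal y wE ∈ frattini E := mem_phi.1 (by
      have h3 := Subgroup.Normal.conj_mem (inferInstance : (phi E).Normal) _ r2 (wE : G)⁻¹
      rw [inv_inv] at h3
      show (wE : G)⁻¹ * (y * wE * y⁻¹) ∈ phi E
      rwa [show (wE : G)⁻¹ * (y * wE * y⁻¹) = (wE : G)⁻¹ * ⁅y, (wE : G)⁆ * wE by
        rw [commutatorElement_def]; group])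
    have hαp : (MulAut.conjNormal y : MulAut E) ^ p = MulAut.conj (⟨y ^ p, hyp⟩ : E) := by
      rw [← map_pow]; exact MulEquiv.ext fun x => Subtype.ext rfl
    obtain ⟨-, -, h1, h2, h3⟩ := tLayer hE h5 hsec (j.comp E.subtype) (hj.comp E.subtype_injective)
      (MulAut.conjNormal y) β η vE wE 1
      (by rw [eq_top_iff, ← hgen]; exact Subgroup.closure_mono (by intro x; simp; tauto))
      hav haw (by rw [map_one, inv_one, one_mul]; exact one_mem _) hβw
      (by rw [map_one, inv_one, one_mul]; exact one_mem _) hβv s t hst hs2 hηv hηw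
      (by rw [map_one, inv_one, one_mul]; exact one_mem _) hw hv _ hg hαp
    refine ⟨h1, h2, h3.trans (sup_le le_sup_left ((Subgroup.closure_le _).2 ?_)), ?_, hg⟩
    · rintro x (rfl | rfl)
      · exact Subgroup.mem_sup_right (Subgroup.mem_zpowers _)
      · rw [one_pow]; exact one_mem _
    · refine comm_fixed_mod_low hE _ ?_ hav haw
      intro x x' φ φ' hφ hφ' e1 e2
      have hs : ∀ {r r' : E}, r'⁻¹ * r ∈ frattini E → ∃ φ ∈ dLayer p E, proj (p := p) r = φ * proj r' :=
        fun {r r'} h => ⟨proj (r'⁻¹ * r), ⟨_, h, rfl⟩, by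
          rw [(dLayer_central ⟨_, h, rfl⟩ (proj r')).eq, ← map_mul, mul_inv_cancel_left]⟩
      obtain ⟨ψ1, hψ1, f1⟩ := hs hav
      obtain ⟨ψ2, hψ2, f2⟩ := hs haw
      have g1 : x = φ⁻¹ * ψ1 * proj (wE * vE) := by
        rw [mul_assoc, ← f1, ← autQuot_mk, eq_inv_mul_iff_mul_eq]; exact e1.symm
      have g2 : x' = φ'⁻¹ * ψ2 * proj wE := by
        rw [mul_assoc, ← f2, ← autQuot_mk, eq_inv_mul_iff_mul_eq]; exact e2.symm
      rw [g1, g2, comm_central_left (fun g => dLayer_central (mul_mem (inv_mem hφ) hψ1) g),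
        comm_central_right (fun g => dLayer_central (mul_mem (inv_mem hφ') hψ2) g), map_mul,
        comm_mul_left (layer_comm_central hE _ _), commutatorElement_self, one_mul]
  obtain ⟨hvp, hwp, hΦz, hyz, -⟩ := layer y hyp htop r1 r2 hψy
  set z := ⁅vE, wE⁆ with hzdef
  have hΦdec : ∀ φ ∈ frattini E, ∃ n : ℤ, ∃ l ∈ low p E, φ = z ^ n * l := by
    intro φ hφ
    obtain ⟨l, hl, _, ⟨n, rfl⟩, e⟩ := Subgroup.mem_sup_of_normal_left.1 (hΦz hφ)
    exact ⟨n, (z ^ n)⁻¹ * l * z ^ n, by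
      simpa using Subgroup.Normal.conj_mem (inferInstance : (low p E).Normal) _ hl (z ^ n)⁻¹,
      by rw [← e]; group⟩
  by_cases hser : ser p E 3 = ser p E 2
  · have hb : low p E = ⊥ := by rw [← ser_two hE]; exact eq_bot_of_succ hE hser
    rw [hb, Subgroup.mem_bot] at hvp hwp
    exact Or.inl ⟨hb, hvp, hwp⟩
  right
  -- the quotient by the fourth term
  set D2 := (ser p E 3).map E.subtype with hD2
  haveI hD2n : D2.Normal := by
    rw [hD2]; exact inferInstanceAs ((ser p E 3).map E.subtype).Normal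
  have hD2ψ : D2.map ψ.toMonoidHom = D2 := by
    refine Subgroup.eq_of_le_of_card_ge ?_ (Subgroup.card_map_of_injective ψ.injective).ge
    rintro _ ⟨_, ⟨x, hx, rfl⟩, rfl⟩
    exact ⟨η x, char_mem inferInstance η hx, rfl⟩
  let qe : E →* G ⧸ D2 := (QuotientGroup.mk' D2).comp E.subtype
  have hq1 : ∀ {x : E}, qe x = 1 ↔ x ∈ ser p E 3 := fun {x} => by
    show QuotientGroup.mk' D2 (x : G) = 1 ↔ _
    rw [QuotientGroup.mk'_apply, QuotientGroup.eq_one_iff]
    exact Subgroup.mem_map_iff_mem E.subtype_injective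
  have hl2 : ∀ {x : E}, x ∈ low p E → x ∈ ser p E 2 := fun h => by rwa [ser_two hE]
  have hLc : ∀ {l : E}, l ∈ low p E → ∀ e : E, Commute (qe l) (qe e) := fun hl e => by
    rw [← commutatorElement_eq_one_iff_commute, ← map_commutatorElement, hq1]
    exact ser_comm' e (hl2 hl)
  have hLp : ∀ {l : E}, l ∈ low p E → qe l ^ p = 1 := fun hl => by
    rw [← map_pow, hq1]; exact ser_pow (hl2 hl)
  have hΦ1 : ∀ {x : E}, x ∈ frattini E → x ∈ ser p E 1 := fun h => by rwa [ser_one hE]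
  set Z := qe z with hZdef
  set V := qe vE with hVdef
  set W := qe wE with hWdef
  set A := ⁅Z, V⁆ with hAdef
  set B := ⁅Z, W⁆ with hBdef
  have hzΦ : z ∈ frattini E := commutator_mem_frattini hE _ _
  have hAlow : ⁅z, vE⁆ ∈ low p E := by rw [← ser_two hE]; exact ser_comm' _ (hΦ1 hzΦ)
  have hBlow : ⁅z, wE⁆ ∈ low p E := by rw [← ser_two hE]; exact ser_comm' _ (hΦ1 hzΦ)
  have hAq : A = qe ⁅z, vE⁆ := (map_commutatorElement qe _ _).symm
  have hBq : B = qe ⁅z, wE⁆ := (map_commutatorElement qe _ _).symm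
  have hAc : ∀ e, Commute A (qe e) := fun e => hAq ▸ hLc hAlow e
  have hBc : ∀ e, Commute B (qe e) := fun e => hBq ▸ hLc hBlow e
  have hAp : A ^ p = 1 := hAq ▸ hLp hAlow
  have hBp : B ^ p = 1 := hBq ▸ hLp hBlow
  have hAB : Commute A B := hBq ▸ hAc _
  have hZp : Z ^ p = 1 := by
    have e : Z * W = V * W * V⁻¹ := by
      rw [hZdef, hzdef, map_commutatorElement, commutatorElement_def, inv_mul_cancel_right]
    have h1 : (Z * W) ^ p = W ^ p := by
      rw [e, conj_pow, hWdef, ← map_pow, ← (hLc hwp vE).eq, hVdef, mul_inv_cancel_right]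
    set c := ⁅W⁻¹, Z⁻¹⁆ with hc
    have hba : W * Z = Z * W * c := by rw [hc, commutatorElement_def]; group
    have hcmem : ⁅wE⁻¹, z⁻¹⁆ ∈ low p E := by rw [← ser_two hE]; exact ser_comm _ (inv_mem (hΦ1 hzΦ))
    have hcq : c = qe ⁅wE⁻¹, z⁻¹⁆ := by rw [map_commutatorElement, map_inv, map_inv]
    rw [Cfsg.Agent.LEOmega.mul_pow_class_two hba (hcq ▸ hLc hcmem z) (hcq ▸ hLc hcmem wE)] at h1
    obtain ⟨d, hd⟩ := hp.out.dvd_choose_self two_ne_zero (lt_of_le_of_ne hp.out.two_le (Ne.symm hp2))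
    rw [hd, pow_mul, show c ^ p = 1 from hcq ▸ hLp hcmem, one_pow, mul_one, mul_eq_right] at h1
    exact h1
  -- commutators with `Z`
  have hZmul : ∀ a b : E, ⁅Z, qe (a * b)⁆ = ⁅Z, qe a⁆ * ⁅Z, qe b⁆ := fun a b => by
    have h : ⁅Z, qe b⁆ = qe ⁅z, b⁆ := (map_commutatorElement qe z b).symm
    have hm' : ⁅z, b⁆ ∈ low p E := by rw [← ser_two hE]; exact ser_comm' _ (hΦ1 hzΦ)
    rw [map_mul, show ⁅Z, qe a * qe b⁆ = ⁅Z, qe a⁆ * (qe a * ⁅Z, qe b⁆ * (qe a)⁻¹) by
      simp only [commutatorElement_def]; group, h, ← (hLc hm' a).eq, mul_inv_cancel_right]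
  let ζ : E →* G ⧸ D2 :=
    { toFun := fun a => ⁅Z, qe a⁆
      map_one' := by rw [map_one, commutatorElement_one_right]
      map_mul' := hZmul }
  have hζΦ : ∀ {φ : E}, φ ∈ frattini E → ζ φ = 1 := fun {φ} hφ => by
    obtain ⟨n, l, hl, rfl⟩ := hΦdec φ hφ
    rw [map_mul, map_zpow, show ζ z = 1 from commutatorElement_self Z, one_zpow, one_mul]
    exact commutatorElement_eq_one_iff_commute.2 (hLc hl z).symm
  have hZl : ∀ {l : E}, l ∈ low p E → ∀ a : E, ⁅qe (z * l), qe a⁆ = ζ a := fun {l} hl a => by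
    rw [map_mul, show ⁅qe z * qe l, qe a⁆ = qe z * ⁅qe l, qe a⁆ * (qe z)⁻¹ * ⁅qe z, qe a⁆ by
      simp only [commutatorElement_def]; group, commutatorElement_eq_one_iff_commute.2 (hLc hl a), mul_one,
      mul_inv_cancel, one_mul]
    rfl
  set T := Subgroup.closure ({A, B} : Set (G ⧸ D2)) with hT
  have hAT : A ∈ T := Subgroup.subset_closure (Or.inl rfl)
  have hBT : B ∈ T := Subgroup.subset_closure (Or.inr rfl)
  have hTc : ∀ x ∈ T, ∀ e, Commute x (qe e) := fun x hx e => by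
    have : T ≤ Subgroup.centralizer {qe e} := (Subgroup.closure_le _).2 (by
      rintro y (rfl | rfl) <;> refine Subgroup.mem_centralizer_iff.2 ?_ <;> rintro r rfl
      exacts [(hAc e).eq.symm, (hBc e).eq.symm])
    exact (Subgroup.mem_centralizer_iff.1 (this hx) _ rfl).symm
  have hlowT : ∀ l ∈ low p E, qe l ∈ T := by
    have hle : low p E ≤ T.comap qe := by
      refine sup_le (Subgroup.commutator_le.2 fun g _ φ hφ => ?_) ((Subgroup.closure_le _).2 ?_)
      · obtain ⟨n, l, hl, rfl⟩ := hΦdec φ hφ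
        show qe ⁅g, z ^ n * l⁆ ∈ T
        have hζT : ∀ a, ζ a ∈ T := fun a => by
          have : Subgroup.closure ({vE, wE} : Set E) ≤ T.comap ζ := (Subgroup.closure_le _).2 (by
            rintro x (rfl | rfl)
            exacts [hAT, hBT])
          exact this (hgen.ge (Subgroup.mem_top a))
        have hgz : ⁅qe g, Z⁆ ∈ T := by rw [← commutatorElement_inv]; exact inv_mem (hζT g)
        rw [map_commutatorElement, map_mul, map_zpow, ← hZdef,
          show ⁅qe g, Z ^ n * qe l⁆ = ⁅qe g, Z ^ n⁆ * (Z ^ n * ⁅qe g, qe l⁆ * (Z ^ n)⁻¹) by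
            simp only [commutatorElement_def]; group,
          commutatorElement_eq_one_iff_commute.2 (hLc hl g).symm, mul_one, mul_inv_cancel, mul_one]
        have hcz : Commute ⁅qe g, Z⁆ Z := hZdef ▸ hTc _ hgz z
        have hconj : qe g * Z * (qe g)⁻¹ = ⁅qe g, Z⁆ * Z := by rw [commutatorElement_def, inv_mul_cancel_right]
        rw [show ⁅qe g, Z ^ n⁆ = (qe g * Z * (qe g)⁻¹) ^ n * (Z ^ n)⁻¹ by
          rw [conj_zpow, commutatorElement_def], hconj, hcz.mul_zpow, mul_inv_cancel_right]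
        exact zpow_mem hgz n
      · rintro _ ⟨φ, hφ, rfl⟩
        obtain ⟨n, l, hl, rfl⟩ := hΦdec φ hφ
        show qe ((z ^ n * l) ^ p) ∈ T
        have hc : Commute (Z ^ n) (qe l) := by
          rw [hZdef, ← map_zpow]; exact (hLc hl _).symm
        rw [map_pow, map_mul, map_zpow, ← hZdef, hc.mul_pow, hLp hl, mul_one, ← zpow_natCast, zpow_comm,
          zpow_natCast, hZp, one_zpow]
        exact one_mem _
    exact fun l hl => hle hl
  have hTdec : ∀ x ∈ T, ∃ i k : ZMod p, x = ev A i * ev B k := fun x hx => exists_pair' hAB hAp hBp hx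
  have hζv : ζ vE = A := rfl
  have hζw : ζ wE = B := rfl
  -- nondegeneracy
  have hβz : z⁻¹ * β z ∈ low p E := by
    refine comm_fixed_mod_low hE β ?_ hβv hβw
    intro x x' φ φ' hφ hφ' e1 e2
    have hs : ∀ {r r' : E}, r'⁻¹ * r ∈ frattini E → ∃ φ ∈ dLayer p E, proj (p := p) r = φ * proj r' :=
      fun {r r'} h => ⟨proj (r'⁻¹ * r), ⟨_, h, rfl⟩, by
        rw [(dLayer_central ⟨_, h, rfl⟩ (proj r')).eq, ← map_mul, mul_inv_cancel_left]⟩
    obtain ⟨ψ1, hψ1, f1⟩ := hs hβv
    obtain ⟨ψ2, hψ2, f2⟩ := hs hβw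
    have g1 : x = φ⁻¹ * ψ1 * proj vE := by
      rw [mul_assoc, ← f1, ← autQuot_mk, eq_inv_mul_iff_mul_eq]; exact e1.symm
    have g2 : x' = φ'⁻¹ * ψ2 * proj (vE * wE) := by
      rw [mul_assoc, ← f2, ← autQuot_mk, eq_inv_mul_iff_mul_eq]; exact e2.symm
    rw [g1, g2, comm_central_left (fun g => dLayer_central (mul_mem (inv_mem hφ) hψ1) g),
      comm_central_right (fun g => dLayer_central (mul_mem (inv_mem hφ') hψ2) g), map_mul,
      comm_mul_right (layer_comm_central hE _ _), commutatorElement_self, one_mul]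
  have hB1 : B ≠ 1 := by
    intro hB1
    have hA1 : A = 1 := by
      have hmem : ⁅z, wE⁆ ∈ ser p E 3 := hq1.1 (hBq ▸ hB1)
      have h := hq1.2 (char_mem (inferInstance : (ser p E 3).Characteristic) β hmem)
      rw [map_commutatorElement β, map_commutatorElement qe, show β z = z * (z⁻¹ * β z) by group,
        hZl hβz, show β wE = vE * wE * ((vE * wE)⁻¹ * β wE) by group, map_mul, map_mul, hζΦ hβw, mul_one,
        hζv, hζw, hB1, mul_one] at h
      exact h
    refine hser (le_antisymm (ser_anti 2) fun x hx => ?_)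
    have h := hlowT x (by rwa [← ser_two hE])
    rw [hT, hA1, hB1, Set.pair_eq_singleton, Subgroup.closure_singleton_one, Subgroup.mem_bot] at h
    exact hq1.1 h
  set Y := QuotientGroup.mk' D2 y with hYdef
  have hYconj : ∀ e : E, Y * qe e * Y⁻¹ = qe (MulAut.conjNormal y e) := fun e => by
    show _ = QuotientGroup.mk' D2 (y * (e : G) * y⁻¹)
    rw [map_mul, map_mul, map_inv]
    rfl
  have hYA : Y * A * Y⁻¹ = B * A := by
    rw [hAq, hYconj, map_commutatorElement (MulAut.conjNormal y : MulAut E), map_commutatorElement qe,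
      show MulAut.conjNormal y z = z * (z⁻¹ * MulAut.conjNormal y z) by group, hZl hyz]
    have h3 : (wE * vE)⁻¹ * MulAut.conjNormal y vE ∈ frattini E := mem_phi.1 (by
      have h3 := Subgroup.Normal.conj_mem (inferInstance : (phi E).Normal) _ r1 (vE : G)⁻¹
      rw [inv_inv] at h3
      show ((wE : G) * vE)⁻¹ * (y * vE * y⁻¹) ∈ phi E
      rwa [show ((wE : G) * vE)⁻¹ * (y * vE * y⁻¹) = (vE : G)⁻¹ * ((wE : G)⁻¹ * ⁅y, (vE : G)⁆) * vE by
        rw [commutatorElement_def]; group])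
    rw [show MulAut.conjNormal y vE = wE * vE * ((wE * vE)⁻¹ * MulAut.conjNormal y vE) by group, map_mul,
      map_mul, hζΦ h3, mul_one, hζv, hζw, ← hAq]
  have hYB : Commute Y B := by
    have h3 : wE⁻¹ * MulAut.conjNormal y wE ∈ frattini E := mem_phi.1 (by
      have h3 := Subgroup.Normal.conj_mem (inferInstance : (phi E).Normal) _ r2 (wE : G)⁻¹
      rw [inv_inv] at h3
      show (wE : G)⁻¹ * (y * wE * y⁻¹) ∈ phi E
      rwa [show (wE : G)⁻¹ * (y * wE * y⁻¹) = (wE : G)⁻¹ * ⁅y, (wE : G)⁆ * wE by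
        rw [commutatorElement_def]; group])
    have e : Y * B * Y⁻¹ = B := by
      rw [hBq, hYconj, map_commutatorElement (MulAut.conjNormal y : MulAut E), map_commutatorElement qe,
        show MulAut.conjNormal y z = z * (z⁻¹ * MulAut.conjNormal y z) by group, hZl hyz,
        show MulAut.conjNormal y wE = wE * (wE⁻¹ * MulAut.conjNormal y wE) by group, map_mul, hζΦ h3, mul_one,
        hζw, ← hBq]
    exact mul_inv_eq_iff_eq_mul.1 e
  have hA1 : ∀ k : ZMod p, A ≠ ev B k := by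
    intro k hk
    rw [hk, ((hYB.evRight k)).eq, mul_inv_cancel_right] at hYA
    exact hB1 (mul_eq_right.1 hYA.symm)
  -- the quotient by the fifth term
  set q := QuotientGroup.mk' (ser p E 4) with hqdef
  have hq4 : ∀ {x : E}, q x = 1 ↔ x ∈ ser p E 4 := fun {x} => QuotientGroup.eq_one_iff x
  have hc3 : ∀ {r : E}, r ∈ ser p E 3 → ∀ g, Commute (q r) g := fun {r} hr g => by
    obtain ⟨g, rfl⟩ := QuotientGroup.mk'_surjective (ser p E 4) g
    rw [← commutatorElement_eq_one_iff_commute, ← map_commutatorElement]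
    exact hq4.2 (ser_comm' g hr)
  have hp3 : ∀ {r : E}, r ∈ ser p E 3 → q r ^ p = 1 := fun {r} hr => by
    rw [← map_pow]; exact hq4.2 (ser_pow hr)
  have hcm : ∀ {r : E}, r ∈ low p E → ∀ x, ⁅r, x⁆ ∈ ser p E 3 := fun {r} hr x => ser_comm' x (hl2 hr)
  have hcc : ∀ {r : E}, r ∈ low p E → ∀ x g, Commute ⁅q r, q x⁆ g := fun {r} hr x g => by
    rw [← map_commutatorElement]; exact hc3 (hcm hr x) g
  have hcp : ∀ {r : E}, r ∈ low p E → ∀ x, ⁅q r, q x⁆ ^ p = 1 := fun {r} hr x => by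
    rw [← map_commutatorElement]; exact hp3 (hcm hr x)
  have hrΦ : ∀ {r : E}, r ∈ low p E → ∀ {φ : E}, φ ∈ frattini E → ⁅q r, q φ⁆ = 1 := by
    intro r hr φ hφ
    let ζr : E →* E ⧸ ser p E 4 :=
      { toFun := fun x => ⁅q r, q x⁆
        map_one' := by rw [map_one, commutatorElement_one_right]
        map_mul' := fun x x' => by rw [map_mul, comm_mul_right (hcc hr x')] }
    have hle : frattini E ≤ ζr.ker := Cfsg.Agent.LEFrattini.frattini_le (p := p)
      (fun x x' => by
        show ζr ⁅x, x'⁆ = 1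
        rw [map_commutatorElement]
        exact commutatorElement_eq_one_iff_commute.2 (hcc hr x _))
      (fun x => by
        show ζr (x ^ p) = 1
        rw [map_pow]
        exact hcp hr x)
    exact hle hφ
  set a := ⁅z, vE⁆ with had
  set b := ⁅z, wE⁆ with hbd
  set V4 := q vE with hV4
  set W4 := q wE with hW4
  set Z4 := q z with hZ4
  -- the pairing
  obtain ⟨cc, hccdef⟩ : ∃ cc : E → E → E ⧸ ser p E 4, ∀ x x', cc x x' = ⁅q ⁅z, x⁆, q x'⁆ := ⟨_, fun _ _ => rfl⟩
  have hzlow : ∀ x : E, ⁅z, x⁆ ∈ low p E := fun x => by rw [← ser_two hE]; exact ser_comm' _ (hΦ1 hzΦ)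
  have hζq : ∀ x : E, qe ⁅z, x⁆ = ζ x := fun x => map_commutatorElement qe z x
  have hshift : ∀ {r r' : E}, r ∈ low p E → r⁻¹ * r' ∈ ser p E 3 → ∀ {x x' : E}, x⁻¹ * x' ∈ frattini E →
      ⁅q r', q x'⁆ = ⁅q r, q x⁆ := by
    intro r r' hr hr' x x' hx
    obtain ⟨d, rfl⟩ : ∃ d, r' = r * d := ⟨r⁻¹ * r', (mul_inv_cancel_left r r').symm⟩
    obtain ⟨φ, rfl⟩ : ∃ φ, x' = x * φ := ⟨x⁻¹ * x', (mul_inv_cancel_left x x').symm⟩
    rw [inv_mul_cancel_left] at hr' hx
    rw [map_mul, map_mul, ← (hc3 hr' (q r)).eq, comm_central_left (hc3 hr'), comm_mul_right (hcc hr _),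
      hrΦ hr hx, mul_one]
  have hccl : ∀ x1 x2 x', cc (x1 * x2) x' = cc x1 x' * cc x2 x' := by
    intro x1 x2 x'
    rw [hccdef, hccdef, hccdef, hshift (mul_mem (hzlow x1) (hzlow x2)) ?_
      (show x'⁻¹ * x' ∈ frattini E by rw [inv_mul_cancel]; exact one_mem _), map_mul,
      comm_mul_left (hcc (hzlow x2) x')]
    rw [← hq1, map_mul, map_inv, hζq, map_mul qe, hζq, hζq, map_mul ζ, inv_mul_cancel]
  have hccr : ∀ x x1 x2, cc x (x1 * x2) = cc x x1 * cc x x2 := by
    intro x x1 x2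
    rw [hccdef, hccdef, hccdef, map_mul, comm_mul_right (hcc (hzlow x) x2)]
  have hact : ∀ (γ : MulAut E), z⁻¹ * γ z ∈ low p E → ∀ {x x1 y' y1 : E}, x1⁻¹ * γ x ∈ frattini E →
      y1⁻¹ * γ y' ∈ frattini E → autQuot (ser p E 4) γ (cc x y') = cc x1 y1 := by
    intro γ hγz x x1 y' y1 hx hy'
    rw [hccdef, hccdef, map_commutatorElement, hqdef, autQuot_mk, autQuot_mk, ← hqdef]
    refine hshift (hzlow x1) ?_ hy'
    rw [← hq1, map_mul, map_inv, hζq, map_commutatorElement γ, map_commutatorElement qe,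
      show γ z = z * (z⁻¹ * γ z) by group, hZl hγz, show γ x = x1 * (x1⁻¹ * γ x) by group, map_mul ζ, hζΦ hx,
      mul_one, inv_mul_cancel]
  set c1 := cc vE vE with hc1d
  set c2 := cc vE wE with hc2d
  set c2' := cc wE vE with hc2'd
  set c3 := cc wE wE with hc3d
  have ccc : ∀ x x' g, Commute (cc x x') g := fun x x' g => by rw [hccdef]; exact hcc (hzlow x) x' g
  have hc22 : c2 = c2' := by
    have hab : Commute (q a) (q b) :=
      commutatorElement_eq_one_iff_commute.1 (hrΦ hAlow (low_le hE hBlow))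
    have haz : Commute (q a) Z4 := commutatorElement_eq_one_iff_commute.1 (hrΦ hAlow hzΦ)
    have hbz : Commute (q b) Z4 := commutatorElement_eq_one_iff_commute.1 (hrΦ hBlow hzΦ)
    have hZVW : Z4 = ⁅V4, W4⁆ := by rw [hZ4, hzdef, map_commutatorElement]
    have e : Z4 = ⁅q a * V4, q b * W4⁆ := by
      have e1 : q a * V4 = Z4 * V4 * Z4⁻¹ := by
        rw [had, map_commutatorElement, commutatorElement_def, inv_mul_cancel_right]
      have e2 : q b * W4 = Z4 * W4 * Z4⁻¹ := by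
        rw [hbd, map_commutatorElement, commutatorElement_def, inv_mul_cancel_right]
      rw [e1, e2, show ⁅Z4 * V4 * Z4⁻¹, Z4 * W4 * Z4⁻¹⁆ = Z4 * ⁅V4, W4⁆ * Z4⁻¹ by
        simp only [commutatorElement_def]; group, ← hZVW, mul_inv_cancel_right]
    have hvb : ⁅V4, q b⁆ = c2'⁻¹ := by rw [hc2'd, hccdef, commutatorElement_inv]
    have haw : ⁅q a, W4⁆ = c2 := by rw [hc2d, hccdef]
    have hbw : ⁅V4, q b * W4⁆ = c2'⁻¹ * Z4 := by
      rw [show ⁅V4, q b * W4⁆ = ⁅V4, q b⁆ * (q b * ⁅V4, W4⁆ * (q b)⁻¹) by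
        simp only [commutatorElement_def]; group, hvb, ← hZVW, hbz.eq, mul_inv_cancel_right]
    have hab' : ⁅q a, q b * W4⁆ = c2 := by
      rw [show ⁅q a, q b * W4⁆ = ⁅q a, q b⁆ * (q b * ⁅q a, W4⁆ * (q b)⁻¹) by
        simp only [commutatorElement_def]; group, commutatorElement_eq_one_iff_commute.2 hab, one_mul, haw,
        ← (ccc _ _ (q b)).eq, mul_inv_cancel_right]
    have hca : Commute (q a) (c2'⁻¹ * Z4) := ((ccc _ _ (q a)).inv_left).symm.mul_right haz
    rw [show ⁅q a * V4, q b * W4⁆ = q a * ⁅V4, q b * W4⁆ * (q a)⁻¹ * ⁅q a, q b * W4⁆ by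
      simp only [commutatorElement_def]; group, hbw, hab', hca.eq, mul_inv_cancel_right, mul_assoc,
      ← (ccc _ _ Z4).eq, ← mul_assoc] at e
    exact (inv_mul_eq_one.1 (mul_eq_right.1 e.symm)).symm
  have hap : q a ^ p = 1 := by
    have haz : Commute (q a)⁻¹ Z4 := (commutatorElement_eq_one_iff_commute.1 (hrΦ hAlow hzΦ)).inv_left
    have hzp : q z ^ p ∈ (ser p E 3).map q := ⟨z ^ p, hq1.1 (by rw [map_pow]; exact hZp), map_pow _ _ _⟩
    obtain ⟨r, hr, hre⟩ := hzp
    have e : V4 * Z4 * V4⁻¹ = (q a)⁻¹ * Z4 := by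
      rw [had, map_commutatorElement, commutatorElement_def, ← hZ4, ← hV4]; group
    have h := congrArg (· ^ p) e
    simp only [conj_pow, haz.mul_pow] at h
    rw [hZ4, ← hre, ← (hc3 hr V4).eq, mul_inv_cancel_right, right_eq_mul, inv_pow, inv_eq_one] at h
    exact h
  have hbp : q b ^ p = 1 := by
    have hbz : Commute (q b)⁻¹ Z4 := (commutatorElement_eq_one_iff_commute.1 (hrΦ hBlow hzΦ)).inv_left
    have hzp : q z ^ p ∈ (ser p E 3).map q := ⟨z ^ p, hq1.1 (by rw [map_pow]; exact hZp), map_pow _ _ _⟩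
    obtain ⟨r, hr, hre⟩ := hzp
    have e : W4 * Z4 * W4⁻¹ = (q b)⁻¹ * Z4 := by
      rw [hbd, map_commutatorElement, commutatorElement_def, ← hZ4, ← hW4]; group
    have h := congrArg (· ^ p) e
    simp only [conj_pow, hbz.mul_pow] at h
    rw [hZ4, ← hre, ← (hc3 hr W4).eq, mul_inv_cancel_right, right_eq_mul, inv_pow, inv_eq_one] at h
    exact h
  have habT : ∀ {l : E}, l ∈ low p E → l ∈ Subgroup.closure ({a, b} : Set E) ⊔ ser p E 3 := by
    intro l hl
    have h := hlowT l hl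
    rw [hT, hAq, hBq, show ({qe ⁅z, vE⁆, qe ⁅z, wE⁆} : Set (G ⧸ D2)) = qe '' {a, b} by
      simp [Set.image_insert_eq, had, hbd], ← MonoidHom.map_closure] at h
    obtain ⟨x, hx, hxe⟩ := h
    have h3 : x⁻¹ * l ∈ ser p E 3 := by rw [← hq1, map_mul, map_inv, hxe, inv_mul_cancel]
    have := mul_mem (Subgroup.mem_sup_left (T := ser p E 3) hx)
      (Subgroup.mem_sup_right (S := Subgroup.closure ({a, b} : Set E)) h3)
    rwa [mul_inv_cancel_left] at this
  -- the layer is cyclic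
  have hcyc : ∀ r1 ∈ ser p E 3, q r1 ≠ 1 → ∀ r2 ∈ ser p E 3, q r2 ∈ Subgroup.zpowers (q r1) := by
    intro r1 hr1 hr11 r2 hr2
    by_contra hcon
    have hab : Commute (q a) (q b) :=
      commutatorElement_eq_one_iff_commute.1 (hrΦ hAlow (low_le hE hBlow))
    have hback : ∀ (K : Subgroup E) {x : E} {s : Set (E ⧸ ser p E 4)}, ser p E 3 ≤ K → s ⊆ q '' (K : Set E) →
        q x ∈ Subgroup.closure s → x ∈ K := fun K {x s} hK hs hx => by
      obtain ⟨x', hx', he⟩ := ((Subgroup.closure_le (K.map q)).2 (by rw [Subgroup.coe_map]; exact hs)) hx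
      have := mul_mem hx' (hK (ser_anti 3 (show x'⁻¹ * x ∈ ser p E 4 from hq4.1 (by
        rw [map_mul, map_inv, he, inv_mul_cancel]))))
      rwa [mul_inv_cancel_left] at this
    refine rank_contra hsec (j.comp E.subtype) (hj.comp E.subtype_injective) q ![r1, r2, b, a]
      (hE.to_quotient _) ?_ ?_ ?_ ?_ ?_ ?_
    · intro i k
      fin_cases i <;> fin_cases k <;> simp only [Matrix.cons_val, Fin.zero_eta, Fin.mk_one] <;>
        first
          | exact Commute.refl _
          | exact hc3 hr1 _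
          | exact (hc3 hr1 _).symm
          | exact hc3 hr2 _
          | exact (hc3 hr2 _).symm
          | exact hab
          | exact hab.symm
    · intro i
      fin_cases i <;> simp only [Matrix.cons_val, Fin.zero_eta, Fin.mk_one]
      exacts [hp3 hr1, hp3 hr2, hbp, hap]
    · exact hr11
    · intro h
      rw [← Subgroup.zpowers_eq_closure] at h
      exact hcon h
    · intro h
      refine hB1 ?_
      rw [hBq]
      refine hq1.2 (hback _ le_rfl ?_ h)
      rintro _ (rfl | rfl)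
      exacts [⟨_, hr1, rfl⟩, ⟨_, hr2, rfl⟩]
    · intro h
      have h' : a ∈ ser p E 3 ⊔ Subgroup.zpowers b := by
        refine hback _ le_sup_left ?_ h
        rintro _ (rfl | rfl | rfl)
        exacts [⟨_, Subgroup.mem_sup_left hr1, rfl⟩, ⟨_, Subgroup.mem_sup_left hr2, rfl⟩,
          ⟨_, Subgroup.mem_sup_right (Subgroup.mem_zpowers b), rfl⟩]
      obtain ⟨n, hn, m', hm', hnm⟩ := Subgroup.mem_sup_of_normal_left.1 h'
      obtain ⟨k, rfl⟩ := Subgroup.mem_zpowers_iff.1 hm'
      have hAk : A = B ^ k := by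
        rw [hAq, hBq, ← hnm, map_mul, hq1.2 hn, one_mul, map_zpow]
      obtain ⟨i, hi⟩ := exists_ev hBp (Subgroup.mem_zpowers_iff.2 ⟨k, rfl⟩ : B ^ k ∈ Subgroup.zpowers B)
      exact hA1 i (hAk.trans hi)
  have hfixed : ∀ (P : MulAut (E ⧸ ser p E 4)) {c c' : E ⧸ ser p E 4}, (∃ r ∈ ser p E 3, q r = c) →
      (∃ r ∈ ser p E 3, q r = c') → P c = c → P c' = c * c' → c = 1 := by
    rintro P c c' ⟨r, hr, rfl⟩ ⟨r', hr', rfl⟩ hPc hPc'
    by_contra hne
    obtain ⟨k, hk⟩ := Subgroup.mem_zpowers_iff.1 (hcyc r hr hne r' hr')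
    rw [← hk, map_zpow, hPc, right_eq_mul] at hPc'
    exact hne hPc'
  have hin : ∀ x x', ∃ r ∈ ser p E 3, q r = cc x x' := fun x x' =>
    ⟨⁅⁅z, x⁆, x'⁆, hcm (hzlow x) x', by rw [hccdef, map_commutatorElement]⟩
  have hav : (wE * vE)⁻¹ * MulAut.conjNormal y vE ∈ frattini E := mem_phi.1 (by
    have h3 := Subgroup.Normal.conj_mem (inferInstance : (phi E).Normal) _ r1 (vE : G)⁻¹
    rw [inv_inv] at h3
    show ((wE : G) * vE)⁻¹ * (y * vE * y⁻¹) ∈ phi E
    rwa [show ((wE : G) * vE)⁻¹ * (y * vE * y⁻¹) = (vE : G)⁻¹ * ((wE : G)⁻¹ * ⁅y, (vE : G)⁆) * vE by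
      rw [commutatorElement_def]; group])
  have haw : wE⁻¹ * MulAut.conjNormal y wE ∈ frattini E := mem_phi.1 (by
    have h3 := Subgroup.Normal.conj_mem (inferInstance : (phi E).Normal) _ r2 (wE : G)⁻¹
    rw [inv_inv] at h3
    show (wE : G)⁻¹ * (y * wE * y⁻¹) ∈ phi E
    rwa [show (wE : G)⁻¹ * (y * wE * y⁻¹) = (wE : G)⁻¹ * ⁅y, (wE : G)⁆ * wE by
      rw [commutatorElement_def]; group])
  have hc1 : c1 = 1 := by
    refine hfixed (autQuot (ser p E 4) β) (hin vE vE) (hin vE wE) ?_ ?_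
    · rw [hc1d]; exact hact β hβz hβv hβv
    · rw [hc1d, ← hccr]; exact hact β hβz hβv hβw
  have hc3' : c3 = 1 := by
    refine hfixed (autQuot (ser p E 4) (MulAut.conjNormal y)) (hin wE wE) (hin vE wE) ?_ ?_
    · rw [hc3d]; exact hact _ hyz haw haw
    · rw [hc3d, ← hccl]; exact hact _ hyz hav haw
  have hc2 : c2 = 1 := by
    have h : autQuot (ser p E 4) β c3 = cc (vE * wE) (vE * wE) := hact β hβz hβw hβw
    rw [hc3', map_one, hccl, hccr, hccr, ← hc1d, ← hc2d, ← hc2'd, ← hc3d, hc1, hc3', one_mul, mul_one,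
      ← hc22] at h
    have hcp2 : c2 ^ p = 1 := by rw [hc2d, hccdef]; exact hcp (hzlow vE) wE
    have h2 : (2 : ℕ).Coprime p := (Nat.coprime_primes Nat.prime_two hp.out).2 (Ne.symm hp2)
    have := pow_gcd_eq_one.2 ⟨show c2 ^ 2 = 1 by rw [pow_two]; exact h.symm, hcp2⟩
    rwa [h2.gcd_eq_one, pow_one] at this
  -- the fourth term is trivial
  have hqlow : ∀ {l : E}, l ∈ low p E → (∀ g, Commute (q l) g) ∧ q l ^ p = 1 := by
    have hz0 : ∀ r : E, r ∈ low p E → ⁅q r, V4⁆ = 1 → ⁅q r, W4⁆ = 1 → ∀ g, Commute (q r) g := by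
      intro r _ h1 h2 g
      obtain ⟨g, rfl⟩ := QuotientGroup.mk'_surjective (ser p E 4) g
      have hle : Subgroup.closure ({vE, wE} : Set E) ≤ (Subgroup.centralizer {q r}).comap q := by
        refine (Subgroup.closure_le _).2 ?_
        rintro x (rfl | rfl) <;> refine Subgroup.mem_centralizer_iff.2 ?_ <;> rintro c rfl
        exacts [(commutatorElement_eq_one_iff_commute.1 h1).eq, (commutatorElement_eq_one_iff_commute.1 h2).eq]
      exact Subgroup.mem_centralizer_iff.1 (hle (hgen.ge (Subgroup.mem_top g))) _ rfl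
    have hac : ∀ g, Commute (q a) g := hz0 a hAlow ((hccdef vE vE).symm.trans hc1) ((hccdef vE wE).symm.trans hc2)
    have hbc : ∀ g, Commute (q b) g :=
      hz0 b hBlow ((hccdef wE vE).symm.trans (hc22.symm.trans hc2)) ((hccdef wE wE).symm.trans hc3')
    let C : Subgroup E :=
      { carrier := {x | (∀ g, Commute (q x) g) ∧ q x ^ p = 1}
        one_mem' := ⟨fun g => by rw [map_one]; exact Commute.one_left g, by rw [map_one, one_pow]⟩
        mul_mem' := fun {x x'} hx hx' => ⟨fun g => by rw [map_mul]; exact (hx.1 g).mul_left (hx'.1 g), by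
          rw [map_mul, (hx.1 _).mul_pow, hx.2, hx'.2, one_mul]⟩
        inv_mem' := fun {x} hx => ⟨fun g => by rw [map_inv]; exact (hx.1 g).inv_left, by
          rw [map_inv, inv_pow, hx.2, inv_one]⟩ }
    have hle : Subgroup.closure ({a, b} : Set E) ⊔ ser p E 3 ≤ C := sup_le ((Subgroup.closure_le _).2 (by
      rintro x (rfl | rfl)
      exacts [⟨hac, hap⟩, ⟨hbc, hbp⟩])) fun r hr => ⟨hc3 hr, hp3 hr⟩
    exact fun {l} hl => hle (habT hl)
  have hser3 : ser p E 3 = ⊥ := by
    refine eq_bot_of_succ hE (le_antisymm (ser_anti 3) ?_)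
    refine sup_le (Subgroup.commutator_le.2 fun g _ r hr => ?_) ((Subgroup.closure_le _).2 ?_)
    · rw [← hq4, map_commutatorElement]
      exact commutatorElement_eq_one_iff_commute.2 ((hqlow (by rwa [← ser_two hE])).1 _).symm
    · rintro _ ⟨r, hr, rfl⟩
      show r ^ p ∈ ser p E 4
      rw [← hq4, map_pow]
      exact (hqlow (by rwa [← ser_two hE])).2
  have h1 : ∀ {x : E}, x ∈ ser p E 3 → x = 1 := fun hx => Subgroup.mem_bot.1 (hser3 ▸ hx)
  have hlc : ∀ {l : E}, l ∈ low p E → ∀ e : E, Commute l e := fun hl e =>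
    commutatorElement_eq_one_iff_commute.1 (h1 (hcm hl e))
  have hlp : ∀ {l : E}, l ∈ low p E → l ^ p = 1 := fun hl => h1 (ser_pow (hl2 hl))
  -- the series of the normalizer
  set L := (low p E).map E.subtype with hLdef
  haveI hLn : L.Normal := inferInstanceAs ((low p E).map E.subtype).Normal
  have hvG : (vE : G) ∈ E := vE.2
  have hwG' : (wE : G) ∈ E := wE.2
  have hphiz : phi E ≤ L ⊔ Subgroup.zpowers (z : G) := by
    rintro _ ⟨φ, hφ, rfl⟩
    obtain ⟨n, l, hl, rfl⟩ := hΦdec φ hφ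
    rw [map_mul, map_zpow]
    exact mul_mem (Subgroup.mem_sup_right (zpow_mem (Subgroup.mem_zpowers _) n))
      (Subgroup.mem_sup_left ⟨l, hl, rfl⟩)
  have hΦG : phi E ≤ frattini G := phi_le_of (p := p) (fun a _ b _ => commutator_mem_frattini hG a b)
    fun a _ => Cfsg.Agent.PGroupBasics.pow_mem_frattini hG a
  set W1 := phi E ⊔ Subgroup.zpowers (wE : G) with hW1d
  have hW1E : W1 ≤ E := sup_le (phi_le E) (Subgroup.zpowers_le.2 hwG')
  have hgenG : ∀ (K : Subgroup G), E ≤ K → y ∈ K → ∀ g, g ∈ K := fun K hK hyK g =>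
    (sup_le hK (Subgroup.zpowers_le.2 hyK)) (htop.ge (Subgroup.mem_top g))
  set π1 := QuotientGroup.mk' (phi E) with hπ1
  have hπw : ∀ g, Commute (π1 (wE : G)) (π1 g) := by
    intro g
    refine (Subgroup.mem_centralizer_iff.1 (hgenG ((Subgroup.centralizer {π1 (wE : G)}).comap π1) ?_ ?_ g) _ rfl :)
    · intro e he
      refine Subgroup.mem_centralizer_iff.2 ?_
      rintro c rfl
      refine (commutatorElement_eq_one_iff_commute.1 ?_ : Commute (π1 (wE : G)) (π1 e)).eq
      rw [← map_commutatorElement]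
      exact (QuotientGroup.eq_one_iff _).2 (comm_mem_phi hG hwG' he)
    · refine Subgroup.mem_centralizer_iff.2 ?_
      rintro c rfl
      refine (commutatorElement_eq_one_iff_commute.1 ?_ : Commute (π1 y) (π1 (wE : G))).eq.symm
      rw [← map_commutatorElement]
      exact (QuotientGroup.eq_one_iff _).2 r2
  have hW1c : ∀ g : G, ∀ x ∈ W1, ⁅g, x⁆ ∈ phi E := by
    intro g x hx
    refine (QuotientGroup.eq_one_iff _).1 (show π1 ⁅g, x⁆ = 1 from ?_)
    rw [map_commutatorElement, commutatorElement_eq_one_iff_commute]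
    obtain ⟨φ, hφ, _, ⟨n, rfl⟩, rfl⟩ := Subgroup.mem_sup_of_normal_left.1 hx
    rw [map_mul, show π1 φ = 1 from (QuotientGroup.eq_one_iff _).2 hφ, one_mul, map_zpow]
    exact ((hπw g).zpow_left n).symm
  haveI hW1n : W1.Normal := ⟨fun x hx g => by
    rw [show g * x * g⁻¹ = ⁅g, x⁆ * x by rw [commutatorElement_def, inv_mul_cancel_right]]
    exact mul_mem (Subgroup.mem_sup_left (hW1c g x hx)) hx⟩
  have hwin : (wE : G) ∈ frattini G := by
    have := mul_mem (commutator_mem_frattini hG y (vE : G)) (inv_mem (hΦG r1))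
    rwa [mul_inv_rev, inv_inv, mul_inv_cancel_left] at this
  have hfrat : frattini G = W1 := by
    refine le_antisymm ?_ (sup_le hΦG (Subgroup.zpowers_le.2 hwin))
    set π2 := QuotientGroup.mk' W1 with hπ2
    have hgy : ∀ g, Commute (π2 y) (π2 g) := by
      intro g
      refine (Subgroup.mem_centralizer_iff.1 (hgenG ((Subgroup.centralizer {π2 y}).comap π2) ?_ ?_ g) _ rfl :)
      · intro e he
        have hle : Subgroup.closure ({(vE : G), (wE : G)} : Set G) ≤ (Subgroup.centralizer {π2 y}).comap π2 := by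
          refine (Subgroup.closure_le _).2 ?_
          rintro x (rfl | rfl) <;> refine Subgroup.mem_centralizer_iff.2 ?_ <;> rintro c rfl <;>
            refine (commutatorElement_eq_one_iff_commute.1 ?_ : Commute (π2 y) (π2 _)).eq <;>
            rw [← map_commutatorElement] <;> refine (QuotientGroup.eq_one_iff _).2 ?_
          · have := mul_mem (Subgroup.mem_sup_right (S := phi E) (Subgroup.mem_zpowers (wE : G)))
              (Subgroup.mem_sup_left (T := Subgroup.zpowers (wE : G)) r1)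
            rwa [mul_inv_cancel_left] at this
          · exact Subgroup.mem_sup_left r2
        exact hle (hgenE.ge he)
      · exact Subgroup.mem_centralizer_iff.2 (by rintro c rfl; rfl)
    have hcomm : ∀ g g', Commute (π2 g) (π2 g') := by
      intro g g'
      refine (Subgroup.mem_centralizer_iff.1 (hgenG ((Subgroup.centralizer {π2 g}).comap π2) ?_ ?_ g') _ rfl :)
      · intro e he
        refine Subgroup.mem_centralizer_iff.2 ?_
        rintro c rfl
        refine (Subgroup.mem_centralizer_iff.1 (hgenG ((Subgroup.centralizer {π2 e}).comap π2) ?_ ?_ g) _ rfl :).symm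
        · intro e' he'
          refine Subgroup.mem_centralizer_iff.2 ?_
          rintro c rfl
          refine (commutatorElement_eq_one_iff_commute.1 ?_ : Commute (π2 e) (π2 e')).eq
          rw [← map_commutatorElement]
          exact (QuotientGroup.eq_one_iff _).2 (Subgroup.mem_sup_left (comm_mem_phi hG he he'))
        · exact Subgroup.mem_centralizer_iff.2 (by rintro c rfl; exact (hgy e).eq.symm)
      · exact Subgroup.mem_centralizer_iff.2 (by rintro c rfl; exact (hgy g).eq.symm)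
    refine Cfsg.Agent.LEFrattini.frattini_le (p := p) (fun g g' => (QuotientGroup.eq_one_iff _).1
      (show π2 ⁅g, g'⁆ = 1 by rw [map_commutatorElement]; exact commutatorElement_eq_one_iff_commute.2 (hcomm g g')))
      fun g => ?_
    obtain ⟨e, he, _, ⟨n, rfl⟩, rfl⟩ := Subgroup.mem_sup_of_normal_left.1 (htop.ge (Subgroup.mem_top g))
    refine (QuotientGroup.eq_one_iff _).1 (show π2 ((e * y ^ n) ^ p) = 1 from ?_)
    rw [map_pow, map_mul, (hcomm e (y ^ n)).mul_pow, ← map_pow, ← map_pow,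
      show π2 (e ^ p) = 1 from (QuotientGroup.eq_one_iff _).2 (Subgroup.mem_sup_left (pow_mem_phi hG he)),
      one_mul, ← zpow_natCast, zpow_comm, zpow_natCast, map_zpow,
      show π2 (y ^ p) = 1 from (QuotientGroup.eq_one_iff _).2 (Subgroup.mem_sup_left
        (pow_mem_of_weight hG hp2 E hyp htop hgenE r1 r2 hwG ψ hψE t htt hψy hψw)), one_zpow]
  have hs2G : ser p G 2 = phi E := by
    refine le_antisymm (sup_le (Subgroup.commutator_le.2 fun g _ x hx => ?_) ((Subgroup.closure_le _).2 ?_)) ?_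
    · rw [ser_one hG, hfrat] at hx
      exact hW1c g x hx
    · rintro _ ⟨x, hx, rfl⟩
      rw [ser_one hG, hfrat] at hx
      exact pow_mem_phi hG (hW1E hx)
    · refine hphiz.trans (sup_le ?_ (Subgroup.zpowers_le.2 ?_))
      · refine Subgroup.map_le_iff_le_comap.2 (sup_le (Subgroup.commutator_le.2 fun g _ x hx => ?_)
          ((Subgroup.closure_le _).2 ?_))
        · show E.subtype ⁅g, x⁆ ∈ ser p G 2
          rw [map_commutatorElement]
          exact ser_comm _ (by rw [ser_one hG]; exact hΦG ⟨x, hx, rfl⟩)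
        · rintro _ ⟨x, hx, rfl⟩
          show E.subtype (x ^ p) ∈ ser p G 2
          rw [map_pow]
          exact ser_pow (by rw [ser_one hG]; exact hΦG ⟨x, hx, rfl⟩)
      · rw [hzdef, ← E.coe_subtype, map_commutatorElement]
        exact ser_comm _ (by rw [ser_one hG]; exact hwin)
  have hs3G : ser p G 3 = L := by
    refine le_antisymm (sup_le (Subgroup.commutator_le.2 fun g _ x hx => ?_) ((Subgroup.closure_le _).2 ?_)) ?_
    · rw [hs2G] at hx
      set π3 := QuotientGroup.mk' L with hπ3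
      have hzc : Commute (π3 g) (π3 (z : G)) := by
        refine (Subgroup.mem_centralizer_iff.1 (hgenG ((Subgroup.centralizer {π3 (z : G)}).comap π3) ?_ ?_ g)
          _ rfl :).symm
        · intro e he
          refine Subgroup.mem_centralizer_iff.2 ?_
          rintro c rfl
          refine (commutatorElement_eq_one_iff_commute.1 ?_ : Commute (π3 (z : G)) (π3 e)).eq
          rw [← map_commutatorElement]
          refine (QuotientGroup.eq_one_iff _).2 ⟨⁅z, ⟨e, he⟩⁆, hzlow _, ?_⟩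
          rw [map_commutatorElement]
          rfl
        · refine Subgroup.mem_centralizer_iff.2 ?_
          rintro c rfl
          have h' : π3 (z : G) = π3 (y * (z : G) * y⁻¹) := QuotientGroup.eq.2 ⟨_, hyz, rfl⟩
          rw [map_mul, map_mul, map_inv, eq_mul_inv_iff_mul_eq] at h'
          exact h'
      refine (QuotientGroup.eq_one_iff _).1 (show π3 ⁅g, x⁆ = 1 from ?_)
      rw [map_commutatorElement, commutatorElement_eq_one_iff_commute]
      obtain ⟨l, hl, _, ⟨n, rfl⟩, rfl⟩ := Subgroup.mem_sup_of_normal_left.1 (hphiz hx)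
      rw [map_mul, show π3 l = 1 from (QuotientGroup.eq_one_iff _).2 hl, one_mul, map_zpow]
      exact hzc.zpow_right n
    · rintro _ ⟨x, hx, rfl⟩
      rw [hs2G] at hx
      obtain ⟨φ, hφ, rfl⟩ := hx
      exact ⟨φ ^ p, Subgroup.mem_sup_right (Subgroup.subset_closure ⟨φ, hφ, rfl⟩), map_pow _ _ _⟩
    · refine Subgroup.map_le_iff_le_comap.2 (sup_le (Subgroup.commutator_le.2 fun g _ x hx => ?_)
        ((Subgroup.closure_le _).2 ?_))
      · show E.subtype ⁅g, x⁆ ∈ ser p G 3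
        rw [map_commutatorElement]
        exact ser_comm _ (by rw [hs2G]; exact ⟨x, hx, rfl⟩)
      · rintro _ ⟨x, hx, rfl⟩
        show E.subtype (x ^ p) ∈ ser p G 3
        rw [map_pow]
        exact ser_pow (by rw [hs2G]; exact ⟨x, hx, rfl⟩)
  refine ⟨?_, hfrat, ?_, ?_⟩
  · -- the centralizer
    rw [hs3G]
    have hEC : E ≤ Subgroup.centralizer (L : Set G) := fun e he => Subgroup.mem_centralizer_iff.2 (by
      rintro _ ⟨l, hl, rfl⟩
      exact congrArg Subtype.val (hlc hl ⟨e, he⟩).eq)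
    refine le_antisymm (fun g hg => ?_) hEC
    by_contra hgE
    have hcard : Nat.card (⊤ : Subgroup G) ≤ p * Nat.card E := by
      rw [← htop]; exact card_sup_zpowers_le hyp
    have htopC : Subgroup.centralizer (L : Set G) = ⊤ :=
      Subgroup.eq_of_le_of_card_ge le_top (hcard.trans (step hG hEC hg hgE))
    have hya : Y * A = A * Y := by
      rw [hAq]
      show QuotientGroup.mk' D2 y * QuotientGroup.mk' D2 (a : G) = QuotientGroup.mk' D2 (a : G) * QuotientGroup.mk' D2 y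
      rw [← map_mul, ← map_mul]
      exact congrArg _ (Subgroup.mem_centralizer_iff.1 (htopC.ge (Subgroup.mem_top y)) _ ⟨a, hAlow, rfl⟩).symm
    rw [hya, mul_inv_cancel_right] at hYA
    exact hB1 (mul_eq_right.1 hYA.symm)
  · have hca : ∀ x, Commute a x := hlc hAlow
    haveI hZan : (Subgroup.zpowers a).Normal := ⟨fun x hx g => by
      obtain ⟨n, rfl⟩ := Subgroup.mem_zpowers_iff.1 hx
      rw [← ((hca g).zpow_left n).eq, mul_inv_cancel_right]
      exact zpow_mem (Subgroup.mem_zpowers a) n⟩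
    have hlow2 : low p E ≤ Subgroup.zpowers a ⊔ Subgroup.zpowers b := fun l hl => by
      have h := habT hl
      rw [hser3, sup_bot_eq] at h
      refine (Subgroup.closure_le _).2 ?_ h
      rintro x (rfl | rfl)
      exacts [Subgroup.mem_sup_left (Subgroup.mem_zpowers _), Subgroup.mem_sup_right (Subgroup.mem_zpowers _)]
    have hca' : Nat.card (Subgroup.zpowers a) ≤ p := by
      rw [Nat.card_zpowers]
      exact orderOf_le_of_pow_eq_one hp.out.pos (hlp hAlow)
    have hcl : Nat.card (low p E) ≤ p * p :=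
      (Subgroup.card_le_of_le hlow2).trans ((card_sup_zpowers_le (by rw [hlp hBlow]; exact one_mem _)).trans
        (Nat.mul_le_mul_left p hca'))
    have hzp1 : z ^ p ∈ low p E := Subgroup.mem_sup_right (Subgroup.subset_closure ⟨z, hzΦ, rfl⟩)
    refine (Subgroup.card_le_of_le hΦz).trans ((card_sup_zpowers_le hzp1).trans
      ((Nat.mul_le_mul_left p hcl).trans (le_of_eq (by ring))))
  · refine ⟨(z : G), hΦG ⟨z, hzΦ, rfl⟩, (wE : G), hwin, fun h => hB1 ?_⟩
    rw [hBq]
    refine hq1.2 ?_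
    show ⁅z, wE⁆ ∈ ser p E 3
    rw [show ⁅z, wE⁆ = 1 from commutatorElement_eq_one_iff_commute.2 (Subtype.ext h.eq)]
    exact one_mem _

end Cfsg.Agent.RankThreeCore
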