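import Cfsg.Agent.Lib.RankThreeEss.Tools

/-!
Automorphism groups of a plane with a strongly embedded subgroup.
-/

set_option autoImplicit false
set_option linter.unusedSectionVars false

open Cfsg.Agent.RankThreeEss

namespace Cfsg.Agent.RankThreeCore

variable {p : ℕ} [hp : Fact p.Prime] {V : Type*} [CommGroup V] [Finite V]

theorem top_of_pair (hexp : ∀ r : V, r ^ p = 1) (hcard : Nat.card V = p ^ 2) {a b : V} {U : Subgroup V}
    (ha : a ∈ U) (hb : b ∈ U) (ha1 : a ≠ 1) (hb1 : b ∉ Subgroup.zpowers a) : U = ⊤ := by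
  have hV := isPGroup_of_exp hexp
  refine Subgroup.eq_top_of_card_eq U (le_antisymm (Subgroup.card_le_card_group U) ?_)
  have s1 := step hV (U := ⊥) (V := Subgroup.zpowers a) bot_le (Subgroup.mem_zpowers a)
    (by rwa [Subgroup.mem_bot])
  rw [Subgroup.card_bot, mul_one] at s1
  rw [hcard, pow_two]
  exact (Nat.mul_le_mul_left p s1).trans (step hV (Subgroup.zpowers_le.2 ha) hb hb1)

/-- A p-group of automorphisms stabilises a chain. -/
theorem exists_stab (hexp : ∀ r : V, r ^ p = 1) (hcard : Nat.card V = p ^ 2) {A : Type*} [Group A]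
    (hA : IsPGroup p A) (f : A →* MulAut V) :
    ∃ w : V, w ≠ 1 ∧ ∀ m, f m ∈ stab (Subgroup.zpowers w) ⊤ le_top := by
  letI : MulAction A V := MulAction.compHom _ f
  obtain ⟨w, hw, hne⟩ := hA.exists_fixed_point_of_prime_dvd_card_of_fixed_point V
    (by rw [hcard]; exact dvd_pow_self p two_ne_zero) (show (1 : V) ∈ MulAction.fixedPoints A V from
      fun a => map_one (f a))
  have hfix : ∀ m, f m w = w := fun m => hw m
  have hw1 : w ≠ 1 := hne.symm
  refine ⟨w, hw1, fun m => ⟨fun r hr => ?_, fun r _ => ?_, fun r => Subgroup.mem_top _⟩⟩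
  · obtain ⟨k, rfl⟩ := Subgroup.mem_zpowers_iff.1 hr
    rw [map_zpow, hfix]
  · by_contra hr
    set C := Subgroup.zpowers w with hC
    have hrC : r ∉ C := fun h => hr (mul_mem (inv_mem h) (by
      obtain ⟨k, rfl⟩ := Subgroup.mem_zpowers_iff.1 h
      rw [map_zpow, hfix]; exact h))
    have htop : C ⊔ Subgroup.zpowers r = ⊤ := top_of_pair hexp hcard
      (Subgroup.mem_sup_left (Subgroup.mem_zpowers w)) (Subgroup.mem_sup_right (Subgroup.mem_zpowers r)) hw1 hrC
    obtain ⟨k, hk⟩ := exists_ev_sup (H := C) (by rw [hexp]; exact one_mem _) (htop.ge (Subgroup.mem_top (f m r)))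
    set π := QuotientGroup.mk' C with hπ
    have hR : π (f m r) = ev (π r) k := by rw [← map_ev]; exact (QuotientGroup.eq.2 hk).symm
    have hπR : π r ^ p = 1 := by rw [← map_pow, hexp, map_one]
    have hiter : ∀ n : ℕ, π (f (m ^ n) r) = ev (π r) (k ^ n) := by
      intro n
      induction n with
      | zero => rw [pow_zero, map_one, pow_zero, ev_one]; rfl
      | succ n ih =>
        obtain ⟨c, hc, hce⟩ : ∃ c ∈ C, f (m ^ n) r = c * ev r (k ^ n) := by
          refine ⟨f (m ^ n) r * (ev r (k ^ n))⁻¹, ?_, (inv_mul_cancel_right _ _).symm⟩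
          refine (QuotientGroup.eq_one_iff _).1 (show π _ = 1 from ?_)
          rw [map_mul, map_inv, map_ev, ih, mul_inv_cancel]
        obtain ⟨l, rfl⟩ := Subgroup.mem_zpowers_iff.1 hc
        rw [pow_succ', map_mul f, MulAut.mul_apply, hce, map_mul, map_zpow, hfix, map_ev, map_mul,
          (QuotientGroup.eq_one_iff _).2 hc |> fun h => (show π (w ^ l) = 1 from h), one_mul, map_ev, hR,
          ← ev_mul hπR, pow_succ']
    obtain ⟨n, hn⟩ := hA m
    have hk1 : k ^ p ^ n = 1 := by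
      have h1 := hiter (p ^ n)
      rw [hn, map_one] at h1
      refine ev_inj hπR (fun h => hrC ((QuotientGroup.eq_one_iff _).1 h)) ?_
      rw [← h1, ev_one]
      rfl
    have hkk : ∀ n : ℕ, k ^ p ^ n = k := fun n => by
      induction n with
      | zero => rw [pow_zero, pow_one]
      | succ n ih => rw [pow_succ, pow_mul, ih, ZMod.pow_card]
    rw [hkk] at hk1
    rw [hk1, ev_one] at hk
    exact hr hk

/-- The automorphisms of a plane with a strongly embedded subgroup contain two opposite transvections. -/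
theorem plane_data (hexp : ∀ r : V, r ^ p = 1) (hcard : Nat.card V = p ^ 2) (h3 : 3 ≤ p)
    (G : Subgroup (MulAut V)) (M : Subgroup G) (hM : Cfsg.IsStronglyPEmbedded p M) (P : Subgroup G)
    (hP : IsPGroup p P) (hPM : P ≤ M) (s : (ZMod p)ˣ) {α : G} (hα : α ∈ P) (hα1 : α ≠ 1) :
    P = Subgroup.zpowers α ∧ α ^ p = 1 ∧ ∃ (v w : V) (β h : G), w ≠ 1 ∧ v ∉ Subgroup.zpowers w ∧
      (α : MulAut V) v = w * v ∧ (α : MulAut V) w = w ∧ (β : MulAut V) w = w * v ∧ (β : MulAut V) v = v ∧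
      (h : MulAut V) v = ev v (s : ZMod p) ∧ (h : MulAut V) w = ev w ((s⁻¹ : (ZMod p)ˣ) : ZMod p) := by
  obtain ⟨a, ha1, hst⟩ := exists_stab hexp hcard hP (G.subtype.comp P.subtype)
  obtain ⟨r, hr⟩ : ∃ r, r ∉ Subgroup.zpowers a := by
    by_contra! h
    have h1 := Subgroup.card_top (G := V)
    rw [← (eq_top_iff.2 fun r _ => h r : Subgroup.zpowers a = ⊤), Nat.card_zpowers, hcard] at h1
    have := orderOf_le_of_pow_eq_one hp.out.pos (hexp a)
    have := hp.out.two_le
    nlinarith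
  have hs : ∀ {γ : G}, γ ∈ P → (γ : MulAut V) ∈ stab (Subgroup.zpowers a) ⊤ le_top := fun h => hst ⟨_, h⟩
  set w := r⁻¹ * (α : MulAut V) r with hwd
  have hwC : w ∈ Subgroup.zpowers a := (hs hα).2.1 r (Subgroup.mem_top r)
  have hαr : (α : MulAut V) r = w * r := by rw [hwd, mul_comm, mul_inv_cancel_left]
  have hext : ∀ γ δ : G, (γ : MulAut V) a = (δ : MulAut V) a → (γ : MulAut V) r = (δ : MulAut V) r → γ = δ :=
    fun γ δ h1 h2 => by
      have hT := top_of_pair hexp hcard (U := MonoidHom.eqLocus ((γ : MulAut V).toMonoidHom)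
        ((δ : MulAut V).toMonoidHom)) (a := a) (b := r) h1 h2 ha1 hr
      exact Subtype.ext (MulEquiv.ext fun x => (hT.ge (Subgroup.mem_top x) :))
  have hαa : (α : MulAut V) a = a := (hs hα).1 a (Subgroup.mem_zpowers a)
  have hw1 : w ≠ 1 := fun h => hα1 (hext α 1 (by simpa using hαa) (by simpa [h] using hαr))
  clear_value w
  have hwa : Subgroup.zpowers w = Subgroup.zpowers a := by
    refine le_antisymm (Subgroup.zpowers_le.2 hwC) (Subgroup.zpowers_le.2 ?_)
    obtain ⟨i, hi⟩ := exists_ev (hexp a) hwC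
    refine mem_of_ev (hexp a) (a := i) (fun h => hw1 (by rw [hi, h, ev_zero])) ?_
    rw [← hi]
    exact Subgroup.mem_zpowers w
  have hαw : (α : MulAut V) w = w := (hs hα).1 w hwC
  have hαpow : ∀ i : ZMod p, ((ev α i : G) : MulAut V) r = ev w i * r ∧ ((ev α i : G) : MulAut V) a = a :=
    fun i => by
      rw [show ((ev α i : G) : MulAut V) = ev (α : MulAut V) i from map_ev G.subtype i]
      refine ⟨ev_apply hαr hαw i, ?_⟩
      rw [ev_apply (q := 1) (by rw [one_mul]; exact hαa) (map_one _), ev_one_left, one_mul]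
  have hPz : P = Subgroup.zpowers α := by
    refine le_antisymm (fun γ hγ => ?_) (Subgroup.zpowers_le.2 hα)
    obtain ⟨i, hi⟩ := exists_ev (hexp w) (hwa ▸ (hs hγ).2.1 r (Subgroup.mem_top r))
    have : γ = ev α i := hext _ _ (((hs hγ).1 a (Subgroup.mem_zpowers a)).trans (hαpow i).2.symm)
      (by rw [(hαpow i).1, ← hi, mul_comm, mul_inv_cancel_left])
    exact this ▸ ev_mem (Subgroup.mem_zpowers α) i
  have hαp : α ^ p = 1 := Subtype.ext (stab_pow hexp h3 (hs hα))
  refine ⟨hPz, hαp, ?_⟩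
  obtain ⟨g, hg⟩ : ∃ g, g ∉ M := by
    by_contra! h
    exact Cfsg.Agent.LEStrongEmb.ne_top hM (eq_top_iff.2 fun g _ => h g)
  set a' := (g : MulAut V) w with ha'
  have hconj : ∀ x, ((g * α * g⁻¹ : G) : MulAut V) ((g : MulAut V) x) = (g : MulAut V) ((α : MulAut V) x) :=
    fun x => congrArg (fun x => (g : MulAut V) ((α : MulAut V) x)) ((g : MulAut V).symm_apply_apply x)
  have hpre : ∀ x : V, ∃ y : V, x = (g : MulAut V) y := fun x => ⟨_, ((g : MulAut V).apply_symm_apply x).symm⟩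
  have hβmv : ∀ x, x⁻¹ * ((g * α * g⁻¹ : G) : MulAut V) x ∈ Subgroup.zpowers a' := fun x => by
    obtain ⟨y, rfl⟩ := hpre x
    have h := (hs hα).2.1 y (Subgroup.mem_top y)
    rw [← hwa] at h
    rw [hconj, ← map_inv, ← map_mul, ha',
      show Subgroup.zpowers ((g : MulAut V) w) = (Subgroup.zpowers w).map (g : MulAut V).toMonoidHom from
        (MonoidHom.map_zpowers (g : MulAut V).toMonoidHom w).symm]
    exact ⟨_, h, rfl⟩
  have hβfix : ((g * α * g⁻¹ : G) : MulAut V) a' = a' := by rw [ha', hconj, hαw]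
  have ha'C : a' ∉ Subgroup.zpowers w := by
    intro h
    have hCC : ∀ x ∈ Subgroup.zpowers a', x ∈ Subgroup.zpowers w := fun x hx => (Subgroup.zpowers_le.2 h) hx
    have hb : ((g * α * g⁻¹ : G) : MulAut V) ∈ stab (Subgroup.zpowers a) ⊤ le_top := by
      refine ⟨fun x hx => ?_, fun x _ => hwa ▸ hCC _ (hβmv x), fun x => Subgroup.mem_top _⟩
      obtain ⟨i, hi⟩ := exists_ev (hexp w) h
      have hi0 : i ≠ 0 := fun h0 => hw1 ((g : MulAut V).injective (by rw [← ha', hi, h0, ev_zero, map_one]))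
      rw [← hwa] at hx
      have hwm : w ∈ Subgroup.zpowers a' :=
        mem_of_ev (hexp w) hi0 (hi ▸ Subgroup.mem_zpowers a')
      obtain ⟨n, rfl⟩ := Subgroup.mem_zpowers_iff.1 ((Subgroup.zpowers_le.2 hwm) hx)
      rw [map_zpow, hβfix]
    have hR : IsPGroup p ((stab (Subgroup.zpowers a) ⊤ le_top).subgroupOf G) := fun x => ⟨1, by
      rw [pow_one]
      exact Subtype.ext (Subtype.ext (stab_pow hexp h3 (h := le_top) x.2))⟩
    have hRM := Cfsg.Agent.LEStrongEmb.le_of_pSubgroup hM hR fun hb' =>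
      hα1 (Subgroup.mem_bot.1 (hb'.le ⟨hs hα, hPM hα⟩))
    exact hg (Cfsg.Agent.LEStrongEmb.mem_of_conj_mem hM (orderOf_eq_prime hαp hα1) (hPM hα) (hRM hb))
  obtain ⟨l, hl⟩ : ∃ l : ZMod p, (α : MulAut V) a' = ev w l * a' := by
    obtain ⟨l, hl⟩ := exists_ev (hexp w) (hwa ▸ (hs hα).2.1 a' (Subgroup.mem_top a'))
    exact ⟨l, by rw [← hl, mul_comm, mul_inv_cancel_left]⟩
  obtain ⟨j, hj⟩ : ∃ j : ZMod p, ((g * α * g⁻¹ : G) : MulAut V) w = ev a' j * w := by
    obtain ⟨j, hj⟩ := exists_ev (hexp a') (hβmv w)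
    exact ⟨j, by rw [← hj, mul_comm, mul_inv_cancel_left]⟩
  have hgen : ∀ γ : G, (γ : MulAut V) w = w → (γ : MulAut V) a' = a' → γ = 1 := fun γ h1 h2 => by
    have hT := top_of_pair hexp hcard (U := MonoidHom.eqLocus ((γ : MulAut V).toMonoidHom) (MonoidHom.id V))
      (a := w) (b := a') h1 h2 hw1 ha'C
    exact Subtype.ext (MulEquiv.ext fun x => (hT.ge (Subgroup.mem_top x) :))
  have hl0 : l ≠ 0 := fun h => hα1 (hgen α hαw (by rw [hl, h, ev_zero, one_mul]))
  have hj0 : j ≠ 0 := fun h => by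
    have h1 := hgen _ (by rw [hj, h, ev_zero, one_mul]) hβfix
    exact hα1 (conj_eq_one_iff.1 h1)
  set v := ev a' l⁻¹ with hvd
  have hαv : (α : MulAut V) v = w * v := by
    rw [hvd, map_ev, hl, mul_ev, ← ev_mul (hexp w), mul_inv_cancel₀ hl0, ev_one]
  set β : G := ev (g * α * g⁻¹) (j * l)⁻¹ with hβd
  have hβe : ((β : G) : MulAut V) = ev ((g * α * g⁻¹ : G) : MulAut V) (j * l)⁻¹ := map_ev G.subtype _
  have hβw : (β : MulAut V) w = w * v := by
    rw [hβe, ev_apply hj (by rw [map_ev, hβfix]), ← ev_mul (hexp a'), hvd, mul_comm]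
    congr 2
    field_simp
  have hβv : (β : MulAut V) v = v := by
    rw [hvd, map_ev, hβe, ev_apply (q := 1) (by rw [one_mul]; exact hβfix) (map_one _), ev_one_left, one_mul]
  obtain ⟨h, -, hhv, hhw⟩ := exists_diag G.subtype hexp (α := α) (β := β) (v := v) (w := w) hαv hαw hβw hβv s
  refine ⟨v, w, β, h, hw1, fun hv => ha'C ?_, hαv, hαw, hβw, hβv, hhv, hhw⟩
  exact mem_of_ev (hexp a') (inv_ne_zero hl0) hv

end Cfsg.Agent.RankThreeCore
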