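import Cfsg.Agent.Lib.RankThreeCore.Plane
import Cfsg.Agent.Lib.RankThreeCore.PearlLow
import Cfsg.Agent.Lib.RankThreeCore.Auto
import Cfsg.Agent.Lib.Qd.Basic

/-!
Essential subgroups in sectional rank three: the number of generators, and the case of two generators.
-/

set_option autoImplicit false
set_option linter.unusedSectionVars false
set_option linter.style.haveILetI false
set_option maxHeartbeats 2000000

open scoped commutatorElement
open Cfsg Cfsg.FusionSystem Cfsg.Agent.FusionSys Cfsg.Agent.MaxEss Cfsg.Agent.RankThreeEss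

namespace Cfsg.Agent.RankThreeCore

theorem ser_map_equiv {A B : Type*} [Group A] [Group B] (p : ℕ) (e : A ≃* B) (i : ℕ) :
    (ser p A i).map e.toMonoidHom = ser p B i := by
  induction i with
  | zero => rw [ser_zero, ser_zero, Subgroup.map_top_of_surjective _ e.surjective]
  | succ i ih =>
    rw [ser_succ, ser_succ, Subgroup.map_sup, Subgroup.map_commutator,
      Subgroup.map_top_of_surjective _ e.surjective, ih, MonoidHom.map_closure]
    congr 2
    ext g
    constructor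
    · rintro ⟨_, ⟨x, hx, rfl⟩, rfl⟩
      exact ⟨e x, ih ▸ ⟨x, hx, rfl⟩, map_pow e x p⟩
    · rintro ⟨x, hx, rfl⟩
      obtain ⟨y, hy, rfl⟩ := ih.ge hx
      exact ⟨y ^ p, ⟨y, hy, rfl⟩, map_pow e y p⟩

theorem mem_centralizer_map_equiv {A B : Type*} [Group A] [Group B] (e : A ≃* B) (K : Subgroup A) {x : A} :
    e x ∈ Subgroup.centralizer ((K.map e.toMonoidHom : Subgroup B) : Set B) ↔
      x ∈ Subgroup.centralizer (K : Set A) := by
  simp only [Subgroup.mem_centralizer_iff]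
  constructor
  · intro h k hk
    refine e.injective ?_
    rw [map_mul, map_mul]
    exact h (e k) ⟨k, hk, rfl⟩
  · rintro h _ ⟨k, hk, rfl⟩
    show e k * e x = e x * e k
    rw [← map_mul, ← map_mul, h k hk]

/-- The exceptional essential subgroup with two generators. -/
def Exc (p : ℕ) {G : Type*} [Group G] (E : Subgroup G) : Prop :=
  E = Subgroup.centralizer (ser p G 3 : Set G) ∧ (frattini G).index = p ^ 2 ∧ Nat.card G ≤ p ^ 6 ∧
    ∃ a ∈ frattini G, ∃ b ∈ frattini G, ¬ Commute a b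

variable {Ω : Type*} [Group Ω] {S : Subgroup Ω} [Finite S] {F : FusionSystem S} {p : ℕ} [hp : Fact p.Prime]

/-- An essential subgroup has two or three generators. -/
theorem rank_cases (hS : IsPGroup p S) (hF : F.IsSaturated p) (hsec : Cfsg.SectionalPRankLE p 3 S)
    {E₀ : Subgroup S} (hE : F.IsEssential p (om E₀)) :
    (frattini E₀).index = p ^ 2 ∨ (frattini E₀).index = p ^ 3 := by
  have hP : IsPGroup p E₀ := hS.to_subgroup E₀
  letI : CommGroup (E₀ ⧸ frattini E₀) := quotCommGroup hP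
  obtain ⟨d, hd⟩ := IsPGroup.iff_card.1 (hP.to_quotient (frattini E₀))
  rw [Subgroup.index_eq_card, hd]
  have hd3 : d ≤ 3 := by
    have h := hsec E₀ (frattini E₀) ⊤ ⟨⟨fun a b => Subtype.ext (mul_comm (a : E₀ ⧸ frattini E₀) b)⟩⟩
      fun a _ => quot_exp hP a
    rw [Subgroup.card_top, hd] at h
    exact (Nat.pow_le_pow_iff_right hp.out.one_lt).1 h
  by_cases hd2 : 2 ≤ d
  · rcases (by omega : d = 2 ∨ d = 3) with rfl | rfl
    exacts [Or.inl rfl, Or.inr rfl]
  exfalso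
  have hcyc : IsCyclic (E₀ ⧸ frattini E₀) := by
    rcases (by omega : d = 0 ∨ d = 1) with rfl | rfl
    · haveI : Subsingleton (E₀ ⧸ frattini E₀) :=
        Finite.card_le_one_iff_subsingleton.1 (by rw [hd, pow_zero])
      infer_instance
    · exact isCyclic_of_prime_card (p := p) (by rw [hd, pow_one])
  obtain ⟨g, hg⟩ := hcyc.exists_generator
  have hcomm : ∀ a b : Gq F E₀, a * b = b * a := by
    intro a b
    obtain ⟨m, hm⟩ := Subgroup.mem_zpowers_iff.1 (hg ((a : MulAut (E₀ ⧸ frattini E₀)) g))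
    obtain ⟨n, hn⟩ := Subgroup.mem_zpowers_iff.1 (hg ((b : MulAut (E₀ ⧸ frattini E₀)) g))
    refine Subtype.ext (MulEquiv.ext fun x => ?_)
    obtain ⟨k, rfl⟩ := Subgroup.mem_zpowers_iff.1 (hg x)
    show (a : MulAut _) ((b : MulAut _) (g ^ k)) = (b : MulAut _) ((a : MulAut _) (g ^ k))
    rw [map_zpow, map_zpow, map_zpow, map_zpow, ← hn, map_zpow, ← hm, map_zpow, ← hn, zpow_comm g m n]
  obtain ⟨M, hM, hPM⟩ := exists_M hS hF hE
  refine Cfsg.Agent.LEStrongEmb.ne_top hM (eq_top_iff.2 fun x _ => ?_)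
  refine Cfsg.Agent.LEStrongEmb.normalizer_le hM hPM (kappa_isPGroup hS) (kappa_ne_bot hS hF hE) ?_
  refine Subgroup.mem_normalizer_iff.2 fun z => ?_
  rw [hcomm x z, mul_inv_cancel_right]

theorem mem_frattini_eInEquiv {E₀ : Subgroup S} {x : eIn E₀} :
    x ∈ frattini (eIn E₀) ↔ eInEquiv E₀ x ∈ frattini E₀ := by
  rw [← frattini_map_equiv (eInEquiv E₀)]
  exact (Subgroup.mem_map_iff_mem (eInEquiv E₀).injective).symm

/-- An essential subgroup with two generators is a pearl or exceptional. -/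
theorem pearl_or_exc (hS : IsPGroup p S) (hF : F.IsSaturated p) (h5 : 5 ≤ p)
    (hsec : Cfsg.SectionalPRankLE p 3 S) {E₀ : Subgroup S} (hE : F.IsEssential p (om E₀))
    (hidx : (frattini E₀).index = p ^ 2) :
    ((IsElementaryAbelian p (om E₀) ∧ Nat.card (om E₀) = p ^ 2) ∨
      (IsExtraspecial p (om E₀) ∧ Nat.card (om E₀) = p ^ 3 ∧ ∀ x ∈ om E₀, x ^ p = 1)) ∨ Exc p E₀ := by
  haveI := finite_of_le (om_le E₀)
  have hP : IsPGroup p E₀ := hS.to_subgroup E₀
  have hG : IsPGroup p (nrm E₀) := hS.to_subgroup _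
  have hP' : IsPGroup p (eIn E₀) := hG.to_subgroup _
  have h3 : 3 ≤ p := by omega
  letI : CommGroup (E₀ ⧸ frattini E₀) := quotCommGroup hP
  have hexp := quot_exp hP
  have hcard : Nat.card (E₀ ⧸ frattini E₀) = p ^ 2 := (Subgroup.index_eq_card _).symm.trans hidx
  obtain ⟨M, hM, hPM⟩ := exists_M hS hF hE
  obtain ⟨y, hy⟩ := exists_outside_eIn hS hF hE
  have hy1 : kappa F E₀ y ≠ 1 := fun h => hy (ker_kappa' hS hF hE y h)
  obtain ⟨s, hs2, -, -⟩ := exists_gen_unit (p := p) h5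
  obtain ⟨hPz, hαp, v, w, β, h, hw1, hv1, hαv, hαw, hβw, hβv, hhv, hhw⟩ :=
    plane_data hexp hcard h3 (Gq F E₀) M hM (kappa F E₀).range (kappa_isPGroup hS) hPM s ⟨y, rfl⟩ hy1
  have htop := top_of_gen hS hF hE hPz
  have hyp := pow_mem_of_gen hS hF hE hαp
  set t : ZMod p := ((s⁻¹ : (ZMod p)ˣ) : ZMod p) with ht
  have hst : (s : ZMod p) * t = 1 := by rw [ht, ← Units.val_mul, mul_inv_cancel, Units.val_one]
  set π := QuotientGroup.mk' (frattini E₀) with hπ
  obtain ⟨v₀, rfl⟩ := QuotientGroup.mk'_surjective (frattini E₀) v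
  obtain ⟨w₀, rfl⟩ := QuotientGroup.mk'_surjective (frattini E₀) w
  obtain ⟨β₀, hβ₀⟩ := β.2
  obtain ⟨η, hη⟩ := h.2
  have hπeq : ∀ {a b : E₀}, π a = π b → a⁻¹ * b ∈ frattini E₀ := fun h => QuotientGroup.eq.1 h
  have hgen : Subgroup.closure ({v₀, w₀} : Set E₀) = ⊤ := eq_top_of_map_top (top_of_pair hexp hcard
    (Subgroup.mem_map_of_mem π (Subgroup.subset_closure (Or.inr rfl)))
    (Subgroup.mem_map_of_mem π (Subgroup.subset_closure (Or.inl rfl))) hw1 hv1)
  set α : MulAut (E₀ ⧸ frattini E₀) := (kappa F E₀ y : MulAut (E₀ ⧸ frattini E₀)) with hαd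
  have hconj : (h : MulAut (E₀ ⧸ frattini E₀)) * α * (h : MulAut (E₀ ⧸ frattini E₀))⁻¹ = ev α (t * t) := by
    have hhinv : ∀ {r r' : E₀ ⧸ frattini E₀}, (h : MulAut _) r' = r → (h : MulAut _)⁻¹ r = r' :=
      fun h' => (MulEquiv.symm_apply_eq _).2 h'.symm
    have hE := top_of_pair hexp hcard
      (U := MonoidHom.eqLocus (((h : MulAut (E₀ ⧸ frattini E₀)) * α *
        (h : MulAut (E₀ ⧸ frattini E₀))⁻¹ : MulAut _).toMonoidHom)
        ((ev α (t * t) : MulAut _).toMonoidHom))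
      (a := π w₀) (b := π v₀) ?_ ?_ hw1 hv1
    · exact MulEquiv.ext fun r => (hE.ge (Subgroup.mem_top r) :)
    · show (h : MulAut _) (α ((h : MulAut _)⁻¹ (π w₀))) = ev α (t * t) (π w₀)
      rw [hhinv (r' := ev (π w₀) (s : ZMod p)) (by rw [map_ev, hhw, ← ev_mul (hexp _), mul_comm, hst, ev_one]),
        map_ev, hαw, map_ev, hhw, ← ev_mul (hexp _), mul_comm, hst, ev_one,
        ev_apply (q := 1) (by rw [one_mul]; exact hαw) (map_one _), ev_one_left, one_mul]
    · show (h : MulAut _) (α ((h : MulAut _)⁻¹ (π v₀))) = ev α (t * t) (π v₀)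
      rw [hhinv (r' := ev (π v₀) t) (by rw [map_ev, hhv, ← ev_mul (hexp _), hst, ev_one]),
        map_ev, hαv, mul_ev, map_mul, map_ev, map_ev, hhv, hhw, ← ev_mul (hexp _), ← ev_mul (hexp _), hst,
        ev_one, ev_apply hαv hαw]
  obtain ⟨hηn, hηy⟩ := exists_normalizing hS hF hE hPz hαp η (t * t) (by rw [hη]; exact hconj)
  -- the torus element on the normalizer
  obtain ⟨ψ, -, hψe⟩ := exists_extend hS hF hE.2.1 η.2 fun g hg => by
    obtain ⟨k, hk⟩ := hηn ⟨g, hg⟩
    refine ⟨k, k.2, fun e he => ?_⟩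
    have h := congrArg (fun γ : MulAut E₀ => ((γ ((η : MulAut E₀) e) : E₀) : S)) hk
    rw [MulAut.mul_apply, MulAut.mul_apply,
      show (η : MulAut E₀)⁻¹ ((η : MulAut E₀) e) = e from (η : MulAut E₀).symm_apply_apply e] at h
    exact h
  have hψl : ∀ a : E₀, ψ (lift E₀ a) = lift E₀ ((η : MulAut E₀) a) := fun a => Subtype.ext (hψe a _)
  have hψE : (eIn E₀).map ψ.toMonoidHom = eIn E₀ := by
    refine Subgroup.eq_of_le_of_card_ge ?_ (Subgroup.card_map_of_injective ψ.injective).ge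
    rintro _ ⟨g, hg, rfl⟩
    show ψ g ∈ eIn E₀
    rw [show g = lift E₀ ⟨g, hg⟩ from rfl, hψl]
    exact lift_mem E₀ _
  have hψc : ∀ g, conjN E₀ (ψ g) = (η : MulAut E₀) * conjN E₀ g * (η : MulAut E₀)⁻¹ := fun g =>
    MulEquiv.ext fun a => by
      obtain ⟨b, rfl⟩ := (η : MulAut E₀).surjective a
      refine lift_injective E₀ ?_
      rw [MulAut.mul_apply, MulAut.mul_apply,
        show (η : MulAut E₀)⁻¹ ((η : MulAut E₀) b) = b from (η : MulAut E₀).symm_apply_apply b, lift_conjN, ← hψl,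
        ← hψl, lift_conjN, map_mul, map_mul, map_inv]
  have hψy : (ev y (t * t))⁻¹ * ψ y ∈ eIn E₀ := by
    refine ker_kappa hS hF hE _ ?_
    rw [map_mul (conjN E₀), map_mul (autQuot _), map_inv, map_inv, hψc, hηy, inv_mul_cancel]
  -- translate to the normalizer
  set e := eInEquiv E₀ with he
  set vE := e.symm v₀ with hvE
  set wE := e.symm w₀ with hwE
  have hlv : (vE : nrm E₀) = lift E₀ v₀ := Subtype.ext rfl
  have hlw : (wE : nrm E₀) = lift E₀ w₀ := Subtype.ext rfl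
  have hfr : ∀ {x : eIn E₀}, x ∈ frattini (eIn E₀) ↔ e x ∈ frattini E₀ := mem_frattini_eInEquiv
  have hgen' : Subgroup.closure ({vE, wE} : Set (eIn E₀)) = ⊤ := by
    rw [show ({vE, wE} : Set (eIn E₀)) = e.symm.toMonoidHom '' {v₀, w₀} by simp [Set.image_insert_eq, hvE, hwE],
      ← MonoidHom.map_closure, hgen, Subgroup.map_top_of_surjective _ e.symm.surjective]
  have hlift : ∀ {a b : E₀}, a⁻¹ * b ∈ frattini E₀ → (lift E₀ a)⁻¹ * lift E₀ b ∈ phi (eIn E₀) := fun h => by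
    rw [← map_inv, ← map_mul]; exact (mem_phi_lift E₀).2 h
  have hw0 : wE ∉ frattini (eIn E₀) := fun h => hw1 ((QuotientGroup.eq_one_iff _).2 (by
    have := hfr.1 h
    rwa [hwE, MulEquiv.apply_symm_apply] at this))
  have hv0 : vE ∉ frattini (eIn E₀) ⊔ Subgroup.zpowers wE := fun h => by
    refine hv1 ?_
    have h1 := Subgroup.mem_map_of_mem e.toMonoidHom h
    rw [Subgroup.map_sup, frattini_map_equiv e, MonoidHom.map_zpowers] at h1
    have h2 := Subgroup.mem_map_of_mem π h1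
    rw [Subgroup.map_sup, MonoidHom.map_zpowers, hπ, QuotientGroup.map_mk'_self, bot_sup_eq] at h2
    simpa [hvE, hwE, hπ] using h2
  set β1 : MulAut (eIn E₀) := MulAut.congr e.symm (β₀ : MulAut E₀) with hβ1
  have hβ1e : ∀ x : eIn E₀, e (β1 x) = (β₀ : MulAut E₀) (e x) := fun x => e.apply_symm_apply _
  have hβρ : ∀ {a b : E₀}, (β : MulAut (E₀ ⧸ frattini E₀)) (π a) = π b →
      b⁻¹ * (β₀ : MulAut E₀) a ∈ frattini E₀ := fun {a b} h => by
    refine hπeq ?_
    rw [show π ((β₀ : MulAut E₀) a) = rho F E₀ β₀ (π a) from rfl, hβ₀, h]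
  have r1 : (wE : nrm E₀)⁻¹ * ⁅y, (vE : nrm E₀)⁆ ∈ phi (eIn E₀) := by
    rw [hlv, hlw]; exact rel_of E₀ (by rw [map_mul]; exact hαv)
  have r2 : ⁅y, (wE : nrm E₀)⁆ ∈ phi (eIn E₀) := by rw [hlw]; exact rel_one E₀ hαw
  have main := low_eq_bot hG h5 hsec (nrm E₀).subtype Subtype.val_injective (eIn E₀) y hyp htop vE wE hgen' r1 r2
    hw0 hv0 β1 ?_ ?_ ψ hψE (s : ZMod p) t hst hs2 hψy ?_ ?_
  rotate_left
  · refine hfr.2 ?_
    rw [map_mul, map_inv, map_mul, hβ1e, hvE, hwE, MulEquiv.apply_symm_apply, MulEquiv.apply_symm_apply]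
    exact hβρ (by rw [hβw, map_mul, mul_comm])
  · refine hfr.2 ?_
    rw [map_mul, map_inv, hβ1e, hvE, MulEquiv.apply_symm_apply]
    exact hβρ hβv
  · rw [hlv, hψl, ← map_ev (lift E₀)]
    exact hlift (hπeq (by
      rw [show π ((η : MulAut E₀) v₀) = rho F E₀ η (π v₀) from rfl, hη, hhv, map_ev]))
  · rw [hlw, hψl, ← map_ev (lift E₀)]
    exact hlift (hπeq (by
      rw [show π ((η : MulAut E₀) w₀) = rho F E₀ η (π w₀) from rfl, hη, hhw, map_ev]))
  have hidx' : (frattini (eIn E₀)).index = p ^ 2 := (index_frattini_equiv e).symm.trans hidx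
  rcases main with ⟨hlow, hvp, hwp⟩ | ⟨hC, hfrat, hcΦ, a, ha, b, hb, hab⟩
  · left
    set e' : eIn E₀ ≃* om E₀ := e.trans (eL E₀) with he'
    have hce : Nat.card (eIn E₀) = Nat.card (om E₀) := Nat.card_congr e'.toEquiv
    rcases pearl_of_low hP' h5 hgen' hidx' hlow hvp hwp with ⟨hc, hx, hn⟩ | ⟨hx, hn, he2⟩
    · refine Or.inl ⟨⟨⟨⟨fun u v => ?_⟩⟩, fun u hu => ?_⟩, hce ▸ hn⟩
      · obtain ⟨u, rfl⟩ := e'.surjective u
        obtain ⟨v, rfl⟩ := e'.surjective v
        rw [← map_mul, hc, map_mul]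
      · have h := congrArg Subtype.val (congrArg e' (hx (e'.symm ⟨u, hu⟩)))
        rw [map_pow, MulEquiv.apply_symm_apply, map_one] at h
        exact h
    · refine Or.inr ⟨Cfsg.Agent.Qd.isExtraspecial_congr e'.symm hx, hce ▸ hn, fun u hu => ?_⟩
      have h := congrArg Subtype.val (congrArg e' (he2 (e'.symm ⟨u, hu⟩)))
      rw [map_pow, MulEquiv.apply_symm_apply, map_one] at h
      exact h
  right
  -- the normalizer is the whole group
  have hN : nrm E₀ = ⊤ := by
    by_contra hN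
    haveI := hS.isNilpotent
    obtain ⟨g, hg, hgN⟩ := SetLike.exists_of_lt (Group.normalizerCondition_of_isNilpotent (nrm E₀) (lt_top_iff_ne_top.2 hN))
    refine hgN (normalizes_of_theta E₀ ⟨g, hg⟩ fun x hx => ?_)
    rw [← hC] at hx ⊢
    have h := (mem_centralizer_map_equiv ((nrm E₀).normalizerMonoidHom ⟨g, hg⟩) (ser p (nrm E₀) 3)).2 hx
    rwa [ser_map_equiv] at h
  let eN : nrm E₀ ≃* S := (MulEquiv.subgroupCongr hN).trans Subgroup.topEquiv
  have heN : ∀ g : nrm E₀, eN g = (g : S) := fun g => rfl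
  refine ⟨?_, ?_, ?_, ⟨eN a, ?_, eN b, ?_, fun hc => hab ?_⟩⟩
  · ext g
    obtain ⟨g, rfl⟩ := eN.surjective g
    rw [← ser_map_equiv p eN, mem_centralizer_map_equiv, hC, heN]
    exact Iff.rfl
  · rw [index_frattini_equiv eN]
    -- orders
    haveI : (phi (eIn E₀)).Normal := phi_normal _
    have hw' : (wE : nrm E₀) ∉ phi (eIn E₀) := fun h => hw0 (mem_phi.1 h)
    have hcW : Nat.card (frattini (nrm E₀)) = p * Nat.card (phi (eIn E₀)) := by
      refine le_antisymm ?_ (step hG ?_ ?_ hw')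
      · rw [hfrat]; exact card_sup_zpowers_le (pow_mem_phi hG wE.2)
      · rw [hfrat]; exact le_sup_left
      · rw [hfrat]; exact Subgroup.mem_sup_right (Subgroup.mem_zpowers _)
    have hcN : Nat.card (nrm E₀) = p * Nat.card (eIn E₀) := by
      refine le_antisymm ?_ ?_
      · rw [← Subgroup.card_top, ← htop]; exact card_sup_zpowers_le hyp
      · rw [← Subgroup.card_top (G := nrm E₀)]; exact step hG le_top (Subgroup.mem_top y) hy
    have h1 := (frattini (nrm E₀)).card_mul_index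
    have h2 := (frattini (eIn E₀)).card_mul_index
    have h3 : Nat.card (phi (eIn E₀)) = Nat.card (frattini (eIn E₀)) :=
      Subgroup.card_map_of_injective (eIn E₀).subtype_injective
    rw [hcW, h3, hcN, ← h2, hidx', ← mul_assoc] at h1
    exact Nat.eq_of_mul_eq_mul_left (Nat.mul_pos hp.out.pos Nat.card_pos) h1
  · rw [← Nat.card_congr eN.toEquiv, ← Subgroup.card_top, ← htop]
    refine (card_sup_zpowers_le hyp).trans ?_
    rw [← (frattini (eIn E₀)).card_mul_index, hidx']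
    exact (Nat.mul_le_mul_left p (Nat.mul_le_mul_right _ hcΦ)).trans (le_of_eq (by ring))
  · rw [← frattini_map_equiv eN]; exact ⟨a, ha, rfl⟩
  · rw [← frattini_map_equiv eN]; exact ⟨b, hb, rfl⟩
  · have := hc.map eN.symm
    simpa using this

end Cfsg.Agent.RankThreeCore
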