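import Cfsg.Agent.Lib.RankThreeEss.Tools

/-!
The descending central series with elementary abelian factors, and its last layer when the powers
generate the Frattini subgroup modulo the third term.
-/

set_option autoImplicit false
set_option linter.unusedSectionVars false

open scoped commutatorElement
open Cfsg.Agent.RankThreeEss

namespace Cfsg.Agent.RankThreeCore

variable (p : ℕ) (E : Type*) [Group E]

/-- The series `⊤, Φ, low, …`. -/
def ser : ℕ → Subgroup E
  | 0 => ⊤
  | i + 1 => ⁅(⊤ : Subgroup E), ser i⁆ ⊔ Subgroup.closure {g | ∃ x ∈ ser i, g = x ^ p}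

variable {p E}

theorem ser_zero : ser p E 0 = ⊤ := rfl

theorem ser_succ (i : ℕ) :
    ser p E (i + 1) = ⁅(⊤ : Subgroup E), ser p E i⁆ ⊔ Subgroup.closure {g | ∃ x ∈ ser p E i, g = x ^ p} := rfl

instance ser_characteristic (i : ℕ) : (ser p E i).Characteristic := by
  induction i with
  | zero => rw [ser_zero]; infer_instance
  | succ i ih => exact sup_characteristic (commutator_top_characteristic ih) (powers_characteristic p ih)

theorem ser_comm {i : ℕ} (g : E) {x : E} (hx : x ∈ ser p E i) : ⁅g, x⁆ ∈ ser p E (i + 1) :=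
  Subgroup.mem_sup_left (Subgroup.commutator_mem_commutator (Subgroup.mem_top g) hx)

theorem ser_comm' {i : ℕ} (g : E) {x : E} (hx : x ∈ ser p E i) : ⁅x, g⁆ ∈ ser p E (i + 1) := by
  rw [← commutatorElement_inv]; exact inv_mem (ser_comm g hx)

theorem ser_pow {i : ℕ} {x : E} (hx : x ∈ ser p E i) : x ^ p ∈ ser p E (i + 1) :=
  Subgroup.mem_sup_right (Subgroup.subset_closure ⟨x, hx, rfl⟩)

theorem ser_anti (i : ℕ) : ser p E (i + 1) ≤ ser p E i := by
  refine sup_le (Subgroup.commutator_le_right _ _) ?_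
  refine (Subgroup.closure_le _).2 ?_
  rintro _ ⟨x, hx, rfl⟩
  exact pow_mem hx p

variable [hp : Fact p.Prime] [Finite E] (hE : IsPGroup p E)
include hE

theorem ser_one : ser p E 1 = frattini E := by
  refine le_antisymm (sup_le (Subgroup.commutator_le.2 fun g _ x _ => commutator_mem_frattini hE g x) ?_) ?_
  · refine (Subgroup.closure_le _).2 ?_
    rintro _ ⟨x, -, rfl⟩
    exact Cfsg.Agent.PGroupBasics.pow_mem_frattini hE x
  · exact Cfsg.Agent.LEFrattini.frattini_le (p := p) (fun a b => ser_comm a (Subgroup.mem_top b))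
      fun a => ser_pow (Subgroup.mem_top a)

theorem ser_two : ser p E 2 = low p E := by
  rw [ser_succ, ser_one hE]; rfl

omit [Finite E] hE in
/-- The `p`-th power is multiplicative between consecutive factors. -/
theorem pow_mul_mod (hp2 : p ≠ 2) {i : ℕ} {a b : E} (hab : ⁅b, a⁆ ∈ ser p E (i + 1)) :
    (a ^ p * b ^ p)⁻¹ * (a * b) ^ p ∈ ser p E (i + 2) := by
  refine QuotientGroup.eq.1 (show QuotientGroup.mk' (ser p E (i + 2)) (a ^ p * b ^ p) =
    QuotientGroup.mk' (ser p E (i + 2)) ((a * b) ^ p) from ?_)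
  set q := QuotientGroup.mk' (ser p E (i + 2)) with hq
  set c := ⁅q b⁻¹, q a⁻¹⁆ with hc
  have hmem : ⁅b⁻¹, a⁻¹⁆ ∈ ser p E (i + 1) := by
    rw [show ⁅b⁻¹, a⁻¹⁆ = (a * b)⁻¹ * ⁅b, a⁆ * (a * b) by simp only [commutatorElement_def]; group]
    have := Subgroup.Normal.conj_mem (inferInstance : (ser p E (i + 1)).Normal) _ hab (a * b)⁻¹
    rwa [inv_inv] at this
  have hcc : ∀ r, Commute c r := fun r => by
    obtain ⟨r, rfl⟩ := QuotientGroup.mk'_surjective (ser p E (i + 2)) r
    rw [hc, ← map_commutatorElement, ← commutatorElement_eq_one_iff_commute, ← map_commutatorElement]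
    exact (QuotientGroup.eq_one_iff _).2 (ser_comm' r hmem)
  have hcp : c ^ p = 1 := by
    rw [hc, ← map_commutatorElement, ← map_pow]
    exact (QuotientGroup.eq_one_iff _).2 (ser_pow hmem)
  have hba : q b * q a = q a * q b * c := by rw [hc, map_inv, map_inv, commutatorElement_def]; group
  rw [map_mul, map_pow, map_pow, map_pow, map_mul,
    Cfsg.Agent.LEOmega.mul_pow_class_two hba (hcc _) (hcc _)]
  obtain ⟨d, hd⟩ := hp.out.dvd_choose_self two_ne_zero (lt_of_le_of_ne hp.out.two_le (Ne.symm hp2))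
  rw [hd, pow_mul, hcp, one_pow, mul_one]

omit hE in
theorem eq_bot_of_succ (hE : IsPGroup p E) {i : ℕ} (h : ser p E (i + 1) = ser p E i) : ser p E i = ⊥ := by
  set K := ser p E i with hK
  have hK1 : ⁅(⊤ : Subgroup E), K⁆ = K := by
    refine le_antisymm (Subgroup.commutator_le_right _ _) ?_
    have h' : (⁅(⊤ : Subgroup E), K⁆.subgroupOf K) = ⊤ := by
      refine frattini_nongenerating (eq_top_iff.2 ?_)
      have hle : K ≤ ⁅(⊤ : Subgroup E), K⁆ ⊔ (frattini K).map K.subtype := by
        refine h.ge.trans (sup_le_sup le_rfl ?_)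
        refine (Subgroup.closure_le _).2 ?_
        rintro _ ⟨x, hx, rfl⟩
        exact ⟨_, Cfsg.Agent.PGroupBasics.pow_mem_frattini (hE.to_subgroup K) (⟨x, hx⟩ : K), rfl⟩
      rw [← Subgroup.map_subtype_le_map_subtype, Subgroup.map_sup, ← MonoidHom.range_eq_map,
        Subgroup.range_subtype, Subgroup.subgroupOf_map_subtype, inf_of_le_left (Subgroup.commutator_le_right _ _)]
      exact hle
    exact Subgroup.subgroupOf_eq_top.1 h'
  haveI := hE.isNilpotent
  have key : ∀ n, K ≤ (⊤ : Subgroup E).lowerCentralSeries n := by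
    intro n
    induction n with
    | zero => simp
    | succ n ih =>
      rw [Subgroup.lowerCentralSeries_succ, ← hK1, Subgroup.commutator_comm]
      exact Subgroup.commutator_mono ih le_top
  obtain ⟨n, hn⟩ := Subgroup.nilpotent_iff_lowerCentralSeries.1 (inferInstance : Group.IsNilpotent E)
  exact le_bot_iff.1 (hn ▸ key n)

theorem exists_ser_bot : ∃ n, ser p E n = ⊥ := by
  by_contra! hne
  have key : ∀ n, Nat.card (ser p E n) + n ≤ Nat.card E := by
    intro n
    induction n with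
    | zero => rw [ser_zero, Subgroup.card_top]; rfl
    | succ n ih =>
      have : Nat.card (ser p E (n + 1)) < Nat.card (ser p E n) := by
        refine lt_of_le_of_ne (Subgroup.card_le_of_le (ser_anti n)) fun h => hne n ?_
        exact eq_bot_of_succ hE (Subgroup.eq_of_le_of_card_ge (ser_anti n) h.ge)
      omega
  have := key (Nat.card E)
  have h1 := (Nat.card_pos : 0 < Nat.card (ser p E (Nat.card E)))
  omega

omit [Finite E] hE in
theorem pow_pow_mem (i : ℕ) (x : E) : x ^ p ^ i ∈ ser p E i := by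
  induction i with
  | zero => exact Subgroup.mem_top _
  | succ i ih => rw [pow_succ, pow_mul]; exact ser_pow ih

omit [Finite E] hE in
theorem pow_pow_mul (hp2 : p ≠ 2) (i : ℕ) (x y : E) :
    (x ^ p ^ i * y ^ p ^ i)⁻¹ * (x * y) ^ p ^ i ∈ ser p E (i + 1) := by
  induction i with
  | zero =>
    rw [pow_zero, pow_one, pow_one, pow_one, inv_mul_cancel]
    exact one_mem _
  | succ i ih =>
    set a := x ^ p ^ i with ha
    set b := y ^ p ^ i with hb
    set r := (a * b)⁻¹ * (x * y) ^ p ^ i with hr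
    have e : (x * y) ^ p ^ (i + 1) = (a * b * r) ^ p := by rw [pow_succ, pow_mul, hr, mul_inv_cancel_left]
    rw [e, pow_succ, pow_mul, pow_mul, ← ha, ← hb]
    have h1 := pow_mul_mod (p := p) hp2 (i := i) (a := a * b) (b := r)
      (ser_comm' (i := i) _ (ser_anti _ ih))
    have h2 := pow_mul_mod (p := p) hp2 (i := i) (a := a) (b := b) (ser_comm b (pow_pow_mem i x))
    refine QuotientGroup.eq.1 (show QuotientGroup.mk' (ser p E (i + 1 + 1)) (a ^ p * b ^ p) =
      QuotientGroup.mk' (ser p E (i + 1 + 1)) ((a * b * r) ^ p) from ?_)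
    rw [show QuotientGroup.mk' (ser p E (i + 1 + 1)) ((a * b * r) ^ p) =
      QuotientGroup.mk' (ser p E (i + 1 + 1)) ((a * b) ^ p * r ^ p) from (QuotientGroup.eq.2 h1).symm,
      map_mul _ ((a * b) ^ p), show QuotientGroup.mk' (ser p E (i + 1 + 1)) (r ^ p) = 1 from
      (QuotientGroup.eq_one_iff _).2 (ser_pow ih), mul_one]
    exact QuotientGroup.eq.2 h2

theorem pow_pow_frattini (i : ℕ) {x : E} (hx : x ∈ frattini E) : x ^ p ^ i ∈ ser p E (i + 1) := by
  induction i with
  | zero => rw [pow_zero, pow_one, ser_one hE]; exact hx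
  | succ i ih => rw [pow_succ, pow_mul]; exact ser_pow ih

/-- When the powers generate the Frattini subgroup modulo the third term, they generate every term
modulo the next. -/
theorem ser_le_powers (hp2 : p ≠ 2)
    (hpow : frattini E ≤ low p E ⊔ Subgroup.closure {g | ∃ x : E, g = x ^ p}) :
    ∀ i, ∀ z ∈ ser p E i, ∃ x : E, (x ^ p ^ i)⁻¹ * z ∈ ser p E (i + 1) := by
  -- the elements of the shape wanted form a subgroup
  let W : ℕ → Subgroup E := fun i =>
    { carrier := {z | ∃ x : E, (x ^ p ^ i)⁻¹ * z ∈ ser p E (i + 1)}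
      one_mem' := ⟨1, by simp⟩
      mul_mem' := fun {a b} ⟨x, hx⟩ ⟨y, hy⟩ => by
        refine ⟨x * y, QuotientGroup.eq.1 (show QuotientGroup.mk' (ser p E (i + 1)) _ = QuotientGroup.mk' _ _ from ?_)⟩
        rw [show QuotientGroup.mk' (ser p E (i + 1)) ((x * y) ^ p ^ i) =
          QuotientGroup.mk' (ser p E (i + 1)) (x ^ p ^ i * y ^ p ^ i) from
          (QuotientGroup.eq.2 (pow_pow_mul hp2 i x y)).symm, map_mul, map_mul]
        exact congrArg₂ (· * ·) (QuotientGroup.eq.2 hx) (QuotientGroup.eq.2 hy)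
      inv_mem' := fun {a} ⟨x, hx⟩ => by
        refine ⟨x⁻¹, QuotientGroup.eq.1 (show QuotientGroup.mk' (ser p E (i + 1)) _ = QuotientGroup.mk' _ _ from ?_)⟩
        rw [inv_pow, map_inv, map_inv]
        exact congrArg (·⁻¹) (QuotientGroup.eq.2 hx) }
  have hWle : ∀ i, ser p E (i + 1) ≤ W i := fun i z hz => ⟨1, by simpa using hz⟩
  suffices h : ∀ i, ser p E i ≤ W i from fun i z hz => h i hz
  have hpp : ∀ i x, x ^ p ^ i ∈ W i := fun i x => ⟨x, by simp⟩
  have hWn : ∀ i, (W i).Normal := fun i => ⟨fun z hz g => by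
    obtain ⟨x, hx⟩ := hz
    refine ⟨g * x * g⁻¹, ?_⟩
    have := Subgroup.Normal.conj_mem (inferInstance : (ser p E (i + 1)).Normal) _ hx g
    rw [conj_pow]
    simpa [mul_assoc] using this⟩
  intro i
  induction i with
  | zero => exact fun z _ => by simpa using hpp 0 z
  | succ i ih =>
    haveI := hWn (i + 1)
    -- powers
    have hP : ∀ z ∈ ser p E i, z ^ p ∈ W (i + 1) := by
      intro z hz
      obtain ⟨x, hx⟩ := ih hz
      obtain ⟨a, ha⟩ : ∃ a, a = x ^ p ^ i := ⟨_, rfl⟩
      rw [← ha] at hx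
      have h1 := pow_mul_mod (p := p) hp2 (i := i) (a := a) (b := a⁻¹ * z)
        (ser_comm' (i := i) _ (ser_anti _ hx))
      rw [mul_inv_cancel_left] at h1
      have h2 : a ^ p * (a⁻¹ * z) ^ p ∈ W (i + 1) := mul_mem
        (by rw [ha, ← pow_mul, ← pow_succ]; exact hpp _ x) (hWle _ (ser_pow hx))
      have := mul_mem h2 (hWle _ h1)
      rwa [mul_inv_cancel_left] at this
    refine sup_le (Subgroup.commutator_le.2 fun g _ z hz => ?_) ?_
    · obtain ⟨x, hx⟩ := ih hz
      rw [show ⁅g, z⁆ = ⁅g, x ^ p ^ i⁆ * (x ^ p ^ i * ⁅g, (x ^ p ^ i)⁻¹ * z⁆ * (x ^ p ^ i)⁻¹) by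
        simp only [commutatorElement_def]; group]
      refine mul_mem ?_ (Subgroup.Normal.conj_mem inferInstance _ (hWle _ (ser_comm g hx)) _)
      cases i with
      | zero =>
        have h2 : frattini E ≤ W 1 := by
          refine hpow.trans (sup_le ?_ ((Subgroup.closure_le _).2 ?_))
          · rw [← ser_two hE]; exact hWle 1
          · rintro _ ⟨x, rfl⟩
            simpa using hpp 1 x
        exact h2 (commutator_mem_frattini hE _ _)
      | succ k =>
        obtain ⟨a, ha⟩ : ∃ a, a = x ^ p ^ k := ⟨_, rfl⟩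
        have haE : a ∈ ser p E k := ha ▸ pow_pow_mem k x
        rw [pow_succ, pow_mul, ← ha]
        have e : ⁅g, a ^ p⁆ = (⁅g, a⁆ * a) ^ p * (a ^ p)⁻¹ := by
          rw [show ⁅g, a⁆ * a = g * a * g⁻¹ by rw [commutatorElement_def, inv_mul_cancel_right],
            conj_pow, commutatorElement_def]
        have hb := ser_comm g haE
        have h1 := pow_mul_mod (p := p) hp2 (i := k + 1) (a := ⁅g, a⁆) (b := a) (ser_comm a hb)
        rw [e, show (⁅g, a⁆ * a) ^ p * (a ^ p)⁻¹ = ⁅g, a⁆ ^ p * (a ^ p * ((⁅g, a⁆ ^ p * a ^ p)⁻¹ *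
          (⁅g, a⁆ * a) ^ p) * (a ^ p)⁻¹) by group]
        exact mul_mem (hP _ hb) (Subgroup.Normal.conj_mem inferInstance _ (hWle _ h1) _)
    · refine (Subgroup.closure_le _).2 ?_
      rintro _ ⟨z, hz, rfl⟩
      exact hP z hz

/-- The last layer of a group with powerful action on irreducible Frattini quotient. -/
theorem exists_layer (hp2 : p ≠ 2) (hΦ : frattini E ≠ ⊥)
    (hirr : ∀ U : Subgroup E, frattini E ≤ U → U.Characteristic → U ≤ frattini E ∨ U = ⊤)
    (hpow : frattini E ≤ low p E ⊔ Subgroup.closure {g | ∃ x : E, g = x ^ p}) :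
    ∃ Z : Subgroup E, Z.Characteristic ∧ Z ≤ frattini E ∧ (∀ z ∈ Z, ∀ g, Commute z g) ∧
      (∀ z ∈ Z, z ^ p = 1) ∧ Nat.card Z = (frattini E).index := by
  classical
  have hex := exists_ser_bot (p := p) hE
  have hn0 : ser p E (Nat.find hex) = ⊥ := Nat.find_spec hex
  have h2le : 2 ≤ Nat.find hex := by
    by_contra h
    refine hΦ (le_bot_iff.1 ?_)
    rcases (by omega : Nat.find hex = 0 ∨ Nat.find hex = 1) with h' | h' <;> rw [h'] at hn0
    · rw [ser_zero] at hn0; exact le_top.trans hn0.le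
    · rw [← ser_one hE, hn0]
  obtain ⟨m, hm⟩ : ∃ m, Nat.find hex = m + 1 := ⟨Nat.find hex - 1, by omega⟩
  have hbot : ser p E (m + 1) = ⊥ := hm ▸ hn0
  have hne : ser p E m ≠ ⊥ := Nat.find_min hex (by omega)
  have h1 : ∀ {z : E}, z ∈ ser p E (m + 1) → z = 1 := fun hz => Subgroup.mem_bot.1 (hbot ▸ hz)
  have hle : ser p E m ≤ frattini E := by
    rw [← ser_one hE]
    exact antitone_nat_of_succ_le (fun i => ser_anti i) (show 1 ≤ m by omega)
  let f : E →* E :=
    { toFun := fun x => x ^ p ^ m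
      map_one' := one_pow _
      map_mul' := fun x y => (inv_mul_eq_one.1 (h1 (pow_pow_mul hp2 m x y))).symm }
  have hfr : f.range = ser p E m := by
    refine le_antisymm (by rintro _ ⟨x, rfl⟩; exact pow_pow_mem m x) fun z hz => ?_
    obtain ⟨x, hx⟩ := ser_le_powers hE hp2 hpow m z hz
    exact ⟨x, inv_mul_eq_one.1 (h1 hx)⟩
  have hker : f.ker = frattini E := by
    have hge : frattini E ≤ f.ker := fun x hx => h1 (pow_pow_frattini hE m hx)
    refine le_antisymm ((hirr _ hge ?_).resolve_right fun h => hne ?_) hge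
    · refine Subgroup.characteristic_iff_le_comap.2 fun a x hx => ?_
      show a x ^ p ^ m = 1
      rw [← map_pow, show x ^ p ^ m = 1 from hx, map_one]
    · rw [← hfr, MonoidHom.range_eq_bot_iff]
      exact MonoidHom.ker_eq_top_iff.1 h
  refine ⟨ser p E m, inferInstance, hle,
    fun z hz g => commutatorElement_eq_one_iff_commute.1 (h1 (ser_comm' g hz)), fun z hz => h1 (ser_pow hz), ?_⟩
  rw [← hfr, ← Subgroup.index_ker, hker]

end Cfsg.Agent.RankThreeCore
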