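import Cfsg.Agent.Lib.RankThreeCore.JCase

/-!
The subgroups in the transvection case share their Frattini subgroup.
-/

set_option autoImplicit false
set_option linter.unusedSectionVars false
set_option maxHeartbeats 2000000

open scoped commutatorElement
open Cfsg.Agent.RankThreeEss

namespace Cfsg.Agent.RankThreeCore

variable {p : ℕ} [hp : Fact p.Prime] {G : Type*} [Group G] [Finite G]

/-- Consequences of a frame in the transvection case. -/
theorem tFacts (hG : IsPGroup p G) (hp2 : p ≠ 2) {E : Subgroup G} [E.Normal] (hidx : E.index = p) {y v w u : G}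
    (hf : TFrame p E y v w u) :
    (frattini G).index = p ^ 3 ∧ Nat.card (frattini G) = p * Nat.card (phi E) ∧
    (∀ g : G, ∀ k ∈ frattini G, ⁅g, k⁆ ∈ phi E) ∧ (∀ x : G, x ^ p ∈ phi E) ∧ (∀ x : G, ⁅u, x⁆ ∈ phi E) ∧
    u ∉ frattini G := by
  obtain ⟨hy, hyp, htop, hgen, r1, r2, r3, hw, hu, hv, hfrat⟩ := hf
  set Φ := phi E with hΦdef
  set Wd := Φ ⊔ Subgroup.zpowers w with hWd
  set Ku := Wd ⊔ Subgroup.zpowers u with hKu
  have hvE : v ∈ E := hgen ▸ Subgroup.subset_closure (by simp)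
  have huE : u ∈ E := hgen ▸ Subgroup.subset_closure (by simp)
  have hwE : w ∈ E := hgen ▸ Subgroup.subset_closure (by simp)
  have hEE : ∀ a ∈ E, ∀ b ∈ E, ⁅a, b⁆ ∈ Φ := fun a ha b hb => comm_mem_phi hG ha hb
  have hwcen := central_of_top htop Φ (fun e he => hEE e he w hwE) r2
  have hucen := central_of_top htop Φ (fun e he => hEE e he u huE) r3
  have hWc : ∀ g : G, ∀ k ∈ Wd, ⁅g, k⁆ ∈ Φ := by
    intro g k hk
    refine comm_of_mem Φ (fun r => ?_) g
    obtain ⟨φ, hφ, _, ⟨n, rfl⟩, rfl⟩ := Subgroup.mem_sup_of_normal_left.1 hk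
    rw [map_mul, show QuotientGroup.mk' Φ φ = 1 from (QuotientGroup.eq_one_iff _).2 hφ, one_mul, map_zpow]
    exact (hwcen r).zpow_left n
  haveI hWn : Wd.Normal := ⟨fun x hx g => by
    rw [show g * x * g⁻¹ = ⁅g, x⁆ * x by rw [commutatorElement_def, inv_mul_cancel_right]]
    exact mul_mem (Subgroup.mem_sup_left (hWc g x hx)) hx⟩
  have hKuc : ∀ g : G, ∀ k ∈ Ku, ⁅g, k⁆ ∈ Φ := by
    intro g k hk
    refine comm_of_mem Φ (fun r => ?_) g
    obtain ⟨a, ha, _, ⟨n, rfl⟩, rfl⟩ := Subgroup.mem_sup_of_normal_left.1 hk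
    obtain ⟨φ, hφ, _, ⟨m, rfl⟩, rfl⟩ := Subgroup.mem_sup_of_normal_left.1 ha
    rw [map_mul, map_mul, show QuotientGroup.mk' Φ φ = 1 from (QuotientGroup.eq_one_iff _).2 hφ, one_mul, map_zpow,
      map_zpow]
    exact ((hwcen r).zpow_left m).mul_left ((hucen r).zpow_left n)
  haveI hKn : Ku.Normal := ⟨fun x hx g => by
    rw [show g * x * g⁻¹ = ⁅g, x⁆ * x by rw [commutatorElement_def, inv_mul_cancel_right]]
    exact mul_mem (Subgroup.mem_sup_left (Subgroup.mem_sup_left (hKuc g x hx))) hx⟩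
  have hKE : Ku ≤ E := sup_le (sup_le (phi_le E) (Subgroup.zpowers_le.2 hwE)) (Subgroup.zpowers_le.2 huE)
  have hEK : E = Ku ⊔ Subgroup.zpowers v := by
    refine le_antisymm ?_ (sup_le hKE (Subgroup.zpowers_le.2 hvE))
    rw [← hgen, Subgroup.closure_le]
    rintro x (rfl | rfl | rfl)
    exacts [Subgroup.mem_sup_right (Subgroup.mem_zpowers _),
      Subgroup.mem_sup_left (Subgroup.mem_sup_left (Subgroup.mem_sup_right (Subgroup.mem_zpowers _))),
      Subgroup.mem_sup_left (Subgroup.mem_sup_right (Subgroup.mem_zpowers _))]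
  have hcW : Nat.card Wd = p * Nat.card Φ := card_sup_eq hG hw (pow_mem_phi hG hwE)
  have hcK : Nat.card Ku = p * Nat.card Wd := card_sup_eq hG hu (Subgroup.mem_sup_left (pow_mem_phi hG huE))
  have hcE : Nat.card E = p * Nat.card Ku := by
    rw [hEK]
    exact card_sup_eq hG hv (Subgroup.mem_sup_left (Subgroup.mem_sup_left (pow_mem_phi hG hvE)))
  have hfK : frattini G ≤ Ku := hfrat ▸ le_sup_left
  refine ⟨?_, hfrat ▸ hcW, fun g k hk => hWc g k (hfrat ▸ hk), fun x => ?_, fun x => ?_, hfrat ▸ hu⟩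
  · have h2 := E.card_mul_index
    rw [hidx, hcE, hcK, ← Wd.card_mul_index] at h2
    rw [hfrat]
    have h3 : Nat.card Wd * p ^ 3 = Nat.card Wd * Wd.index := by rw [← h2]; ring
    exact (Nat.eq_of_mul_eq_mul_left Nat.card_pos h3).symm
  · set π := QuotientGroup.mk' Φ with hπ
    have hcl : ∀ a b g : G ⧸ Φ, Commute ⁅a, b⁆ g := by
      intro a b g
      obtain ⟨a, rfl⟩ := QuotientGroup.mk'_surjective Φ a
      obtain ⟨b, rfl⟩ := QuotientGroup.mk'_surjective Φ b
      obtain ⟨g, rfl⟩ := QuotientGroup.mk'_surjective Φ g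
      rw [← map_commutatorElement, ← commutatorElement_eq_one_iff_commute, ← map_commutatorElement]
      refine (QuotientGroup.eq_one_iff _).2 ?_
      rw [← commutatorElement_inv]
      exact inv_mem (hWc g _ (hfrat ▸ commutator_mem_frattini hG a b))
    have hcp : ∀ a b : G ⧸ Φ, ⁅a, b⁆ ^ p = 1 := by
      intro a b
      obtain ⟨a, rfl⟩ := QuotientGroup.mk'_surjective Φ a
      obtain ⟨b, rfl⟩ := QuotientGroup.mk'_surjective Φ b
      rw [← map_commutatorElement, ← map_pow]
      exact (QuotientGroup.eq_one_iff _).2 (pow_mem_phi hG (hKE (hfK (commutator_mem_frattini hG a b))))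
    let f : G →* G ⧸ Φ :=
      MonoidHom.comp { toFun := fun r => r ^ p, map_one' := one_pow p, map_mul' := mul_pow_prime hp2 hcl hcp } π
    have h := all_of_top htop (K := f.ker)
      (fun e he => show π e ^ p = 1 by rw [← map_pow]; exact (QuotientGroup.eq_one_iff _).2 (pow_mem_phi hG he))
      (show π y ^ p = 1 by rw [← map_pow]; exact (QuotientGroup.eq_one_iff _).2 hyp) x
    have h' : π x ^ p = 1 := h
    rw [← map_pow] at h'
    exact (QuotientGroup.eq_one_iff _).1 h'
  · rw [← commutatorElement_inv]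
    exact inv_mem (hKuc x u (Subgroup.mem_sup_right (Subgroup.mem_zpowers u)))

/-- The Frattini subgroups agree. -/
theorem tPhi_eq (hG : IsPGroup p G) (h5 : 5 ≤ p) (hsec : Cfsg.SectionalPRankLE p 3 G) {E₁ E₂ : Subgroup G}
    (h₁ : TData p E₁) (h₂ : TData p E₂) : phi E₁ = phi E₂ := by
  have hp2 : p ≠ 2 := by omega
  obtain ⟨hn1, hidx1, y1, v1, w1, u1, hf1⟩ := h₁
  obtain ⟨hn2, hidx2, y2, v2, w2, u2, hf2⟩ := h₂
  obtain ⟨-, hc1, hF1, hP1, hU1, hu1⟩ := tFacts hG hp2 hidx1 hf1
  obtain ⟨-, hc2, hF2, hP2, hU2, hu2⟩ := tFacts hG hp2 hidx2 hf2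
  have hcc : Nat.card (phi E₁) = Nat.card (phi E₂) :=
    Nat.eq_of_mul_eq_mul_left hp.out.pos (hc1.symm.trans hc2)
  by_contra hne
  obtain ⟨t1, ht1, ht1'⟩ := SetLike.not_le_iff_exists.1
    (fun h => hne (Subgroup.eq_of_le_of_card_ge h hcc.ge) : ¬ phi E₁ ≤ phi E₂)
  obtain ⟨t2, ht2, ht2'⟩ := SetLike.not_le_iff_exists.1
    (fun h => hne (Subgroup.eq_of_le_of_card_ge h hcc.le).symm : ¬ phi E₂ ≤ phi E₁)
  set D := phi E₁ ⊓ phi E₂ with hD
  haveI hDn : D.Normal := inferInstanceAs (phi E₁ ⊓ phi E₂).Normal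
  set π := QuotientGroup.mk' D with hπ
  have hf1Φ : phi E₁ ≤ frattini G := hf1.frat ▸ le_sup_left
  have hf2Φ : phi E₂ ≤ frattini G := hf2.frat ▸ le_sup_left
  have hcen : ∀ k ∈ frattini G, ∀ r, Commute (π k) r := fun k hk r => by
    obtain ⟨g, rfl⟩ := QuotientGroup.mk'_surjective D r
    refine Commute.symm ?_
    rw [← commutatorElement_eq_one_iff_commute, ← map_commutatorElement]
    exact (QuotientGroup.eq_one_iff _).2 ⟨hF1 g k hk, hF2 g k hk⟩
  have hpp : ∀ g : G, π g ^ p = 1 := fun g => by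
    rw [← map_pow]; exact (QuotientGroup.eq_one_iff _).2 ⟨hP1 g, hP2 g⟩
  -- the two fixed lines differ
  have hind : u2 ∉ frattini G ⊔ Subgroup.zpowers u1 := by
    intro h
    set ρ := QuotientGroup.mk' (phi E₂) with hρ
    obtain ⟨k, hk⟩ := exists_ev_sup (Cfsg.Agent.PGroupBasics.pow_mem_frattini hG u1) h
    have hk0 : k ≠ 0 := fun h0 => hu2 (by rwa [h0, ev_zero, inv_one, one_mul] at hk)
    obtain ⟨a, ha, hae⟩ : ∃ a ∈ frattini G, u2 = ev u1 k * a := ⟨_, hk, (mul_inv_cancel_left _ _).symm⟩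
    have hU : ∀ x, ⁅u1, x⁆ ∈ phi E₂ := by
      intro x
      have h1 : Commute (ρ u2) (ρ x) := by
        rw [← commutatorElement_eq_one_iff_commute, ← map_commutatorElement]
        exact (QuotientGroup.eq_one_iff _).2 (hU2 x)
      have h2 : Commute (ρ a) (ρ x) := by
        refine Commute.symm ?_
        rw [← commutatorElement_eq_one_iff_commute, ← map_commutatorElement]
        exact (QuotientGroup.eq_one_iff _).2 (hF2 x a ha)
      have h3 : Commute (ev (ρ u1) k) (ρ x) := by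
        rw [hae, map_mul, map_ev] at h1
        simpa using h1.mul_left h2.inv_left
      refine (QuotientGroup.eq_one_iff _).1 (show ρ ⁅u1, x⁆ = 1 from ?_)
      rw [map_commutatorElement, commutatorElement_eq_one_iff_commute]
      have hp1 : ρ u1 ^ p = 1 := by rw [← map_pow]; exact (QuotientGroup.eq_one_iff _).2 (hP2 u1)
      have h4 := h3.evLeft k⁻¹
      rwa [← ev_mul hp1, mul_inv_cancel₀ hk0, ev_one] at h4
    set C := π ⁅y1, v1⁆ with hC
    have hcl : ∀ a b g : G ⧸ D, Commute ⁅a, b⁆ g := by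
      intro a b g
      obtain ⟨a, rfl⟩ := QuotientGroup.mk'_surjective D a
      obtain ⟨b, rfl⟩ := QuotientGroup.mk'_surjective D b
      rw [← map_commutatorElement]
      exact hcen _ (commutator_mem_frattini hG a b) g
    have hw1F : w1 ∈ frattini G := hf1.frat.ge (Subgroup.mem_sup_right (Subgroup.mem_zpowers w1))
    have hu1c : ∀ r, Commute (π u1) r := fun r => by
      obtain ⟨g, rfl⟩ := QuotientGroup.mk'_surjective D r
      rw [← commutatorElement_eq_one_iff_commute, ← map_commutatorElement]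
      exact (QuotientGroup.eq_one_iff _).2 ⟨hU1 g, hU g⟩
    have hgenG : Subgroup.closure ({y1, v1, u1, w1} : Set G) = ⊤ := by
      rw [eq_top_iff, ← hf1.top, ← hf1.gen]
      refine sup_le (Subgroup.closure_mono (by intro z; simp; tauto))
        (Subgroup.zpowers_le.2 (Subgroup.subset_closure (by simp)))
    have hgenQ : Subgroup.closure ({π y1, π v1, π u1, π w1} : Set (G ⧸ D)) = ⊤ := by
      rw [show ({π y1, π v1, π u1, π w1} : Set (G ⧸ D)) = π '' {y1, v1, u1, w1} by simp [Set.image_insert_eq],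
        ← MonoidHom.map_closure, hgenG, Subgroup.map_top_of_surjective _ (QuotientGroup.mk'_surjective D)]
    have hcm : ∀ a b : G ⧸ D, ⁅a, b⁆ ∈ Subgroup.zpowers C := by
      refine comm_mem_of_gen hcl hgenQ ?_
      have hA : ∀ {a b : G ⧸ D}, Commute a b → ⁅a, b⁆ ∈ Subgroup.zpowers C := fun h => by
        rw [commutatorElement_eq_one_iff_commute.2 h]; exact one_mem _
      have hyv : ⁅π y1, π v1⁆ ∈ Subgroup.zpowers C := by
        rw [← map_commutatorElement]; exact Subgroup.mem_zpowers _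
      have hvy : ⁅π v1, π y1⁆ ∈ Subgroup.zpowers C := by
        rw [← commutatorElement_inv]; exact inv_mem hyv
      rintro a (rfl | rfl | rfl | rfl) b (rfl | rfl | rfl | rfl)
      exacts [hA (Commute.refl _), hyv, hA (hu1c _).symm, hA (hcen _ hw1F _).symm, hvy, hA (Commute.refl _),
        hA (hu1c _).symm, hA (hcen _ hw1F _).symm, hA (hu1c _), hA (hu1c _), hA (hu1c _), hA (hu1c _),
        hA (hcen _ hw1F _), hA (hcen _ hw1F _), hA (hcen _ hw1F _), hA (hcen _ hw1F _)]
    set c := ⁅y1, v1⁆ with hc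
    have hfle : frattini G ≤ D ⊔ Subgroup.zpowers c := by
      have hback : ∀ g, π g ∈ Subgroup.zpowers C → g ∈ D ⊔ Subgroup.zpowers c := fun g hg => by
        obtain ⟨n, hn⟩ := Subgroup.mem_zpowers_iff.1 hg
        rw [hC, ← map_zpow] at hn
        have := mul_mem (Subgroup.mem_sup_right (S := D) (zpow_mem (Subgroup.mem_zpowers c) n))
          (Subgroup.mem_sup_left (T := Subgroup.zpowers c) (QuotientGroup.eq.1 hn))
        rwa [mul_inv_cancel_left] at this
      refine Cfsg.Agent.LEFrattini.frattini_le (p := p) (fun a b => hback _ ?_) fun a => hback _ ?_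
      · rw [map_commutatorElement]; exact hcm _ _
      · rw [map_pow, hpp]; exact one_mem _
    have hsmall := (Subgroup.card_le_of_le hfle).trans
      (card_sup_zpowers_le (w := c) ⟨hP1 c, hP2 c⟩)
    have hbig : p * Nat.card D ≤ Nat.card (phi E₁) :=
      step hG (inf_le_left : D ≤ phi E₁) ht1 fun h' => ht1' h'.2
    rw [hc1] at hsmall
    have := Nat.le_of_mul_le_mul_left hsmall hp.out.pos
    have h0 : 0 < Nat.card D := Nat.card_pos
    have := hp.out.two_le
    nlinarith
  -- four commuting independent elements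
  have hcu : Commute (π u1) (π u2) := by
    rw [← commutatorElement_eq_one_iff_commute, ← map_commutatorElement]
    refine (QuotientGroup.eq_one_iff _).2 ⟨hU1 u2, ?_⟩
    show ⁅u1, u2⁆ ∈ phi E₂
    rw [← commutatorElement_inv]
    exact inv_mem (hU2 u1)
  have hback : ∀ (K : Subgroup G) {x : G} {s : Set (G ⧸ D)}, D ≤ K → s ⊆ π '' (K : Set G) →
      π x ∈ Subgroup.closure s → x ∈ K := fun K {x s} hK hs hx => by
    obtain ⟨x', hx', he⟩ := ((Subgroup.closure_le (K.map π)).2 (by rw [Subgroup.coe_map]; exact hs)) hx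
    have := mul_mem hx' (hK (QuotientGroup.eq.1 he))
    rwa [mul_inv_cancel_left] at this
  refine rank_contra hsec (MonoidHom.id G) Function.injective_id π ![t1, t2, u1, u2] (hG.to_quotient D) ?_
    (fun i => hpp _) ?_ ?_ ?_ ?_
  · intro i k
    fin_cases i <;> fin_cases k <;> simp only [Matrix.cons_val, Fin.zero_eta, Fin.mk_one] <;>
      first
        | exact Commute.refl _
        | exact hcen _ (hf1Φ ht1) _
        | exact (hcen _ (hf1Φ ht1) _).symm
        | exact hcen _ (hf2Φ ht2) _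
        | exact (hcen _ (hf2Φ ht2) _).symm
        | exact hcu
        | exact hcu.symm
  · intro h
    exact ht1' ((QuotientGroup.eq_one_iff _).1 h).2
  · intro h
    refine ht2' (hback (phi E₁) inf_le_left ?_ h)
    rintro _ rfl
    exact ⟨_, ht1, rfl⟩
  · intro h
    refine hu1 (hback (frattini G) (inf_le_left.trans hf1Φ) ?_ h)
    rintro _ (rfl | rfl)
    exacts [⟨_, hf1Φ ht1, rfl⟩, ⟨_, hf2Φ ht2, rfl⟩]
  · intro h
    refine hind (hback _ ((inf_le_left.trans hf1Φ).trans le_sup_left) ?_ h)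
    rintro _ (rfl | rfl | rfl)
    exacts [⟨_, Subgroup.mem_sup_left (hf1Φ ht1), rfl⟩, ⟨_, Subgroup.mem_sup_left (hf2Φ ht2), rfl⟩,
      ⟨_, Subgroup.mem_sup_right (Subgroup.mem_zpowers u1), rfl⟩]

end Cfsg.Agent.RankThreeCore
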